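import Cfsg.Agent.Lib.Orth.Facts
import Cfsg.Agent.Lib.Perm.Trans.QuadSimple

/-!
# The centre of `Omega` and the order of `POmega`
-/

set_option autoImplicit false
set_option linter.all false

namespace CfsgLib.Orth

open scoped Matrix
open Matrix Cfsg.Geo CfsgLib.Perm.Asch CfsgLib.Perm.Trans CfsgLib.Perm.Trans.Quad

variable {ι : Type} [Fintype ι] [DecidableEq ι] {F : Type*} [Field F] [Fintype F]
variable {Q : (ι → F) → F}

local notation "pol" => QuadraticMap.polar

variable (hQ : IsNondegenerateQuadraticForm Q)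
include hQ

/-- central elements of `Omega` are signs -/
theorem omega_center_sign (hn : 5 ≤ Fintype.card ι) {z : Cfsg.Omega F Q} (hz : z ∈ Subgroup.center (Cfsg.Omega F Q)) :
    (z.1.1 : Matrix ι ι F) = 1 ∨ (z.1.1 : Matrix ι ι F) = -1 := by
  obtain ⟨c, hc⟩ := scalar_of_fix hQ hn (g := omv z) fun u hu => by
    by_cases hu0 : u = 0
    · exact ⟨1, by rw [hu0, mulVec_zero, smul_zero]⟩
    · exact center_fix hQ hn hz hu0 hu
  obtain ⟨e, -, he⟩ := exists_nonsingular hQ (ndOn_top hQ) (fun hbot => by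
    have : Module.finrank F (ι → F) = 0 := by rw [← finrank_top F (ι → F), hbot, finrank_bot]
    rw [Module.finrank_fintype_fun_eq_card] at this
    omega)
  have h1 := mem_iso.1 (omv_iso z) e
  rw [hc, qsmul hQ] at h1
  have hc2 : c ^ 2 = 1 := mul_right_cancel₀ he (by rw [h1, one_mul])
  rcases sq_eq_one_iff.1 hc2 with h | h
  · exact Or.inl (Matrix.ext_iff_mulVec.2 fun x => by rw [hc, h, one_smul, one_mulVec])
  · exact Or.inr (Matrix.ext_iff_mulVec.2 fun x => by rw [hc, h, neg_one_smul, neg_mulVec, one_mulVec])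

theorem card_center_omega_of_not (hn : 5 ≤ Fintype.card ι)
    (h : ¬ ∃ g : ↥(Cfsg.isometryGroup F Q), g ∈ Cfsg.Omega F Q ∧ ((g : GL ι F) : Matrix ι ι F) = -1) :
    Nat.card (Subgroup.center (Cfsg.Omega F Q)) = 1 := by
  rw [Nat.card_eq_one_iff_unique]
  refine ⟨⟨fun a b => ?_⟩, ⟨1⟩⟩
  have key : ∀ a : Subgroup.center (Cfsg.Omega F Q), a.1.1.1.1 = (1 : Matrix ι ι F) := fun a => by
    rcases omega_center_sign hQ hn a.2 with e | e
    · exact e
    · exact absurd ⟨a.1.1, a.1.2, e⟩ h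
  exact Subtype.ext (Subtype.ext (Subtype.ext (Units.ext ((key a).trans (key b).symm))))

theorem card_center_omega_of_mem (hn : 5 ≤ Fintype.card ι) (h2 : (2 : F) ≠ 0)
    (h : ∃ g : ↥(Cfsg.isometryGroup F Q), g ∈ Cfsg.Omega F Q ∧ ((g : GL ι F) : Matrix ι ι F) = -1) :
    Nat.card (Subgroup.center (Cfsg.Omega F Q)) = 2 := by
  obtain ⟨g, hg, hgm⟩ := h
  have hzc : (⟨g, hg⟩ : Cfsg.Omega F Q) ∈ Subgroup.center (Cfsg.Omega F Q) := Subgroup.mem_center_iff.2 fun x =>
    Subtype.ext (Subtype.ext (Units.ext (by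
      show (x.1.1 : Matrix ι ι F) * (g.1 : Matrix ι ι F) = (g.1 : Matrix ι ι F) * x.1.1
      rw [hgm, mul_neg, neg_mul, mul_one, one_mul])))
  have hne : (1 : Subgroup.center (Cfsg.Omega F Q)) ≠ ⟨_, hzc⟩ := fun e => by
    have e' : (1 : Matrix ι ι F) = -1 := by
      rw [← hgm]
      exact congrArg (fun a : Subgroup.center (Cfsg.Omega F Q) => (a.1.1.1 : Matrix ι ι F)) e
    have : Nonempty ι := Fintype.card_pos_iff.1 (by omega)
    obtain ⟨i⟩ := this
    have e2 := congrFun (congrFun e' i) i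
    rw [Matrix.one_apply_eq, Matrix.neg_apply, Matrix.one_apply_eq] at e2
    exact h2 (by linear_combination e2)
  have hset : (Set.univ : Set (Subgroup.center (Cfsg.Omega F Q))) = {1, ⟨_, hzc⟩} := by
    ext a
    simp only [Set.mem_univ, Set.mem_insert_iff, Set.mem_singleton_iff, true_iff]
    rcases omega_center_sign hQ hn a.2 with e | e
    · exact Or.inl (Subtype.ext (Subtype.ext (Subtype.ext (Units.ext e))))
    · exact Or.inr (Subtype.ext (Subtype.ext (Subtype.ext (Units.ext (e.trans hgm.symm)))))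
  rw [← Set.ncard_univ, hset, Set.ncard_pair hne]

theorem card_center_omega_two (hn : 5 ≤ Fintype.card ι) (h2 : (2 : F) = 0) :
    Nat.card (Subgroup.center (Cfsg.Omega F Q)) = 1 := by
  haveI : CharP F 2 := CharTwo.of_one_ne_zero_of_two_eq_zero one_ne_zero h2
  have hneg : (-1 : Matrix ι ι F) = 1 := by
    ext i j
    rw [Matrix.neg_apply, CharTwo.neg_eq]
  rw [Nat.card_eq_one_iff_unique]
  refine ⟨⟨fun a b => ?_⟩, ⟨1⟩⟩
  have key : ∀ a : Subgroup.center (Cfsg.Omega F Q), a.1.1.1.1 = (1 : Matrix ι ι F) := fun a => by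
    rcases omega_center_sign hQ hn a.2 with e | e
    · exact e
    · exact e.trans hneg
  exact Subtype.ext (Subtype.ext (Subtype.ext (Units.ext ((key a).trans (key b).symm))))

/-- order of `POmega` from the order of the isometry group -/
theorem card_pomega_mul (hn : 2 ≤ Fintype.card ι) (hex : Fintype.card F ≠ 2 ∨ Fintype.card ι ≠ 4) :
    Nat.card (Cfsg.POmega F Q) * Nat.card (Subgroup.center (Cfsg.Omega F Q)) * (Nat.card (SqClass F) * 2) =
      Nat.card (Cfsg.isometryGroup F Q) := by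
  rw [← omega_index_eq hQ hn hex, ← Subgroup.card_eq_card_quotient_mul_card_subgroup, Subgroup.card_mul_index]

omit hQ in
theorem gcd_four_facts {x : ℕ} : (x % 4 = 0 → Nat.gcd 4 x = 4) ∧ (x % 4 = 2 → Nat.gcd 4 x = 2) ∧
    (x % 2 = 1 → Nat.gcd 4 x = 1) := by
  rw [Nat.gcd_rec 4 x]
  refine ⟨fun h => by rw [h]; rfl, fun h => by rw [h]; rfl, fun h => ?_⟩
  rcases (show x % 4 = 1 ∨ x % 4 = 3 by omega) with e | e <;> rw [e] <;> rfl

omit hQ in
theorem two_eq_zero_of_even (h : Even (Fintype.card F)) : (2 : F) = 0 := by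
  by_contra h2
  have := FiniteField.odd_card_of_char_ne_two (F := F)
    (fun e => h2 (by haveI := ringChar.of_eq e; exact CharTwo.two_eq_zero))
  rw [Nat.even_iff] at h
  omega

end CfsgLib.Orth
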