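import Cfsg.Agent.Lib.Orth.Stab

/-!
# The two families of maximal totally singular subspaces
-/

set_option autoImplicit false
set_option linter.all false

namespace CfsgLib.Orth

open scoped Matrix
open Matrix Cfsg.Geo CfsgLib.Perm.Asch CfsgLib.Perm.Trans CfsgLib.Perm.Trans.Quad

variable {ι : Type} [Fintype ι] [DecidableEq ι] {F : Type*} [Field F] [Fintype F]
variable {Q : (ι → F) → F}

local notation "pol" => QuadraticMap.polar

omit [Fintype F] in
theorem map_gl_finrank (g : GL ι F) (U : Submodule F (ι → F)) :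
    Module.finrank F ↥(U.map (Matrix.mulVecLin (g : Matrix ι ι F))) = Module.finrank F U :=
  (Submodule.equivMapOfInjective _ (Matrix.mulVec_injective_iff_isUnit.2 g.isUnit) U).finrank_eq.symm

omit [Fintype F] in
theorem map_gl_one (U : Submodule F (ι → F)) : U.map (Matrix.mulVecLin ((1 : GL ι F) : Matrix ι ι F)) = U := by
  rw [Units.val_one, Matrix.mulVecLin_one, Submodule.map_id]

variable (hQ : IsNondegenerateQuadraticForm Q)
include hQ

/-- a reflection changes the dimension of the intersection by exactly one -/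
theorem refl_inter_step {m : ℕ} (hm : Fintype.card ι = m + m) {U U' : Submodule F (ι → F)} (hU : Module.finrank F U = m)
    (hU' : Module.finrank F U' = m) (hUs : ∀ x ∈ U, Q x = 0) (hU's : ∀ x ∈ U', Q x = 0) {r : GL ι F}
    (hr : r ∈ Cfsg.isometryGroup F Q) {v : ι → F} (hv : Q v ≠ 0) (hrv : IsRefl Q v r) :
    Module.finrank F ↥(U ⊓ U') + 1 = Module.finrank F ↥(U ⊓ U'.map (Matrix.mulVecLin (r : Matrix ι ι F))) ∨
    Module.finrank F ↥(U ⊓ U'.map (Matrix.mulVecLin (r : Matrix ι ι F))) + 1 = Module.finrank F ↥(U ⊓ U') := by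
  obtain ⟨R, hR⟩ : ∃ R, R = U'.map (Matrix.mulVecLin (r : Matrix ι ι F)) := ⟨_, rfl⟩
  rw [← hR]
  have hiso : ∀ {A : Submodule F (ι → F)}, (∀ x ∈ A, Q x = 0) → ∀ x ∈ A, ∀ y ∈ A, pol Q x y = 0 :=
    fun hA x hx y hy => by rw [QuadraticMap.polar, hA _ (Submodule.add_mem _ hx hy), hA x hx, hA y hy]; ring
  have hRd : Module.finrank F R = m := by rw [hR, map_gl_finrank, hU']
  have hRs : ∀ x ∈ R, Q x = 0 := by
    rw [hR]; rintro _ ⟨y, hy, rfl⟩
    rw [Matrix.mulVecLin_apply, mem_iso.1 hr]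
    exact hU's y hy
  obtain ⟨K, hK⟩ : ∃ K, K = U' ⊓ LinearMap.ker (pfl hQ v) := ⟨_, rfl⟩
  have hKU' : K ≤ U' := hK ▸ inf_le_left
  have hKR : K ≤ R := fun x hx => by
    rw [hK] at hx
    rw [hR]
    refine ⟨x, hx.1, ?_⟩
    rw [Matrix.mulVecLin_apply]
    exact refl_fix hQ hrv hx.2
  obtain ⟨u, hu, huv⟩ : ∃ u ∈ U', pol Q u v ≠ 0 := by
    by_contra hcon
    push Not at hcon
    have hle : U' ⊔ Submodule.span F {v} ≤ qperp hQ U' := sup_le (fun x hx y hy => hiso hU's x hx y hy)
      ((Submodule.span_singleton_le_iff_mem _ _).2 fun y hy => by rw [pcomm]; exact hcon y hy)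
    have h1 := Submodule.finrank_mono hle
    have h2 := finrank_qperp_le hQ U'
    have h3 : Module.finrank F U' < Module.finrank F ↥(U' ⊔ Submodule.span F {v}) :=
      Submodule.finrank_lt_finrank_of_lt (lt_of_le_of_ne le_sup_left fun e =>
        hv (hU's v (e.symm ▸ Submodule.mem_sup_right (Submodule.mem_span_singleton_self v))))
    omega
  have hKd : Module.finrank F K + 1 = m := by
    have h1 := finrank_inf_pfl hQ U' v
    have h2 : Module.finrank F K < Module.finrank F U' := Submodule.finrank_lt_finrank_of_lt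
      (lt_of_le_of_ne hKU' fun e => huv (by
        have : u ∈ K := e.symm ▸ hu
        rw [hK] at this
        exact this.2))
    rw [← hK] at h1
    omega
  obtain ⟨w, hw⟩ : ∃ w, w = (r : Matrix ι ι F) *ᵥ u := ⟨_, rfl⟩
  have hwR : w ∈ R := hR ▸ ⟨u, hu, hw.symm⟩
  have huw : pol Q u w ≠ 0 := by
    rw [hw, hrv, psub_right hQ, psmul_right hQ, pself hQ, hU's u hu, mul_zero, zero_sub, neg_ne_zero]
    exact mul_ne_zero (mul_ne_zero (inv_ne_zero hv) huv) huv
  have huK : u ∉ K := fun h => huv (by rw [hK] at h; exact h.2)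
  obtain ⟨P, hP⟩ : ∃ P, P = qperp hQ K := ⟨_, rfl⟩
  have hPdec : P ≤ K ⊔ Submodule.span F {u} ⊔ Submodule.span F {w} := by
    have hle : K ⊔ Submodule.span F {u} ⊔ Submodule.span F {w} ≤ P := by
      rw [hP]
      refine sup_le (sup_le (fun x hx y hy => hiso hU's x (hKU' hx) y (hKU' hy))
        ((Submodule.span_singleton_le_iff_mem _ _).2 fun y hy => hiso hU's u hu y (hKU' hy)))
        ((Submodule.span_singleton_le_iff_mem _ _).2 fun y hy => hiso hRs w hwR y (hKR hy))
    refine le_of_eq (Submodule.eq_of_le_of_finrank_le hle ?_).symm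
    have h1 : Module.finrank F K < Module.finrank F ↥(K ⊔ Submodule.span F {u}) :=
      Submodule.finrank_lt_finrank_of_lt (lt_of_le_of_ne le_sup_left fun e =>
        huK (e.symm ▸ Submodule.mem_sup_right (Submodule.mem_span_singleton_self u)))
    have h2 : Module.finrank F ↥(K ⊔ Submodule.span F {u}) <
        Module.finrank F ↥(K ⊔ Submodule.span F {u} ⊔ Submodule.span F {w}) :=
      Submodule.finrank_lt_finrank_of_lt (lt_of_le_of_ne le_sup_left fun e => huw (by
        have hmem : w ∈ U' := (sup_le hKU' ((Submodule.span_singleton_le_iff_mem _ _).2 hu))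
          (e.symm ▸ Submodule.mem_sup_right (Submodule.mem_span_singleton_self w))
        exact hiso hU's u hu w hmem))
    have h3 := finrank_qperp_le hQ K
    rw [hP]
    omega
  obtain ⟨d, hd⟩ : ∃ d, d = Module.finrank F ↥(U ⊓ K) := ⟨_, rfl⟩
  have hbound : ∀ {A : Submodule F (ι → F)}, K ≤ A → Module.finrank F A = m →
      d ≤ Module.finrank F ↥(U ⊓ A) ∧ Module.finrank F ↥(U ⊓ A) ≤ d + 1 := by
    intro A hKA hA
    refine ⟨hd ▸ Submodule.finrank_mono (inf_le_inf_left U hKA), ?_⟩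
    have h1 := Submodule.finrank_sup_add_finrank_inf_eq (U ⊓ A) K
    have h2 : Module.finrank F ↥((U ⊓ A) ⊔ K) ≤ m := hA ▸ Submodule.finrank_mono (sup_le inf_le_right hKA)
    have h3 : Module.finrank F ↥(U ⊓ A ⊓ K) ≤ d := hd ▸ Submodule.finrank_mono (inf_le_inf_right K inf_le_left)
    omega
  obtain ⟨a1, b1⟩ := hbound hKU' hU'
  obtain ⟨a2, b2⟩ := hbound hKR hRd
  -- not both
  have hnot : ¬ (Module.finrank F ↥(U ⊓ U') = d + 1 ∧ Module.finrank F ↥(U ⊓ R) = d + 1) := by
    rintro ⟨e1, e2⟩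
    obtain ⟨y, hy, hyK⟩ : ∃ y ∈ U ⊓ U', y ∉ K := by
      by_contra hcon
      push Not at hcon
      have := Submodule.finrank_mono (le_inf inf_le_left hcon : U ⊓ U' ≤ U ⊓ K)
      omega
    obtain ⟨z, hz, hzK⟩ : ∃ z ∈ U ⊓ R, z ∉ K := by
      by_contra hcon
      push Not at hcon
      have := Submodule.finrank_mono (le_inf inf_le_left hcon : U ⊓ R ≤ U ⊓ K)
      omega
    have hyP : y ∈ P := hP ▸ fun k hk => hiso hU's y hy.2 k (hKU' hk)
    have hzP : z ∈ P := hP ▸ fun k hk => hiso hRs z hz.2 k (hKR hk)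
    obtain ⟨ku, hku, β', hβ', rfl⟩ := Submodule.mem_sup.1 (hPdec hyP)
    obtain ⟨k, hk, α', hα', rfl⟩ := Submodule.mem_sup.1 hku
    obtain ⟨α, rfl⟩ := Submodule.mem_span_singleton.1 hα'
    obtain ⟨β, rfl⟩ := Submodule.mem_span_singleton.1 hβ'
    obtain ⟨ku', hku', δ', hδ', rfl⟩ := Submodule.mem_sup.1 (hPdec hzP)
    obtain ⟨k', hk', γ', hγ', rfl⟩ := Submodule.mem_sup.1 hku'
    obtain ⟨γ, rfl⟩ := Submodule.mem_span_singleton.1 hγ'
    obtain ⟨δ, rfl⟩ := Submodule.mem_span_singleton.1 hδ'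
    have hβ : β = 0 := by
      have h1 : pol Q u (k + α • u + β • w) = 0 := hiso hU's u hu _ hy.2
      rw [padd_right hQ, padd_right hQ, psmul_right hQ, psmul_right hQ, pself hQ, hU's u hu,
        hiso hU's u hu k (hKU' hk)] at h1
      simp only [mul_zero, zero_add, mul_eq_zero] at h1
      exact h1.resolve_right huw
    have hγ : γ = 0 := by
      have h1 : pol Q w (k' + γ • u + δ • w) = 0 := hiso hRs w hwR _ hz.2
      rw [padd_right hQ, padd_right hQ, psmul_right hQ, psmul_right hQ, pself hQ, hRs w hwR,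
        hiso hRs w hwR k' (hKR hk'), pcomm w u] at h1
      simp only [mul_zero, zero_add, add_zero, mul_eq_zero] at h1
      exact h1.resolve_right huw
    have hα : α ≠ 0 := fun e => hyK (by rw [e, hβ, zero_smul, zero_smul, add_zero, add_zero]; exact hk)
    have hδ : δ ≠ 0 := fun e => hzK (by rw [hγ, e, zero_smul, zero_smul, add_zero, add_zero]; exact hk')
    have h1 := hiso hUs _ hy.1 _ hz.1
    simp only [hβ, hγ, zero_smul, add_zero, padd_left hQ, padd_right hQ, psmul_left hQ, psmul_right hQ,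
      hiso hU's k (hKU' hk) k' (hKU' hk'), hiso hRs k (hKR hk) w hwR, hiso hU's u hu k' (hKU' hk'), mul_zero,
      zero_add, mul_eq_zero] at h1
    rcases h1 with h | h | h
    · exact hα h
    · exact hδ h
    · exact huw h
  -- at least one
  have hone : ¬ (Module.finrank F ↥(U ⊓ U') = d ∧ Module.finrank F ↥(U ⊓ R) = d) := by
    rintro ⟨e1, e2⟩
    obtain ⟨x, hx, hxK⟩ : ∃ x ∈ U ⊓ P, x ∉ K := by
      by_contra hcon
      push Not at hcon
      have h1 := Submodule.finrank_mono (le_inf inf_le_left hcon : U ⊓ P ≤ U ⊓ K)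
      have h2 : qperp hQ (U ⊔ K) ≤ U ⊓ P := by
        refine le_inf ?_ (hP ▸ fun x hx k hk => hx k (Submodule.mem_sup_right hk))
        have hUU : qperp hQ U = U := (Submodule.eq_of_le_of_finrank_le
          (fun a ha b hb => hiso hUs a ha b hb : U ≤ qperp hQ U) (by
          have := finrank_qperp_le hQ U
          omega)).symm
        calc qperp hQ (U ⊔ K) ≤ qperp hQ U := fun a ha b hb => ha b (Submodule.mem_sup_left hb)
          _ = U := hUU
      have h3 := Submodule.finrank_mono h2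
      have h4 := finrank_qperp hQ (U ⊔ K)
      have h5 := Submodule.finrank_sup_add_finrank_inf_eq U K
      omega
    obtain ⟨ku, hku, β', hβ', rfl⟩ := Submodule.mem_sup.1 (hPdec hx.2)
    obtain ⟨k, hk, α', hα', rfl⟩ := Submodule.mem_sup.1 hku
    obtain ⟨α, rfl⟩ := Submodule.mem_span_singleton.1 hα'
    obtain ⟨β, rfl⟩ := Submodule.mem_span_singleton.1 hβ'
    have h0 : α * β = 0 := by
      have h1 := hUs _ hx.1
      rw [qadd hQ, qsmul hQ, hRs w hwR, psmul_right hQ, padd_left hQ, psmul_left hQ,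
        hiso hRs k (hKR hk) w hwR, hU's _ (U'.add_mem (hKU' hk) (U'.smul_mem _ hu))] at h1
      have : α * β * pol Q u w = 0 := by linear_combination h1
      exact (mul_eq_zero.1 this).resolve_right huw
    rcases mul_eq_zero.1 h0 with h | h
    · have hxR : k + α • u + β • w ∈ U ⊓ R := ⟨hx.1, by
        rw [h, zero_smul, add_zero]; exact R.add_mem (hKR hk) (R.smul_mem _ hwR)⟩
      have hlt : d < Module.finrank F ↥(U ⊓ R) := hd ▸ Submodule.finrank_lt_finrank_of_lt
        (lt_of_le_of_ne (inf_le_inf_left U hKR) fun e => hxK (e.symm ▸ hxR : k + α • u + β • w ∈ U ⊓ K).2)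
      omega
    · have hxR : k + α • u + β • w ∈ U ⊓ U' := ⟨hx.1, by
        rw [h, zero_smul, add_zero]; exact U'.add_mem (hKU' hk) (U'.smul_mem _ hu)⟩
      have hlt : d < Module.finrank F ↥(U ⊓ U') := hd ▸ Submodule.finrank_lt_finrank_of_lt
        (lt_of_le_of_ne (inf_le_inf_left U hKU') fun e => hxK (e.symm ▸ hxR : k + α • u + β • w ∈ U ⊓ K).2)
      omega
  omega

/-- the parity of an isometry from one maximal totally singular subspace -/
theorem even_wrk_iff (hex : Fintype.card F ≠ 2 ∨ Fintype.card ι ≠ 4) {m : ℕ} (hm : Fintype.card ι = m + m)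
    {U : Submodule F (ι → F)} (hU : Module.finrank F U = m) (hUs : ∀ x ∈ U, Q x = 0) {g : GL ι F}
    (hg : g ∈ Cfsg.isometryGroup F Q) :
    Even (m - Module.finrank F ↥(U ⊓ U.map (Matrix.mulVecLin (g : Matrix ι ι F)))) ↔ Even (wrk g) := by
  have hg' := iso_le_reflGroup hQ hex hg
  clear hg
  have hstep : ∀ {r z : GL ι F} {v : ι → F}, r ∈ Cfsg.isometryGroup F Q → z ∈ Cfsg.isometryGroup F Q → Q v ≠ 0 →
      IsRefl Q v r →
      (Even (m - Module.finrank F ↥(U ⊓ U.map (Matrix.mulVecLin (z : Matrix ι ι F)))) ↔ Even (wrk z)) →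
      (Even (m - Module.finrank F ↥(U ⊓ U.map (Matrix.mulVecLin ((r * z : GL ι F) : Matrix ι ι F)))) ↔
        Even (wrk (r * z))) := by
    intro r z v hr hz hv hrv ih
    have hzs : ∀ x ∈ U.map (Matrix.mulVecLin (z : Matrix ι ι F)), Q x = 0 := by
      rintro _ ⟨y, hy, rfl⟩
      rw [Matrix.mulVecLin_apply, mem_iso.1 hz]
      exact hUs y hy
    have h := refl_inter_step hQ hm hU (map_gl_finrank z U ▸ hU) hUs hzs hr hv hrv
    rw [← map_mulVec_mul] at h
    have h1 : Module.finrank F ↥(U ⊓ U.map (Matrix.mulVecLin (z : Matrix ι ι F))) ≤ m :=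
      hU ▸ Submodule.finrank_mono inf_le_left
    have h2 : Module.finrank F ↥(U ⊓ U.map (Matrix.mulVecLin ((r * z : GL ι F) : Matrix ι ι F))) ≤ m :=
      hU ▸ Submodule.finrank_mono inf_le_left
    obtain ⟨h3, -⟩ := refl_step hQ hz hr hrv hv
    rw [Nat.even_iff, Nat.even_iff] at ih ⊢
    omega
  induction hg' using Subgroup.closure_induction_left with
  | one =>
    rw [map_gl_one, inf_idem, hU, Nat.sub_self, (spn_one hQ).1]
  | mul_left r hr z hz ih =>
    obtain ⟨hri, v, hv, hrv⟩ := hr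
    exact hstep hri (reflGroup_le hz) hv hrv ih
  | inv_mul_cancel r hr z hz ih =>
    obtain ⟨hri, v, hv, hrv⟩ := hr
    rw [inv_eq_of_mul_eq_one_left (refl_mul_self hQ hrv hv)]
    exact hstep hri (reflGroup_le hz) hv hrv ih

end CfsgLib.Orth
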