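import Cfsg.Agent.Lib.Orth.Facts

/-!
# Products of reflections given by matrices
-/

set_option autoImplicit false
set_option linter.all false

namespace CfsgLib.Orth

open scoped Matrix
open Matrix Cfsg.Geo CfsgLib.Perm.Asch CfsgLib.Perm.Trans CfsgLib.Perm.Trans.Quad

variable {ι : Type} [Fintype ι] [DecidableEq ι] {F : Type*} [Field F] [Fintype F]

local notation "pol" => QuadraticMap.polar

variable {Q : QuadraticForm F (ι → F)} (hQ : (QuadraticMap.polarBilin Q).Nondegenerate)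
include hQ

theorem exists_reflIso {v : ι → F} (hv : Q v ≠ 0) : ∃ r : ↥(Cfsg.isometryGroup F ⇑Q),
    ((r : GL ι F) : Matrix ι ι F) = Cfsg.reflectionMatrix ⇑Q v ∧ IsRefl (⇑Q) v r.1 := by
  refine ⟨CfsgLib.Classical.reflectionIso Q v hv, CfsgLib.Classical.reflectionIso_coe Q v hv, ?_⟩
  exact isRefl_reflectionMatrix (CfsgLib.Classical.reflectionIso_coe Q v hv)

theorem isometry_eq_closure (hex : Fintype.card F ≠ 2 ∨ Fintype.card ι ≠ 4) :
    Subgroup.closure {g : ↥(Cfsg.isometryGroup F ⇑Q) | ∃ v : ι → F, Q v ≠ 0 ∧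
      ((g : GL ι F) : Matrix ι ι F) = Cfsg.reflectionMatrix ⇑Q v} = ⊤ := by
  refine eq_top_iff.2 fun g hg => ?_
  clear hg
  obtain ⟨x, hx⟩ := g
  have h := iso_le_reflGroup (nd_of_qf Q hQ) hex hx
  induction h using Subgroup.closure_induction with
  | mem r hr =>
    obtain ⟨hri, v, hv, hrv⟩ := hr
    refine Subgroup.subset_closure ⟨v, hv, ?_⟩
    obtain ⟨s, hs, hsv⟩ := exists_reflIso hQ hv
    show (r : Matrix ι ι F) = _
    rw [hrv.unique hsv]
    exact hs
  | one => exact one_mem _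
  | mul a b ha hb iha ihb => exact mul_mem (iha (reflGroup_le ha)) (ihb (reflGroup_le hb))
  | inv a ha iha => exact inv_mem (iha (reflGroup_le ha))

/-- even elements are products of pairs of reflections -/
theorem even_mem_closure_pairs (hn : 1 ≤ Fintype.card ι) (hex : Fintype.card F ≠ 2 ∨ Fintype.card ι ≠ 4)
    {g : ↥(Cfsg.isometryGroup F ⇑Q)} :
    g ∈ Subgroup.closure {g : ↥(Cfsg.isometryGroup F ⇑Q) | ∃ u v : ι → F, Q u ≠ 0 ∧ Q v ≠ 0 ∧
      ((g : GL ι F) : Matrix ι ι F) = Cfsg.reflectionMatrix ⇑Q u * Cfsg.reflectionMatrix ⇑Q v} ↔ Even (wrk g.1) := by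
  have hQ' := nd_of_qf Q hQ
  obtain ⟨H, hH⟩ : ∃ H, H = Subgroup.closure {g : ↥(Cfsg.isometryGroup F ⇑Q) | ∃ u v : ι → F, Q u ≠ 0 ∧ Q v ≠ 0 ∧
      ((g : GL ι F) : Matrix ι ι F) = Cfsg.reflectionMatrix ⇑Q u * Cfsg.reflectionMatrix ⇑Q v} := ⟨_, rfl⟩
  rw [← hH]
  have hpair : ∀ (r s : ↥(Cfsg.isometryGroup F ⇑Q)) u v, Q u ≠ 0 → Q v ≠ 0 → IsRefl (⇑Q) u r.1 → IsRefl (⇑Q) v s.1 →
      r * s ∈ H := fun r s u v hu hv hr hs => by
    rw [hH]
    refine Subgroup.subset_closure ⟨u, v, hu, hv, ?_⟩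
    obtain ⟨r', hr', hru⟩ := exists_reflIso hQ hu
    obtain ⟨s', hs', hsv⟩ := exists_reflIso hQ hv
    rw [← hr', ← hs', ← hr.unique hru, ← hs.unique hsv]
    rfl
  constructor
  · intro h
    rw [hH] at h
    rw [← parHom_eq_one_iff hQ' hex, ← MonoidHom.mem_ker]
    revert h
    refine fun h => (Subgroup.closure_le _).2 ?_ h
    rintro x ⟨u, v, hu, hv, hx⟩
    obtain ⟨r, hr, hru⟩ := exists_reflIso hQ hu
    obtain ⟨s, hs, hsv⟩ := exists_reflIso hQ hv
    have hxe : x = r * s := Subtype.ext (Units.ext (by rw [hx, ← hr, ← hs]; rfl))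
    rw [SetLike.mem_coe, MonoidHom.mem_ker, hxe, parHom_eq_one_iff]
    show Even (wrk (r.1 * s.1))
    rw [(spn_mul hQ' (iso_le_reflGroup hQ' hex r.2) s.2).2, (refl_spn hQ' r.2 hru hu).1, (refl_spn hQ' s.2 hsv hv).1]
  · intro hg
    obtain ⟨e, -, he⟩ := exists_nonsingular hQ' (ndOn_top hQ') (fun hbot => by
      have : Module.finrank F (ι → F) = 0 := by rw [← finrank_top F (ι → F), hbot, finrank_bot]
      rw [Module.finrank_fintype_fun_eq_card] at this
      omega)
    obtain ⟨r₀, -, hr₀⟩ := exists_reflIso hQ he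
    have hr00 : r₀ * r₀ = 1 := Subtype.ext (refl_mul_self hQ' hr₀ he)
    have hnorm : ∀ x ∈ H, r₀ * x * r₀ ∈ H := by
      intro x hx
      rw [hH] at hx
      induction hx using Subgroup.closure_induction with
      | mem y hy =>
        obtain ⟨u, v, hu, hv, hy⟩ := hy
        obtain ⟨r, hr, hru⟩ := exists_reflIso hQ hu
        obtain ⟨s, hs, hsv⟩ := exists_reflIso hQ hv
        rw [show y = r * s from Subtype.ext (Units.ext (by rw [hy, ← hr, ← hs]; rfl)),
          show r₀ * (r * s) * r₀ = (r₀ * r) * (s * r₀) by group]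
        exact mul_mem (hpair _ _ _ _ he hu hr₀ hru) (hpair _ _ _ _ hv he hsv hr₀)
      | one => rw [mul_one, hr00]; exact one_mem _
      | mul a b _ _ iha ihb =>
        have := mul_mem iha ihb
        rwa [show r₀ * a * r₀ * (r₀ * b * r₀) = r₀ * a * (r₀ * r₀) * b * r₀ by group, hr00, mul_one,
          show r₀ * a * b * r₀ = r₀ * (a * b) * r₀ by group] at this
      | inv a _ iha =>
        have := inv_mem iha
        rwa [_root_.mul_inv_rev, _root_.mul_inv_rev, show r₀⁻¹ = r₀ from inv_eq_of_mul_eq_one_left hr00,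
          ← mul_assoc] at this
    have hall : ∀ x : ↥(Cfsg.isometryGroup F ⇑Q), x ∈ H ∨ r₀ * x ∈ H := by
      intro x
      have hx : x ∈ Subgroup.closure _ := (isometry_eq_closure hQ hex).symm ▸ Subgroup.mem_top x
      induction hx using Subgroup.closure_induction with
      | mem y hy =>
        obtain ⟨v, hv, hy⟩ := hy
        obtain ⟨r, hr, hrv⟩ := exists_reflIso hQ hv
        rw [show y = r from Subtype.ext (Units.ext (hy.trans hr.symm))]
        exact Or.inr (hpair _ _ _ _ he hv hr₀ hrv)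
      | one => exact Or.inl (one_mem _)
      | mul a b _ _ iha ihb =>
        rcases iha with ha | ha <;> rcases ihb with hb | hb
        · exact Or.inl (mul_mem ha hb)
        · refine Or.inr ?_
          have := mul_mem (hnorm a ha) hb
          rwa [show r₀ * a * r₀ * (r₀ * b) = r₀ * a * (r₀ * r₀) * b by group, hr00, mul_one,
            mul_assoc] at this
        · exact Or.inr (mul_assoc r₀ a b ▸ mul_mem ha hb)
        · refine Or.inl ?_
          have := mul_mem (hnorm _ ha) hb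
          rwa [show r₀ * (r₀ * a) * r₀ * (r₀ * b) = r₀ * r₀ * a * (r₀ * r₀) * b by group, hr00, one_mul,
            mul_one] at this
      | inv a _ iha =>
        rcases iha with ha | ha
        · exact Or.inl (inv_mem ha)
        · refine Or.inr ?_
          have := hnorm _ (inv_mem ha)
          rwa [_root_.mul_inv_rev, show r₀⁻¹ = r₀ from inv_eq_of_mul_eq_one_left hr00,
            show r₀ * (a⁻¹ * r₀) * r₀ = r₀ * a⁻¹ * (r₀ * r₀) by group, hr00, mul_one] at this
    rcases hall g with h | h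
    · exact h
    · exfalso
      have h1 : Even (wrk (r₀ * g).1) := by
        rw [← parHom_eq_one_iff hQ' hex, ← MonoidHom.mem_ker]
        refine (Subgroup.closure_le _).2 ?_ (hH ▸ h)
        rintro x ⟨u, v, hu, hv, hx⟩
        obtain ⟨r, hr, hru⟩ := exists_reflIso hQ hu
        obtain ⟨s, hs, hsv⟩ := exists_reflIso hQ hv
        have hxe : x = r * s := Subtype.ext (Units.ext (by rw [hx, ← hr, ← hs]; rfl))
        rw [SetLike.mem_coe, MonoidHom.mem_ker, hxe, parHom_eq_one_iff]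
        show Even (wrk (r.1 * s.1))
        rw [(spn_mul hQ' (iso_le_reflGroup hQ' hex r.2) s.2).2, (refl_spn hQ' r.2 hru hu).1, (refl_spn hQ' s.2 hsv hv).1]
      have h2 := (spn_mul hQ' (iso_le_reflGroup hQ' hex r₀.2) g.2).2
      change Even (wrk (r₀ * g).1) ↔ _ at h2
      rw [(refl_spn hQ' r₀.2 hr₀ he).1] at h2
      exact Nat.not_even_one ((h2.1 h1).2 hg)

/-- invariants of a product of reflections -/
theorem spn_list_prod (hex : Fintype.card F ≠ 2 ∨ Fintype.card ι ≠ 4) :
    ∀ (vs : List (ι → F)), (∀ v ∈ vs, Q v ≠ 0) → ∀ g : ↥(Cfsg.isometryGroup F ⇑Q),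
      ((g : GL ι F) : Matrix ι ι F) = (vs.map (fun v => Cfsg.reflectionMatrix ⇑Q v)).prod →
      spn (⇑Q) g.1 = sqc (vs.map (fun v => Q v)).prod ∧ (Even (wrk g.1) ↔ Even vs.length) := by
  have hQ' := nd_of_qf Q hQ
  intro vs
  induction vs with
  | nil =>
    intro _ g hg
    have hg1 : g.1 = 1 := Units.ext (by simpa using hg)
    rw [hg1, (spn_one hQ').1, (spn_one hQ').2]
    simp [sqc_one]
  | cons v vs ih =>
    intro hvs g hg
    have hv := hvs v List.mem_cons_self
    obtain ⟨r, hr, hrv⟩ := exists_reflIso hQ hv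
    have hrr := refl_mul_self hQ' hrv hv
    rw [List.map_cons, List.prod_cons, ← hr] at hg
    have hm : (((r * g : ↥(Cfsg.isometryGroup F ⇑Q)) : GL ι F) : Matrix ι ι F) =
        (vs.map (fun v => Cfsg.reflectionMatrix ⇑Q v)).prod := by
      rw [Subgroup.coe_mul, Units.val_mul, hg, ← mul_assoc, ← Units.val_mul, hrr, Units.val_one, one_mul]
    obtain ⟨e1, e2⟩ := ih (fun x hx => hvs x (List.mem_cons_of_mem _ hx)) _ hm
    have hne : (vs.map (fun v => Q v)).prod ≠ 0 := List.prod_ne_zero (by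
      simp only [List.mem_map, not_exists, not_and]
      exact fun x hx h => hvs x (List.mem_cons_of_mem _ hx) h)
    obtain ⟨f1, f2⟩ := refl_step hQ' g.2 r.2 hrv hv
    change spn (⇑Q) (r.1 * g.1) = _ at e1
    change Even (wrk (r.1 * g.1)) ↔ _ at e2
    refine ⟨?_, ?_⟩
    · rw [List.map_cons, List.prod_cons, sqc_mul hv hne, ← e1, f2, sqc_self_mul_cancel hv]
    · rw [List.length_cons, Nat.even_add_one, ← e2, Nat.even_iff, Nat.even_iff]
      omega

end CfsgLib.Orth
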