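import Cfsg.Agent.Lib.Orth.Gen
import Mathlib.GroupTheory.Abelianization.Defs
import Mathlib.FieldTheory.Finite.Basic
import Mathlib.NumberTheory.LegendreSymbol.QuadraticChar.Basic

/-!
# `Omega` as the kernel of spinor norm and parity

Valid in every dimension at least two and every characteristic, except dimension four over two elements.
-/

set_option autoImplicit false
set_option linter.all false

namespace CfsgLib.Orth

open scoped Matrix
open Matrix Cfsg.Geo CfsgLib.Perm.Asch CfsgLib.Perm.Trans CfsgLib.Perm.Trans.Quad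

variable {ι : Type} [Fintype ι] [DecidableEq ι] {F : Type*} [Field F] [Fintype F]
variable {Q : (ι → F) → F}

local notation "pol" => QuadraticMap.polar

variable (hQ : IsNondegenerateQuadraticForm Q)
include hQ

theorem finrank_qperp_le (W : Submodule F (ι → F)) :
    Module.finrank F ↥(qperp hQ W) + Module.finrank F W ≤ Fintype.card ι := by
  let T : (ι → F) →ₗ[F] (↥W →ₗ[F] F) :=
    { toFun := fun v => (pfl hQ v).comp W.subtype
      map_add' := fun a b => LinearMap.ext fun x => padd_right hQ (x : ι → F) a b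
      map_smul' := fun c a => LinearMap.ext fun x => psmul_right hQ c (x : ι → F) a }
  have hsurj : Function.Surjective T := fun φ => by
    obtain ⟨ψ, hψ⟩ := LinearMap.exists_extend φ
    obtain ⟨p, hp⟩ := exists_prep hQ (fvec ψ)
    refine ⟨p, LinearMap.ext fun x => ?_⟩
    show pol Q (x : ι → F) p = φ x
    rw [hp, fvec_dot, ← hψ]
    rfl
  have hk : qperp hQ W ≤ LinearMap.ker T := fun v hv => LinearMap.mem_ker.2 (LinearMap.ext fun x => by
    show pol Q (x : ι → F) v = 0
    rw [pcomm]; exact hv x x.2)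
  have h3 := LinearMap.finrank_range_add_finrank_ker T
  rw [LinearMap.range_eq_top.2 hsurj, finrank_top, Module.finrank_fintype_fun_eq_card] at h3
  have h4 : Module.finrank F (↥W →ₗ[F] F) = Module.finrank F W := Subspace.dual_finrank_eq
  have h5 := Submodule.finrank_mono hk
  omega

omit hQ in
theorem isSquare_of_two (h2 : (2 : F) = 0) (a : F) : IsSquare a := by
  haveI : CharP F 2 := CharTwo.of_one_ne_zero_of_two_eq_zero one_ne_zero h2
  exact FiniteField.isSquare_of_char_two (ringChar.eq F 2) a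

/-- isometries are transitive on vectors of equal non-zero value -/
theorem exists_iso_move (hex : Fintype.card F ≠ 2 ∨ Fintype.card ι ≠ 4) {v w : ι → F} (hv : Q v ≠ 0)
    (hvw : Q v = Q w) : ∃ g ∈ Cfsg.isometryGroup F Q, (g : Matrix ι ι F) *ᵥ v = w := by
  have hw : Q w ≠ 0 := hvw ▸ hv
  have hswap : ∀ {a b : ι → F}, Q a = Q b → Q (a - b) ≠ 0 →
      ∃ g ∈ Cfsg.isometryGroup F Q, (g : Matrix ι ι F) *ᵥ a = b := by
    intro a b hab hd
    obtain ⟨r, hr, hrd⟩ := exists_refl hQ hd
    exact ⟨r, hr, refl_moves hQ hab hd hrd⟩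
  by_cases h2 : (2 : F) = 0
  · by_cases hne : v = w
    · exact ⟨1, one_mem _, by rw [Units.val_one, one_mulVec, hne]⟩
    have hpair : ∀ {a b : ι → F}, Q a = Q b → pol Q a b ≠ 0 → Q (a - b) ≠ 0 := fun {a b} hab hp => by
      rw [qsub hQ, hab, show Q b + Q b = 2 * Q b by ring, h2, zero_mul, zero_sub, neg_ne_zero]
      exact hp
    by_cases hB : pol Q v w ≠ 0
    · exact hswap hvw (hpair hvw hB)
    push Not at hB
    have hself : ∀ x, pol Q x x = 0 := fun x => by rw [pself hQ, h2, zero_mul]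
    have hns : v ∉ Submodule.span F {w} := fun hm => by
      obtain ⟨t, ht⟩ := Submodule.mem_span_singleton.1 hm
      have hsq : (t - 1) ^ 2 = 0 := by
        have hval : t ^ 2 * Q w = Q w := by rw [← qsmul hQ, ht, hvw]
        have ht2 : t ^ 2 = 1 := mul_right_cancel₀ hw (by rw [hval, one_mul])
        linear_combination ht2 + (1 - t) * h2
      rw [pow_eq_zero_iff two_ne_zero, sub_eq_zero] at hsq
      exact hne (by rw [← ht, hsq, one_smul])
    have hns' : w ∉ Submodule.span F {v} := fun hm => by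
      obtain ⟨t, ht⟩ := Submodule.mem_span_singleton.1 hm
      have ht0 : t ≠ 0 := fun e => hw (by rw [← ht, e, zero_smul, qzero hQ])
      exact hns (Submodule.mem_span_singleton.2 ⟨t⁻¹, by rw [← ht, inv_smul_smul₀ ht0]⟩)
    obtain ⟨p1, hp1, hp1v⟩ := exists_qperp_ne hQ hns
    obtain ⟨p2, hp2, hp2w⟩ := exists_qperp_ne hQ hns'
    obtain ⟨f, hf⟩ : ∃ f, f = p1 + p2 := ⟨_, rfl⟩
    have hfv : pol Q f v = 1 := by
      rw [hf, padd_left hQ, pcomm p1 v, hp1v, hp2 v (Submodule.mem_span_singleton_self v), add_zero]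
    have hfw : pol Q f w = 1 := by
      rw [hf, padd_left hQ, pcomm p2 w, hp2w, hp1 w (Submodule.mem_span_singleton_self w), zero_add]
    obtain ⟨y, hy, hQy⟩ : ∃ y ∈ qperp hQ (Submodule.span F {v, w}), Q (f + y) ≠ 0 := by
      by_contra hcon
      push Not at hcon
      have hQf : Q f = 0 := by simpa using hcon 0 (Submodule.zero_mem _)
      obtain ⟨P, hP⟩ : ∃ P, P = qperp hQ (Submodule.span F {v, w}) := ⟨_, rfl⟩
      rw [← hP] at hcon
      have hlin : ∀ y ∈ P, Q y = -pol Q f y := fun y hy => by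
        have h := hcon y hy
        rw [qadd hQ, hQf, zero_add] at h
        exact eq_neg_of_add_eq_zero_left h
      have hvP : v ∈ P := hP ▸ (mem_qperp_span hQ).2 (by
        rintro x (rfl | rfl)
        · exact hself x
        · exact hB)
      have hwP : w ∈ P := hP ▸ (mem_qperp_span hQ).2 (by
        rintro x (rfl | rfl)
        · rw [pcomm]; exact hB
        · exact hself x)
      have hq2 : Fintype.card F = 2 := by
        classical
        have hall : ∀ t : F, t = 0 ∨ t = 1 := fun t => by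
          rcases eq_or_ne t 0 with h | h
          · exact Or.inl h
          refine Or.inr ?_
          have e := hlin _ (P.smul_mem t hvP)
          have e1 := hlin _ hvP
          rw [qsmul hQ, psmul_right hQ, hfv, e1, hfv] at e
          have : t * (t - 1) = 0 := by linear_combination -e
          exact sub_eq_zero.1 ((mul_eq_zero.1 this).resolve_left h)
        have : (Finset.univ : Finset F) = {0, 1} := by
          ext t; simpa using hall t
        rw [← Finset.card_univ, this, Finset.card_pair zero_ne_one]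
      have hPP : P ≤ qperp hQ P := fun x hx y hy => by
        have e := hlin _ (P.add_mem hx hy)
        rw [qadd hQ, hlin x hx, hlin y hy, padd_right hQ] at e
        linear_combination e
      have h1 := finrank_qperp hQ (Submodule.span F {v, w})
      have h2' := finrank_qperp_le hQ P
      have h3 := Submodule.finrank_mono hPP
      have h4 : Module.finrank F ↥(Submodule.span F ({v, w} : Set (ι → F))) ≤ 2 := by
        classical
        have h := finrank_span_finset_le_card (R := F) ({v, w} : Finset (ι → F))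
        rw [Finset.coe_pair] at h
        exact h.trans Finset.card_le_two
      have h5 : 2 ≤ Module.finrank F P := by
        have hli : LinearIndependent F ![v, w] := (LinearIndependent.pair_iff' (fun e => hv (by rw [e, qzero hQ]))).2
          fun a ha => hns' (Submodule.mem_span_singleton.2 ⟨a, ha⟩)
        have h := Submodule.finrank_mono (Submodule.span_le.2 (show Set.range ![v, w] ⊆ (P : Set (ι → F)) by
          rintro _ ⟨i, rfl⟩
          fin_cases i
          · exact hvP
          · exact hwP))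
        rwa [finrank_span_eq_card hli, Fintype.card_fin] at h
      rw [← hP] at h1
      rcases hex with h | h <;> omega
    obtain ⟨s, hs⟩ := isSquare_of_two h2 (Q v / Q (f + y))
    have hs0 : s ≠ 0 := fun e => div_ne_zero hv hQy (by rw [hs, e, mul_zero])
    have hz : Q (s • (f + y)) = Q v := by
      rw [qsmul hQ, sq, ← hs, div_mul_cancel₀ _ hQy]
    have hyp := (mem_qperp_span hQ).1 hy
    have hzv : pol Q v (s • (f + y)) ≠ 0 := by
      rw [psmul_right hQ, padd_right hQ, pcomm v f, hfv, pcomm v y, hyp v (Or.inl rfl), add_zero, mul_one]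
      exact hs0
    have hzw : pol Q (s • (f + y)) w ≠ 0 := by
      rw [psmul_left hQ, padd_left hQ, hfw, hyp w (Or.inr rfl), add_zero, mul_one]
      exact hs0
    obtain ⟨g1, hg1, e1⟩ := hswap hz.symm (hpair hz.symm hzv)
    obtain ⟨g2, hg2, e2⟩ := hswap (hz.trans hvw) (hpair (hz.trans hvw) hzw)
    exact ⟨g2 * g1, mul_mem hg2 hg1, by rw [gl_mul_mulVec, e1, e2]⟩
  · by_cases hd : Q (v - w) = 0
    · have hd' : Q (v - -w) ≠ 0 := by
        rw [sub_neg_eq_add, qadd hQ]
        rw [qsub hQ] at hd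
        intro h
        have : 2 * 2 * Q v = 0 := by linear_combination h + hd + 2 * hvw
        exact mul_ne_zero (mul_ne_zero h2 h2) hv this
      obtain ⟨g, hg, e⟩ := hswap (hvw.trans (qneg hQ w).symm) hd'
      obtain ⟨r, hr, hrw⟩ := exists_refl hQ hw
      refine ⟨r * g, mul_mem hr hg, ?_⟩
      rw [gl_mul_mulVec, e, hrw, pneg_left hQ, pself hQ]
      rw [show (Q w)⁻¹ * -(2 * Q w) = -2 by field_simp, neg_smul, two_smul]
      abel
    · exact hswap hvw hd

/-- reflections of vectors with values in the same square class are conjugate -/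
theorem refl_conj (hex : Fintype.card F ≠ 2 ∨ Fintype.card ι ≠ 4) {v w : ι → F} (hv : Q v ≠ 0) (hw : Q w ≠ 0)
    (hc : sqc (Q v) = sqc (Q w)) {r s : GL ι F} (hrv : IsRefl Q v r) (hsw : IsRefl Q w s) :
    ∃ g ∈ Cfsg.isometryGroup F Q, s = g * r * g⁻¹ := by
  have hsq : IsSquare (Q w * Q v) := by
    rw [← sqc_eq_one_iff (mul_ne_zero hw hv), sqc_mul hw hv, hc, sqc_mul_self hw]
  obtain ⟨t, ht⟩ := hsq
  have ht0 : t ≠ 0 := fun e => mul_ne_zero hw hv (by rw [ht, e, mul_zero])
  have hval : Q ((t / Q v) • v) = Q w := by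
    rw [qsmul hQ, div_pow, sq t, ← ht]
    field_simp
  obtain ⟨g, hg, e⟩ := exists_iso_move hQ hex (hval.symm ▸ hw) hval
  refine ⟨g, hg, hsw.unique ?_⟩
  rw [← e]
  exact (hrv.smul hQ (div_ne_zero ht0 hv)).conj hg

theorem exists_value (h2 : (2 : F) ≠ 0) (hn : 2 ≤ Fintype.card ι) (c : F) : ∃ v, Q v = c := by
  obtain ⟨e, -, he⟩ := exists_nonsingular hQ (ndOn_top hQ) (fun hbot => by
    have : Module.finrank F (ι → F) = 0 := by rw [← finrank_top F (ι → F), hbot, finrank_bot]
    rw [Module.finrank_fintype_fun_eq_card] at this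
    omega)
  obtain ⟨f, hf, hf0⟩ : ∃ f ∈ qperp hQ (Submodule.span F {e}), Q f ≠ 0 := by
    by_contra hcon
    push Not at hcon
    obtain ⟨z, hz, hz0⟩ := Submodule.exists_mem_ne_zero_of_ne_bot (p := qperp hQ (Submodule.span F {e})) (fun hbot => by
      have h1 := finrank_qperp hQ (Submodule.span F {e})
      rw [hbot, finrank_bot, finrank_span_singleton (fun h => he (by rw [h, qzero hQ]))] at h1
      omega)
    obtain ⟨-, x, hx⟩ := hQ.nondegenerate z hz0
    apply hx
    have hee : pol Q e e ≠ 0 := by rw [pself hQ]; exact mul_ne_zero h2 he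
    have hx' : x - (pol Q x e / pol Q e e) • e ∈ qperp hQ (Submodule.span F {e}) := (mem_qperp_span hQ).2 (by
      rintro w rfl
      rw [psub_left hQ, psmul_left hQ, div_mul_cancel₀ _ hee, sub_self])
    have hze : pol Q z e = 0 := hz e (Submodule.mem_span_singleton_self e)
    have : pol Q z (x - (pol Q x e / pol Q e e) • e) = 0 := by
      rw [QuadraticMap.polar, hcon _ (Submodule.add_mem _ hz hx'), hcon z hz, hcon _ hx']; ring
    rwa [psub_right hQ, psmul_right hQ, hze, mul_zero, sub_zero] at this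
  have hef : pol Q e f = 0 := by rw [pcomm]; exact hf e (Submodule.mem_span_singleton_self e)
  open Polynomial in
  obtain ⟨a, b, hab⟩ := FiniteField.exists_root_sum_quadratic (R := F)
    (f := C (Q e) * X ^ 2 + C 0 * X + C (-c)) (g := C (Q f) * X ^ 2 + C 0 * X + C 0)
    (Polynomial.degree_quadratic he) (Polynomial.degree_quadratic hf0) (FiniteField.odd_card_of_char_ne_two (fun h => h2 (by
      haveI := ringChar.of_eq h; exact CharTwo.two_eq_zero)))
  refine ⟨a • e + b • f, ?_⟩
  simp only [Polynomial.eval_add, Polynomial.eval_mul, Polynomial.eval_C, Polynomial.eval_pow, Polynomial.eval_X] at hab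
  rw [qadd hQ, qsmul hQ, qsmul hQ, psmul_left hQ, psmul_right hQ, hef]
  linear_combination hab

omit hQ in
theorem sqc_dichotomy {δ : F} (hδ : ¬ IsSquare δ) {a : F} (ha : a ≠ 0) : sqc a = 1 ∨ sqc a = sqc δ := by
  by_cases h : IsSquare a
  · exact Or.inl ((sqc_eq_one_iff ha).2 h)
  · have hd0 : δ ≠ 0 := fun e => hδ (e ▸ IsSquare.zero)
    refine Or.inr ?_
    have h1 : IsSquare (a * δ) := by
      classical
      rw [← quadraticChar_one_iff_isSquare (mul_ne_zero ha hd0), map_mul, quadraticChar_neg_one_iff_not_isSquare.2 h,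
        quadraticChar_neg_one_iff_not_isSquare.2 hδ]
      norm_num
    rw [← sqc_eq_one_iff (mul_ne_zero ha hd0), sqc_mul ha hd0] at h1
    rw [← mul_left_inj (sqc δ), h1, sqc_mul_self hd0]

/-- the spinor norm as a homomorphism -/
noncomputable def spnHom (hex : Fintype.card F ≠ 2 ∨ Fintype.card ι ≠ 4) :
    ↥(Cfsg.isometryGroup F Q) →* SqClass F where
  toFun g := spn Q g.1
  map_one' := (spn_one hQ).2
  map_mul' a b := (spn_mul hQ (iso_le_reflGroup hQ hex a.2) b.2).1

/-- the parity homomorphism (determinant, Dickson invariant) -/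
noncomputable def parHom (hex : Fintype.card F ≠ 2 ∨ Fintype.card ι ≠ 4) :
    ↥(Cfsg.isometryGroup F Q) →* Multiplicative (ZMod 2) where
  toFun g := Multiplicative.ofAdd (wrk g.1 : ZMod 2)
  map_one' := by
    show Multiplicative.ofAdd ((wrk (1 : GL ι F) : ℕ) : ZMod 2) = 1
    rw [(spn_one hQ).1, Nat.cast_zero, ofAdd_zero]
  map_mul' a b := by
    rw [← ofAdd_add, ← Nat.cast_add]
    congr 1
    rw [ZMod.natCast_eq_natCast_iff']
    have h := (spn_mul hQ (iso_le_reflGroup hQ hex a.2) b.2).2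
    change Even (wrk (a.1 * b.1)) ↔ _ at h
    show wrk (a.1 * b.1) % 2 = _
    rw [Nat.even_iff, Nat.even_iff, Nat.even_iff] at h
    omega

omit hQ in
theorem parHom_eq_one_iff (hQ : IsNondegenerateQuadraticForm Q) (hex : Fintype.card F ≠ 2 ∨ Fintype.card ι ≠ 4)
    (g : ↥(Cfsg.isometryGroup F Q)) : parHom hQ hex g = 1 ↔ Even (wrk g.1) := by
  show Multiplicative.ofAdd ((wrk g.1 : ℕ) : ZMod 2) = Multiplicative.ofAdd (0 : ZMod 2) ↔ _
  rw [Multiplicative.ofAdd.apply_eq_iff_eq, ZMod.natCast_eq_zero_iff_even]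

/-- `Omega` is the common kernel -/
theorem mem_omega_iff (hn : 2 ≤ Fintype.card ι) (hex : Fintype.card F ≠ 2 ∨ Fintype.card ι ≠ 4)
    (g : ↥(Cfsg.isometryGroup F Q)) : g ∈ Cfsg.Omega F Q ↔ spn Q g.1 = 1 ∧ Even (wrk g.1) := by
  constructor
  · intro hg
    refine ⟨?_, (parHom_eq_one_iff hQ hex g).1 ?_⟩
    · exact Abelianization.commutator_subset_ker (spnHom hQ hex) hg
    · exact Abelianization.commutator_subset_ker (parHom hQ hex) hg
  rintro ⟨hs, hp⟩
  -- two classes of reflections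
  obtain ⟨v₁, v₂, hv₁, hv₂, hcls⟩ : ∃ v₁ v₂, Q v₁ ≠ 0 ∧ Q v₂ ≠ 0 ∧
      ∀ v, Q v ≠ 0 → sqc (Q v) = sqc (Q v₁) ∨ sqc (Q v) = sqc (Q v₂) := by
    obtain ⟨e, -, he⟩ := exists_nonsingular hQ (ndOn_top hQ) (fun hbot => by
      have : Module.finrank F (ι → F) = 0 := by rw [← finrank_top F (ι → F), hbot, finrank_bot]
      rw [Module.finrank_fintype_fun_eq_card] at this
      omega)
    by_cases hall : ∀ a : F, IsSquare a
    · exact ⟨e, e, he, he, fun v hv => Or.inl (by
        rw [(sqc_eq_one_iff hv).2 (hall _), (sqc_eq_one_iff he).2 (hall _)])⟩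
    · push Not at hall
      obtain ⟨δ, hδ⟩ := hall
      have h2 : (2 : F) ≠ 0 := fun h => hδ (isSquare_of_two h δ)
      have hd0 : δ ≠ 0 := fun e => hδ (e ▸ IsSquare.zero)
      obtain ⟨v₁, h1⟩ := exists_value hQ h2 hn 1
      obtain ⟨v₂, h2'⟩ := exists_value hQ h2 hn δ
      refine ⟨v₁, v₂, h1 ▸ one_ne_zero, h2' ▸ hd0, fun v hv => ?_⟩
      rw [h1, h2', sqc_one]
      exact sqc_dichotomy hδ hv
  obtain ⟨r₁, hr₁, hrv₁⟩ := exists_refl hQ hv₁
  obtain ⟨r₂, hr₂, hrv₂⟩ := exists_refl hQ hv₂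
  obtain ⟨R₁, hR₁⟩ : ∃ R : ↥(Cfsg.isometryGroup F Q), R = ⟨r₁, hr₁⟩ := ⟨_, rfl⟩
  obtain ⟨R₂, hR₂⟩ : ∃ R : ↥(Cfsg.isometryGroup F Q), R = ⟨r₂, hr₂⟩ := ⟨_, rfl⟩
  let A := Abelianization ↥(Cfsg.isometryGroup F Q)
  obtain ⟨K, hK⟩ : ∃ K : Subgroup A, K = Subgroup.closure {Abelianization.of R₁, Abelianization.of R₂} := ⟨_, rfl⟩
  have hall : ∀ x : ↥(Cfsg.isometryGroup F Q), Abelianization.of x ∈ K := by
    rintro ⟨x, hx⟩
    have hx' := iso_le_reflGroup hQ hex hx
    induction hx' using Subgroup.closure_induction with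
    | mem r hr =>
      obtain ⟨hri, v, hv, hrv⟩ := hr
      rw [hK]
      rcases hcls v hv with h | h
      · obtain ⟨c, hc, e⟩ := refl_conj hQ hex hv₁ hv h.symm hrv₁ hrv
        refine Subgroup.subset_closure (Or.inl ?_)
        rw [show (⟨r, hx⟩ : ↥(Cfsg.isometryGroup F Q)) = ⟨c, hc⟩ * R₁ * ⟨c, hc⟩⁻¹ from
          Subtype.ext (by rw [hR₁]; exact e), map_mul, map_mul, map_inv, mul_inv_cancel_comm]
      · obtain ⟨c, hc, e⟩ := refl_conj hQ hex hv₂ hv h.symm hrv₂ hrv
        refine Subgroup.subset_closure (Or.inr ?_)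
        rw [Set.mem_singleton_iff, show (⟨r, hx⟩ : ↥(Cfsg.isometryGroup F Q)) = ⟨c, hc⟩ * R₂ * ⟨c, hc⟩⁻¹ from
          Subtype.ext (by rw [hR₂]; exact e), map_mul, map_mul, map_inv, mul_inv_cancel_comm]
    | one =>
      rw [show (⟨1, hx⟩ : ↥(Cfsg.isometryGroup F Q)) = 1 from rfl, map_one]
      exact one_mem _
    | mul a b ha hb iha ihb =>
      have hai := reflGroup_le ha
      have hbi := reflGroup_le hb
      rw [show (⟨a * b, hx⟩ : ↥(Cfsg.isometryGroup F Q)) = ⟨a, hai⟩ * ⟨b, hbi⟩ from rfl, map_mul]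
      exact mul_mem (iha hai) (ihb hbi)
    | inv a ha iha =>
      have hai := reflGroup_le ha
      rw [show (⟨a⁻¹, hx⟩ : ↥(Cfsg.isometryGroup F Q)) = ⟨a, hai⟩⁻¹ from rfl, map_inv]
      exact inv_mem (iha hai)
  have hinv : ∀ (R : ↥(Cfsg.isometryGroup F Q)) v, Q v ≠ 0 → IsRefl Q v R.1 →
      ∀ m : ℤ, (Abelianization.of R) ^ m = 1 ∨ (Abelianization.of R) ^ m = Abelianization.of R := by
    intro R v hv hrv m
    have hsq : Abelianization.of R * Abelianization.of R = 1 := by
      rw [← map_mul, show R * R = 1 from Subtype.ext (refl_mul_self hQ hrv hv), map_one]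
    rcases Int.even_or_odd' m with ⟨k, rfl | rfl⟩
    · left; rw [_root_.zpow_mul, _root_.zpow_two, hsq, _root_.one_zpow]
    · right; rw [_root_.zpow_add_one, _root_.zpow_mul, _root_.zpow_two, hsq, _root_.one_zpow, one_mul]
  have hg' := hall g
  rw [hK, Subgroup.mem_closure_pair] at hg'
  obtain ⟨m, n, hmn⟩ := hg'
  have hcase : ∃ x : ↥(Cfsg.isometryGroup F Q),
      Abelianization.of g = Abelianization.of x ∧ (x = 1 ∨ x = R₁ ∨ x = R₂ ∨ x = R₁ * R₂) := by
    rcases hinv R₁ v₁ hv₁ (hR₁ ▸ hrv₁) m with h1 | h1 <;> rcases hinv R₂ v₂ hv₂ (hR₂ ▸ hrv₂) n with h2 | h2 <;>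
      rw [h1, h2] at hmn
    · exact ⟨1, by rw [← hmn, map_one, one_mul], Or.inl rfl⟩
    · exact ⟨R₂, by rw [← hmn, one_mul], Or.inr (Or.inr (Or.inl rfl))⟩
    · exact ⟨R₁, by rw [← hmn, mul_one], Or.inr (Or.inl rfl)⟩
    · exact ⟨R₁ * R₂, by rw [← hmn, map_mul], Or.inr (Or.inr (Or.inr rfl))⟩
  obtain ⟨x, hxg, hx⟩ := hcase
  have hgx : x⁻¹ * g ∈ Cfsg.Omega F Q := by
    show x⁻¹ * g ∈ commutator _
    rw [← Abelianization.ker_of, MonoidHom.mem_ker, map_mul, map_inv, hxg, inv_mul_cancel]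
  have hxs : spnHom hQ hex x = 1 := by
    have h := Abelianization.commutator_subset_ker (spnHom hQ hex) hgx
    rw [MonoidHom.mem_ker, map_mul, show spnHom hQ hex g = 1 from hs, mul_one, map_inv, inv_eq_one] at h
    exact h
  have hxp : parHom hQ hex x = 1 := by
    have h := Abelianization.commutator_subset_ker (parHom hQ hex) hgx
    rw [MonoidHom.mem_ker, map_mul, (parHom_eq_one_iff hQ hex g).2 hp, mul_one, map_inv, inv_eq_one] at h
    exact h
  have e1 := refl_spn hQ hr₁ hrv₁ hv₁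
  have e2 := refl_spn hQ hr₂ hrv₂ hv₂
  rw [parHom_eq_one_iff] at hxp
  rcases hx with rfl | rfl | rfl | rfl
  · simpa using hgx
  · rw [hR₁, show (⟨r₁, hr₁⟩ : ↥(Cfsg.isometryGroup F Q)).1 = r₁ from rfl, e1.1] at hxp
    exact absurd hxp Nat.not_even_one
  · rw [hR₂, show (⟨r₂, hr₂⟩ : ↥(Cfsg.isometryGroup F Q)).1 = r₂ from rfl, e2.1] at hxp
    exact absurd hxp Nat.not_even_one
  · -- both classes equal, so the product is a commutator
    rw [map_mul, show spnHom hQ hex R₁ = sqc (Q v₁) by rw [hR₁]; exact e1.2,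
      show spnHom hQ hex R₂ = sqc (Q v₂) by rw [hR₂]; exact e2.2] at hxs
    have heq : sqc (Q v₁) = sqc (Q v₂) := by rw [← mul_left_inj (sqc (Q v₂)), hxs, sqc_mul_self hv₂]
    obtain ⟨c, hc, e⟩ := refl_conj hQ hex hv₁ hv₂ heq hrv₁ hrv₂
    have hR : R₂ = ⟨c, hc⟩ * R₁ * ⟨c, hc⟩⁻¹ := Subtype.ext (by rw [hR₁, hR₂]; exact e)
    have h12 : R₁ * R₂ ∈ Cfsg.Omega F Q := by
      show _ ∈ commutator _
      rw [← Abelianization.ker_of, MonoidHom.mem_ker, hR, map_mul, map_mul, map_mul, map_inv, mul_inv_cancel_comm,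
        ← map_mul, show R₁ * R₁ = 1 from Subtype.ext (by rw [hR₁]; exact refl_mul_self hQ hrv₁ hv₁), map_one]
    simpa [mul_assoc] using mul_mem h12 hgx

end CfsgLib.Orth
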