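import Cfsg.Agent.Lib.Orth.Facts
import Cfsg.Agent.Lib.Perm.Trans.QuadStd
import Mathlib.FieldTheory.Finite.Basic
import Mathlib.LinearAlgebra.Matrix.Block

/-!
# Involutions negating hyperbolic pairs
-/

set_option autoImplicit false
set_option linter.all false

namespace CfsgLib.Orth

open scoped Matrix
open Matrix Cfsg.Geo CfsgLib.Perm.Asch CfsgLib.Perm.Trans CfsgLib.Perm.Trans.Quad

variable {ι : Type} [Fintype ι] [DecidableEq ι] {F : Type*} [Field F] [Fintype F]
variable {Q : (ι → F) → F}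

local notation "pol" => QuadraticMap.polar

omit [Fintype F] in
theorem det_swapBlocks (k : Type*) [Fintype k] [DecidableEq k] :
    (Matrix.fromBlocks (0 : Matrix k k F) (1 : Matrix k k F) (1 : Matrix k k F) 0).det = (-1) ^ Fintype.card k := by
  have h : (Matrix.fromBlocks (0 : Matrix k k F) (1 : Matrix k k F) (1 : Matrix k k F) 0) =
      Matrix.fromBlocks 1 1 0 1 * Matrix.fromBlocks (-1) 0 1 1 * Matrix.fromBlocks 1 (-1) 0 1 := by
    simp [Matrix.fromBlocks_multiply]
  rw [h, Matrix.det_mul, Matrix.det_mul, Matrix.det_fromBlocks_zero₂₁, Matrix.det_fromBlocks_zero₁₂,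
    Matrix.det_fromBlocks_zero₂₁]
  simp [Matrix.det_neg]

variable (hQ : IsNondegenerateQuadraticForm Q)
include hQ

theorem spn_of_negating_fintype (h2 : (2 : F) ≠ 0) {g : GL ι F} (hg : g ∈ Cfsg.isometryGroup F Q) {κ : Type*}
    [Fintype κ] [DecidableEq κ] {w : κ → ι → F} (hli : LinearIndependent F w)
    (hneg : ∀ i, (g : Matrix ι ι F) *ᵥ w i = -w i)
    (hmv : ∀ x, x - (g : Matrix ι ι F) *ᵥ x ∈ Submodule.span F (Set.range w)) :
    wrk g = Fintype.card κ ∧
      spn Q g = sqc ((2 : F) ^ Fintype.card κ * (Matrix.of fun i j => pol Q (w i) (w j)).det) := by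
  obtain ⟨e⟩ : Nonempty (Fin (Fintype.card κ) ≃ κ) := ⟨(Fintype.equivFin κ).symm⟩
  obtain ⟨h1, h3⟩ := spn_of_negating hQ h2 hg (w := w ∘ e) (hli.comp _ e.injective) (fun i => hneg _)
    (fun x => by rw [e.surjective.range_comp]; exact hmv x)
  refine ⟨h1, ?_⟩
  rw [h3, show (Matrix.of fun i j => pol Q ((w ∘ e) i) ((w ∘ e) j)) =
    (Matrix.of fun i j => pol Q (w i) (w j)).submatrix e e from rfl, Matrix.det_submatrix_equiv_self]

/-- a diagonal sign matrix negating the members of hyperbolic pairs -/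
theorem diag_mem_omega_iff (h2 : (2 : F) ≠ 0) (hn : 2 ≤ Fintype.card ι) {κ : Type*} [Fintype κ] [DecidableEq κ]
    (w : κ → ι) (hw : Function.Injective w) (neg : ι → Prop) [DecidablePred neg]
    (hrange : ∀ i, neg i ↔ i ∈ Set.range w)
    (hiso : ∀ x : ι → F, Q (fun i => if neg i then -x i else x i) = Q x) :
    (∃ g : ↥(Cfsg.isometryGroup F Q), g ∈ Cfsg.Omega F Q ∧ ((g : GL ι F) : Matrix ι ι F) =
      Matrix.diagonal fun i => if neg i then (-1 : F) else 1) ↔
    (IsSquare ((2 : F) ^ Fintype.card κ *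
      (Matrix.of fun i j => pol Q (Pi.single (w i) 1) (Pi.single (w j) 1)).det) ∧ Even (Fintype.card κ)) := by
  obtain ⟨D, hD⟩ : ∃ D : Matrix ι ι F, D = Matrix.diagonal fun i => if neg i then (-1 : F) else 1 := ⟨_, rfl⟩
  have hDD : D * D = 1 := by
    rw [hD, Matrix.diagonal_mul_diagonal, ← Matrix.diagonal_one]
    congr 1
    funext i
    split <;> simp
  have hDv : ∀ x : ι → F, D *ᵥ x = fun i => if neg i then -x i else x i := fun x => funext fun i => by
    rw [hD, Matrix.mulVec_diagonal]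
    split <;> simp
  obtain ⟨g, hg⟩ : ∃ g : ↥(Cfsg.isometryGroup F Q), ((g : GL ι F) : Matrix ι ι F) = D :=
    ⟨⟨⟨D, D, hDD, hDD⟩, mem_iso.2 fun x => by show Q (D *ᵥ x) = Q x; rw [hDv]; exact hiso x⟩, rfl⟩
  have hiff : (∃ g : ↥(Cfsg.isometryGroup F Q), g ∈ Cfsg.Omega F Q ∧ ((g : GL ι F) : Matrix ι ι F) =
      Matrix.diagonal fun i => if neg i then (-1 : F) else 1) ↔ g ∈ Cfsg.Omega F Q := by
    refine ⟨?_, fun h => ⟨g, h, hg.trans hD⟩⟩
    rintro ⟨g', h, hg'⟩
    rwa [show g = g' from Subtype.ext (Units.ext ((hg.trans hD).trans hg'.symm))]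
  have hli : LinearIndependent F (fun i => (Pi.single (w i) 1 : ι → F)) := by
    have := (Pi.basisFun F ι).linearIndependent.comp w hw
    simpa [Function.comp_def, Pi.basisFun_apply] using this
  obtain ⟨e1, e2⟩ := spn_of_negating_fintype hQ h2 g.2 hli (fun i => by
      rw [hg, hDv]
      funext j
      rcases eq_or_ne j (w i) with rfl | hne
      · simp [(hrange (w i)).2 ⟨i, rfl⟩]
      · simp [hne])
    (fun x => by
      rw [hg, hDv]
      have hx : (x - fun i => if neg i then -x i else x i) = ∑ i, (2 * x (w i)) • (Pi.single (w i) 1 : ι → F) := by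
        funext j
        rw [Pi.sub_apply, Finset.sum_apply]
        by_cases hj : neg j
        · obtain ⟨i, rfl⟩ := (hrange j).1 hj
          rw [Finset.sum_eq_single i (fun b _ hb => by simp [hw.ne hb.symm]) (by simp), if_pos hj]
          simp; ring
        · rw [Finset.sum_eq_zero (fun b _ => by
            simp [show j ≠ w b from fun e => hj ((hrange j).2 ⟨b, e.symm⟩)]), if_neg hj, sub_self]
      rw [hx]
      exact Submodule.sum_mem _ fun i _ => Submodule.smul_mem _ _ (Submodule.subset_span ⟨i, rfl⟩))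
  have hnz : (2 : F) ^ Fintype.card κ * (Matrix.of fun i j => pol Q (Pi.single (w i) 1) (Pi.single (w j) 1)).det ≠ 0 := by
    refine mul_ne_zero (pow_ne_zero _ h2) fun h0 => ?_
    obtain ⟨k, hk⟩ : ∃ k, k = wrk g.1 := ⟨_, rfl⟩
    obtain ⟨e⟩ : Nonempty (Fin (Fintype.card κ) ≃ κ) := ⟨(Fintype.equivFin κ).symm⟩
    have hd : (fun i => disp g.1 (Pi.single (w (e i)) (1 : F))) = fun i => (2 : F) • Pi.single (w (e i)) (1 : F) := by
      funext i
      rw [disp_apply, hg, hDv]
      funext j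
      rcases eq_or_ne j (w (e i)) with rfl | hne
      · simp [(hrange (w (e i))).2 ⟨e i, rfl⟩]; ring
      · simp [hne]
    have hli2 : LinearIndependent F (fun i => disp g.1 (Pi.single (w (e i)) (1 : F))) := by
      rw [hd]; exact (hli.comp _ e.injective).units_smul fun _ => Units.mk0 2 h2
    refine wallMat_det_ne hQ g.2 hli2 ?_ ?_
    · refine le_of_eq (Submodule.eq_of_le_of_finrank_le (Submodule.span_le.2 (Set.range_subset_iff.2 fun i =>
        (⟨Pi.single (w (e i)) (1 : F), rfl⟩ : disp g.1 (Pi.single (w (e i)) (1 : F)) ∈ LinearMap.range (disp g.1)))) ?_).symm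
      rw [finrank_span_eq_card hli2, Fintype.card_fin, ← e1]
      exact le_rfl
    · rw [show wallMat Q g.1 (fun i => Pi.single (w (e i)) (1 : F)) = (2 : F) •
        (Matrix.of fun i j => pol Q (Pi.single (w i) 1) (Pi.single (w j) 1)).submatrix e e by
        ext i j
        simp only [wallMat, Matrix.of_apply, Matrix.smul_apply, Matrix.submatrix_apply, smul_eq_mul]
        rw [congrFun hd j, psmul_right hQ], Matrix.det_smul, Matrix.det_submatrix_equiv_self, h0, mul_zero]
  rw [hiff, mem_omega_iff hQ hn (hex_of_two h2), e1, e2, sqc_eq_one_iff hnz]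

omit hQ in
theorem isSquare_neg_one_pow_iff {q : ℕ} (hF : Fintype.card F = q) (hq : Odd q) (i : ℕ) :
    IsSquare ((-1 : F) ^ i) ↔ q ^ i % 4 = 1 := by
  rw [Nat.odd_iff] at hq
  rcases Nat.even_or_odd' i with ⟨r, rfl | rfl⟩
  · rw [pow_mul, neg_one_sq, one_pow]
    refine iff_of_true IsSquare.one ?_
    rw [pow_mul, Nat.pow_mod]
    rcases (show q ^ 2 % 4 = 1 by rw [pow_two, Nat.mul_mod]; rcases (show q % 4 = 1 ∨ q % 4 = 3 by omega) with h | h <;> rw [h]) with h
    rw [h, one_pow]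
    norm_num
  · rw [pow_succ, pow_mul, neg_one_sq, one_pow, one_mul, FiniteField.isSquare_neg_one_iff, hF, pow_succ, pow_mul,
      Nat.mul_mod, Nat.pow_mod, show q ^ 2 % 4 = 1 by
        rw [pow_two, Nat.mul_mod]; rcases (show q % 4 = 1 ∨ q % 4 = 3 by omega) with h | h <;> rw [h], one_pow]
    omega

omit hQ in
theorem sq_pow_two_mul (x : F) (k : ℕ) (y : F) (hx : x ≠ 0) : IsSquare (x ^ (k + k) * y) ↔ IsSquare y := by
  constructor
  · rintro ⟨t, ht⟩
    refine ⟨t / x ^ k, ?_⟩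
    have : x ^ k ≠ 0 := pow_ne_zero _ hx
    field_simp
    rw [pow_add] at ht
    linear_combination ht
  · rintro ⟨t, rfl⟩
    exact ⟨x ^ k * t, by rw [pow_add]; ring⟩

/-- the criterion for `i` hyperbolic pairs -/
theorem pairs_mem_omega_iff {q : ℕ} (hF : Fintype.card F = q) (hq : Odd q) (hn : 2 ≤ Fintype.card ι) {i : ℕ}
    (w : Fin i ⊕ Fin i → ι) (hw : Function.Injective w) (neg : ι → Prop) [DecidablePred neg]
    (hrange : ∀ j, neg j ↔ j ∈ Set.range w)
    (hiso : ∀ x : ι → F, Q (fun j => if neg j then -x j else x j) = Q x)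
    (hgram : (Matrix.of fun a b => pol Q (Pi.single (w a) 1) (Pi.single (w b) 1)) = Matrix.fromBlocks 0 1 1 0) :
    (∃ g : ↥(Cfsg.isometryGroup F Q), g ∈ Cfsg.Omega F Q ∧ ((g : GL ι F) : Matrix ι ι F) =
      Matrix.diagonal fun j => if neg j then (-1 : F) else 1) ↔ q ^ i % 4 = 1 := by
  have h2 : (2 : F) ≠ 0 := two_ne_zero_of_odd (hF ▸ hq)
  rw [diag_mem_omega_iff hQ h2 hn w hw neg hrange hiso, hgram, det_swapBlocks, Fintype.card_sum, Fintype.card_fin,
    sq_pow_two_mul _ _ _ h2, isSquare_neg_one_pow_iff hF hq]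
  exact ⟨fun h => h.1, fun h => ⟨h, i, rfl⟩⟩

end CfsgLib.Orth

namespace CfsgLib.Orth

open scoped Matrix
open Matrix

variable {F : Type*} [Field F]

theorem polar_quadFormPlus (m : ℕ) (x y : Fin m ⊕ Fin m → F) :
    QuadraticMap.polar (Cfsg.quadFormPlus m F) x y =
      ∑ i, (x (.inl i) * y (.inr i) + y (.inl i) * x (.inr i)) := by
  simp only [QuadraticMap.polar, Cfsg.quadFormPlus, Pi.add_apply, ← Finset.sum_sub_distrib]
  exact Finset.sum_congr rfl fun i _ => by ring

theorem polar_quadFormOdd (m : ℕ) (x y : Unit ⊕ (Fin m ⊕ Fin m) → F) :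
    QuadraticMap.polar (Cfsg.quadFormOdd m F) x y = 2 * x (.inl ()) * y (.inl ()) +
      ∑ i, (x (.inr (.inl i)) * y (.inr (.inr i)) + y (.inr (.inl i)) * x (.inr (.inr i))) := by
  simp only [QuadraticMap.polar, Cfsg.quadFormOdd, Pi.add_apply]
  rw [show ∀ a b c d e f : F, a + d - (b + e) - (c + f) = (a - b - c) + (d - e - f) from fun a b c d e f => by ring,
    ← Finset.sum_sub_distrib, ← Finset.sum_sub_distrib]
  congr 1
  · ring
  · exact Finset.sum_congr rfl fun i _ => by ring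

theorem polar_quadFormMinus (m : ℕ) (a b : F) (x y : (Fin m ⊕ Fin m) ⊕ Fin 2 → F) :
    QuadraticMap.polar (Cfsg.quadFormMinus m F a b) x y =
      (∑ i, (x (.inl (.inl i)) * y (.inl (.inr i)) + y (.inl (.inl i)) * x (.inl (.inr i)))) +
        (2 * x (.inr 0) * y (.inr 0) + a * (x (.inr 0) * y (.inr 1) + y (.inr 0) * x (.inr 1)) +
          2 * b * x (.inr 1) * y (.inr 1)) := by
  simp only [QuadraticMap.polar, Cfsg.quadFormMinus, Pi.add_apply]
  rw [show ∀ a b c d e f : F, a + d - (b + e) - (c + f) = (a - b - c) + (d - e - f) from fun a b c d e f => by ring,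
    ← Finset.sum_sub_distrib, ← Finset.sum_sub_distrib]
  congr 1
  · exact Finset.sum_congr rfl fun i _ => by ring
  · ring

theorem gram_pairs_plus {m i : ℕ} (h : i ≤ m) :
    (Matrix.of fun a b : Fin i ⊕ Fin i => QuadraticMap.polar (Cfsg.quadFormPlus m F)
      (Pi.single (Sum.map (Fin.castLE h) (Fin.castLE h) a) 1) (Pi.single (Sum.map (Fin.castLE h) (Fin.castLE h) b) 1)) =
      Matrix.fromBlocks 0 1 1 0 := by
  ext a b
  rcases a with a | a <;> rcases b with b | b <;>
    simp [polar_quadFormPlus, Pi.single_apply, Matrix.one_apply, Fin.castLE_inj, ite_mul, mul_ite, Finset.sum_ite_eq, Finset.sum_ite_eq'] <;> split_ifs <;> simp_all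

theorem gram_pairs_odd {m i : ℕ} (h : i ≤ m) :
    (Matrix.of fun a b : Fin i ⊕ Fin i => QuadraticMap.polar (Cfsg.quadFormOdd m F)
      (Pi.single (Sum.inr (Sum.map (Fin.castLE h) (Fin.castLE h) a)) 1)
      (Pi.single (Sum.inr (Sum.map (Fin.castLE h) (Fin.castLE h) b)) 1)) =
      Matrix.fromBlocks 0 1 1 0 := by
  ext a b
  rcases a with a | a <;> rcases b with b | b <;>
    simp [polar_quadFormOdd, Pi.single_apply, Matrix.one_apply, Fin.castLE_inj, ite_mul, mul_ite, Finset.sum_ite_eq, Finset.sum_ite_eq'] <;> split_ifs <;> simp_all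

theorem gram_pairs_minus {m i : ℕ} (a₀ b₀ : F) (h : i ≤ m) :
    (Matrix.of fun a b : Fin i ⊕ Fin i => QuadraticMap.polar (Cfsg.quadFormMinus m F a₀ b₀)
      (Pi.single (Sum.inl (Sum.map (Fin.castLE h) (Fin.castLE h) a)) 1)
      (Pi.single (Sum.inl (Sum.map (Fin.castLE h) (Fin.castLE h) b)) 1)) =
      Matrix.fromBlocks 0 1 1 0 := by
  ext a b
  rcases a with a | a <;> rcases b with b | b <;>
    simp [polar_quadFormMinus, Pi.single_apply, Matrix.one_apply, Fin.castLE_inj, ite_mul, mul_ite, Finset.sum_ite_eq, Finset.sum_ite_eq'] <;> split_ifs <;> simp_all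

theorem range_castLE_iff {m i : ℕ} (h : i ≤ m) (j : Fin m) : (∃ a : Fin i, Fin.castLE h a = j) ↔ (j : ℕ) < i :=
  ⟨fun ⟨a, e⟩ => e ▸ a.2, fun e => ⟨⟨j, e⟩, Fin.ext rfl⟩⟩

end CfsgLib.Orth
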