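import Mathlib
import Cfsg.Agent.Lib.Invol.Basic

/-!
# Recognising the groups of order four and eight, and descending homomorphisms to an image
-/

set_option autoImplicit false
set_option linter.all false

namespace CfsgLib.Orth

/-- a homomorphism killing the kernel of `f` descends to the image of `f` -/
theorem exists_descend {G A T : Type*} [Group G] [Group A] [Group T] (f : G →* A) (g : G →* T) (hk : f.ker ≤ g.ker) :
    ∃ φ : ↥f.range →* T, ∀ x, φ (f.rangeRestrict x) = g x := by
  have hs : Function.Surjective f.rangeRestrict := f.rangeRestrict_surjective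
  refine ⟨f.rangeRestrict.liftOfSurjective hs ⟨g, by rwa [MonoidHom.ker_rangeRestrict]⟩, fun x => ?_⟩
  exact MonoidHom.liftOfRightInverse_comp_apply _ _ _ _ x

/-- a quotient map with a prescribed kernel -/
theorem exists_quot {A T : Type*} [Group A] [Group T] {H : Subgroup A} (N : Subgroup A) [(N.subgroupOf H).Normal]
    (e : Nonempty ((↥H ⧸ N.subgroupOf H) ≃* T)) :
    ∃ φ : ↥H →* T, Function.Surjective φ ∧ φ.ker = N.subgroupOf H := by
  obtain ⟨e⟩ := e
  refine ⟨e.toMonoidHom.comp (QuotientGroup.mk' _), e.surjective.comp (QuotientGroup.mk'_surjective _), ?_⟩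
  rw [← MonoidHom.comap_ker, (MonoidHom.ker_eq_bot_iff _).2 e.injective, MonoidHom.comap_bot, QuotientGroup.ker_mk']

variable {P : Type*} [Group P]

theorem klein_of_pair (h4 : Nat.card P = 4) {g u : P} (hg : g * g = 1) (hu : u * u = 1) (hg1 : g ≠ 1) (hu1 : u ≠ 1)
    (hgu : g ≠ u) : Nonempty (P ≃* Multiplicative (ZMod 2 × ZMod 2)) := by
  haveI : Finite P := Nat.finite_of_card_ne_zero (by omega)
  classical
  haveI := Fintype.ofFinite P
  have h1 : g * u ≠ 1 := fun h => hgu (mul_left_cancel (hg.trans h.symm))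
  have h2 : g * u ≠ g := fun h => hu1 (mul_left_cancel (h.trans (mul_one g).symm))
  have h3 : g * u ≠ u := fun h => hg1 (mul_right_cancel (h.trans (one_mul u).symm))
  have h1' : u * g ≠ 1 := fun h => hgu (mul_left_cancel (hu.trans h.symm)).symm
  have h2' : u * g ≠ u := fun h => hg1 (mul_left_cancel (h.trans (mul_one u).symm))
  have h3' : u * g ≠ g := fun h => hu1 (mul_right_cancel (h.trans (one_mul g).symm))
  have hall : ∀ x : P, x = 1 ∨ x = g ∨ x = u ∨ x = g * u := fun x => by
    have hc : ({1, g, u, g * u} : Finset P).card = 4 := by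
      rw [Finset.card_insert_of_notMem (by simp [hg1.symm, hu1.symm, h1.symm]),
        Finset.card_insert_of_notMem (by simp [hgu, h2.symm]),
        Finset.card_insert_of_notMem (by simp [h3.symm]), Finset.card_singleton]
    have := (Finset.eq_univ_of_card _ (by rw [hc, ← Nat.card_eq_fintype_card, h4])).symm ▸ Finset.mem_univ x
    simpa using this
  have hcomm : u * g = g * u := by
    rcases hall (u * g) with h | h | h | h
    · exact absurd h h1'
    · exact absurd h h3'
    · exact absurd h h2'
    · exact h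
  haveI : IsKleinFour P := ⟨h4, by
    refine Nat.prime_two.eq_one_or_self_of_dvd _ (Monoid.exponent_dvd_of_forall_pow_eq_one fun x => ?_) |>.resolve_left
      fun h => hg1 (by simpa [h] using Monoid.pow_exponent_eq_one g)
    rw [sq]
    rcases hall x with rfl | rfl | rfl | rfl
    · exact one_mul 1
    · exact hg
    · exact hu
    · rw [mul_assoc, ← mul_assoc u, hcomm, mul_assoc g u u, hu, mul_one, hg]⟩
  haveI : IsKleinFour (Multiplicative (ZMod 2 × ZMod 2)) := inferInstance
  exact IsKleinFour.nonempty_mulEquiv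

theorem zmod4_of_sq (h4 : Nat.card P = 4) {g : P} (hg : g * g ≠ 1) : Nonempty (P ≃* Multiplicative (ZMod 4)) := by
  haveI : Finite P := Nat.finite_of_card_ne_zero (by omega)
  have h1 : orderOf g ∣ 2 ^ 2 := by
    have h := orderOf_dvd_natCard g
    rw [h4] at h
    exact h
  obtain ⟨i, hi, hi'⟩ := (Nat.dvd_prime_pow Nat.prime_two).1 h1
  have h2 : orderOf g = 4 := by
    interval_cases i
    · exact absurd (by rw [orderOf_eq_one_iff.1 hi', one_mul]) hg
    · exact absurd (by rw [← sq, ← orderOf_dvd_iff_pow_eq_one, hi']; norm_num) hg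
    · exact hi'
  haveI : IsCyclic P := isCyclic_of_orderOf_eq_card g (h2.trans h4.symm)
  exact ⟨(zmodCyclicMulEquiv ‹_›).symm.trans (AddEquiv.toMultiplicative (ZMod.ringEquivCongr h4).toAddEquiv)⟩

theorem zmod2_of (h2 : Nat.card P = 2) : Nonempty (P ≃* Multiplicative (ZMod 2)) :=
  ⟨mulEquivOfPrimeCardEq (p := 2) h2 (by simp)⟩

theorem dihedral_of (h8 : Nat.card P = 8) {r g : P} (hr : r * r = 1) (hne : g * r ≠ r * g) :
    Nonempty (P ≃* DihedralGroup 4) := by
  haveI : Finite P := Nat.finite_of_card_ne_zero (by omega)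
  obtain ⟨a, ha⟩ : ∃ a : P, orderOf a = 4 := by
    by_contra hcon
    push Not at hcon
    have hsq : ∀ x : P, x * x = 1 := fun x => by
      have h1 : orderOf x ∣ 2 ^ 3 := by
        have h := orderOf_dvd_natCard x
        rw [h8] at h
        exact h
      obtain ⟨i, hi, hi'⟩ := (Nat.dvd_prime_pow Nat.prime_two).1 h1
      rw [← sq, ← orderOf_dvd_iff_pow_eq_one]
      interval_cases i
      · rw [hi']; norm_num
      · rw [hi']; norm_num
      · exact absurd hi' (hcon x)
      · haveI : IsCyclic P := isCyclic_of_orderOf_eq_card x (hi'.trans h8.symm)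
        exact absurd (IsCyclic.commGroup.mul_comm g r) hne
    refine hne ?_
    have hinv : ∀ x : P, x⁻¹ = x := fun x => inv_eq_of_mul_eq_one_right (hsq x)
    calc g * r = (g * r)⁻¹ := (hinv _).symm
      _ = r * g := by rw [mul_inv_rev, hinv, hinv]
  have hidx : (Subgroup.zpowers a).index = 2 := by
    have h := (Subgroup.zpowers a).card_mul_index
    rw [Nat.card_zpowers, ha, h8] at h
    omega
  haveI := Subgroup.normal_of_index_eq_two hidx
  have key : ∀ x ∈ Subgroup.zpowers a, x = 1 ∨ x = a ∨ x = a ^ 2 ∨ x = a⁻¹ := fun x hx => by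
    classical
    obtain ⟨k, hk, rfl⟩ := Finset.mem_image.1 (mem_zpowers_iff_mem_range_orderOf.1 hx)
    rw [Finset.mem_range, ha] at hk
    interval_cases k
    · exact Or.inl (pow_zero a)
    · exact Or.inr (Or.inl (pow_one a))
    · exact Or.inr (Or.inr (Or.inl rfl))
    · refine Or.inr (Or.inr (Or.inr (eq_inv_of_mul_eq_one_left ?_)))
      rw [← pow_succ, show (3 : ℕ) + 1 = orderOf a by rw [ha], pow_orderOf_eq_one]
  have ha2 : a ^ 2 ≠ 1 := fun h => by
    have := orderOf_dvd_of_pow_eq_one h
    rw [ha] at this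
    norm_num at this
  have hrinv : r⁻¹ = r := inv_eq_of_mul_eq_one_right hr
  have hall : ∀ x : P, x ∈ Subgroup.zpowers a ∨ r * x ∈ Subgroup.zpowers a ∨ r ∈ Subgroup.zpowers a := fun x => by
    by_cases hrm : r ∈ Subgroup.zpowers a
    · exact Or.inr (Or.inr hrm)
    · by_cases hxm : x ∈ Subgroup.zpowers a
      · exact Or.inl hxm
      · exact Or.inr (Or.inl ((Subgroup.mul_mem_iff_of_index_two hidx).2 (iff_of_false hrm hxm)))
  have hrm : r ∉ Subgroup.zpowers a := fun hrm => by
    refine hne ?_
    rcases key r hrm with h | h | h | h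
    · rw [h, mul_one, one_mul]
    · exact absurd (by rw [sq, ← h, hr]) ha2
    · obtain ⟨y, hy⟩ : ∃ y, y = g * a * g⁻¹ := ⟨_, rfl⟩
      have hym : y ∈ Subgroup.zpowers a := hy ▸ Subgroup.Normal.conj_mem inferInstance a (Subgroup.mem_zpowers a) g
      have hyo : orderOf y = 4 := by rw [hy, ← MulAut.conj_apply, MulEquiv.orderOf_eq, ha]
      have : y ^ 2 = a ^ 2 := by
        rcases key y hym with e | e | e | e
        · rw [e, orderOf_one] at hyo; norm_num at hyo
        · rw [e]
        · rw [e, orderOf_pow' a two_ne_zero, ha] at hyo; norm_num at hyo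
        · rw [e, inv_pow, inv_eq_iff_mul_eq_one, ← pow_add, show (2 : ℕ) + 2 = orderOf a by rw [ha], pow_orderOf_eq_one]
      rw [h, ← mul_inv_eq_iff_eq_mul, ← conj_pow, ← hy, this]
    · exact absurd (by rw [← inv_inv (a ^ 2), ← inv_pow, ← h, sq, hr, inv_one]) ha2
  have hra : r * a * r = a⁻¹ := by
    have hm : r * a * r⁻¹ ∈ Subgroup.zpowers a := Subgroup.Normal.conj_mem inferInstance a (Subgroup.mem_zpowers a) r
    have hyo : orderOf (r * a * r⁻¹) = 4 := by rw [← MulAut.conj_apply, MulEquiv.orderOf_eq, ha]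
    rw [hrinv] at hm hyo
    rcases key _ hm with e | e | e | e
    · rw [e, orderOf_one] at hyo; norm_num at hyo
    · exfalso
      have hra : r * a = a * r := by
        calc r * a = r * a * (r * r) := by rw [hr, mul_one]
          _ = r * a * r * r := by group
          _ = a * r := by rw [e]
      refine hne ?_
      have hcc : ∀ x ∈ Subgroup.zpowers a, Commute r x := fun x hx => by
        obtain ⟨k, rfl⟩ := hx
        exact (show Commute r a from hra).zpow_right k
      rcases hall g with h | h | h
      · exact (hcc g h).eq.symm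
      · have h3 : Commute r (r * g) := hcc _ h
        have h4 : Commute r (r * (r * g)) := (Commute.refl r).mul_right h3
        rw [← mul_assoc, hr, one_mul] at h4
        exact h4.eq.symm
      · exact absurd h hrm
    · rw [e, orderOf_pow' a two_ne_zero, ha] at hyo; norm_num at hyo
    · exact e
  have hy2 : (r * a) * (r * a) = 1 := by rw [← mul_assoc, hra, inv_mul_cancel]
  have hxy : r * (r * a) = a := by rw [← mul_assoc, hr, one_mul]
  have htop : Subgroup.closure ({r, r * a} : Set P) = ⊤ := by
    refine top_le_iff.1 fun x _ => ?_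
    have ham : a ∈ Subgroup.closure ({r, r * a} : Set P) := by
      have := mul_mem (Subgroup.subset_closure (Set.mem_insert r {r * a}))
        (Subgroup.subset_closure (Set.mem_insert_of_mem r (Set.mem_singleton (r * a))))
      rwa [hxy] at this
    have hle : Subgroup.zpowers a ≤ Subgroup.closure ({r, r * a} : Set P) := Subgroup.zpowers_le.2 ham
    rcases hall x with h | h | h
    · exact hle h
    · have := mul_mem (Subgroup.subset_closure (Set.mem_insert r {r * a})) (hle h)
      rwa [← mul_assoc, hr, one_mul] at this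
    · exact absurd h hrm
  have hr1 : r ≠ 1 := fun h => hrm (h ▸ one_mem _)
  have hy1 : r * a ≠ 1 := fun h => hrm (by rw [mul_eq_one_iff_eq_inv.1 h]; exact inv_mem (Subgroup.mem_zpowers a))
  have e := CfsgLib.Invol.dihedralEquiv (x := r) (y := r * a) (orderOf_eq_prime (by rw [sq, hr]) hr1)
    (orderOf_eq_prime (by rw [sq, hy2]) hy1)
  rw [hxy, ha] at e
  exact ⟨(Subgroup.topEquiv.symm.trans (MulEquiv.subgroupCongr htop.symm)).trans e⟩

end CfsgLib.Orth
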