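import Cfsg.Agent.Lib.Orth.Omega
import Cfsg.Agent.Lib.Classical.QuadBasic
import Mathlib.LinearAlgebra.Matrix.SchurComplement

/-!
# Index of `Omega`, determinants, involutions
-/

set_option autoImplicit false
set_option linter.all false

namespace CfsgLib.Orth

open scoped Matrix
open Matrix Cfsg.Geo CfsgLib.Perm.Asch CfsgLib.Perm.Trans CfsgLib.Perm.Trans.Quad

variable {ι : Type} [Fintype ι] [DecidableEq ι] {F : Type*} [Field F] [Fintype F]
variable {Q : (ι → F) → F}

local notation "pol" => QuadraticMap.polar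

omit [Fintype F] in
theorem isRefl_reflectionMatrix {Q : QuadraticForm F (ι → F)} {v : ι → F} {g : GL ι F}
    (hg : (g : Matrix ι ι F) = Cfsg.reflectionMatrix ⇑Q v) : IsRefl (⇑Q) v g := fun x => by
  rw [hg, CfsgLib.Classical.reflectionMatrix_mulVec]
  congr 1
  rw [QuadraticMap.polar_comm]

omit [Fintype F] in
theorem nd_of_qf (Q : QuadraticForm F (ι → F)) (hQ : (QuadraticMap.polarBilin Q).Nondegenerate) :
    IsNondegenerateQuadraticForm (⇑Q) := nd_of_bundled Q hQ

variable (hQ : IsNondegenerateQuadraticForm Q)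
include hQ

theorem det_refl {r : GL ι F} {v : ι → F} (hrv : IsRefl Q v r) (hv : Q v ≠ 0) :
    (r : Matrix ι ι F).det = -1 := by
  have hm : (r : Matrix ι ι F) = 1 + Matrix.replicateCol Unit (-((Q v)⁻¹) • v) * Matrix.replicateRow Unit (pv hQ v) := by
    refine Matrix.ext_iff_mulVec.2 fun x => ?_
    rw [hrv, Matrix.add_mulVec, Matrix.one_mulVec, ← Matrix.vecMulVec_eq, Matrix.vecMulVec_mulVec, op_smul_eq_smul,
      pv_dot]
    module
  rw [hm, Matrix.det_one_add_replicateCol_mul_replicateRow, dotProduct_smul, pv_dot, pself hQ, smul_eq_mul]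
  field_simp
  ring

theorem det_eq_neg_one_pow (hex : Fintype.card F ≠ 2 ∨ Fintype.card ι ≠ 4) {g : GL ι F}
    (hg : g ∈ Cfsg.isometryGroup F Q) : (g : Matrix ι ι F).det = (-1) ^ wrk g := by
  have h := iso_le_reflGroup hQ hex hg
  clear hg
  induction h using Subgroup.closure_induction with
  | mem r hr =>
    obtain ⟨hri, v, hv, hrv⟩ := hr
    rw [det_refl hQ hrv hv, (refl_spn hQ hri hrv hv).1, pow_one]
  | one => rw [(spn_one hQ).1, Units.val_one, Matrix.det_one, pow_zero]
  | mul a b ha hb iha ihb =>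
    rw [Units.val_mul, Matrix.det_mul, iha, ihb, ← pow_add, neg_one_pow_eq_pow_mod_two,
      neg_one_pow_eq_pow_mod_two (n := wrk (a * b))]
    have h := (spn_mul hQ ha (reflGroup_le hb)).2
    rw [Nat.even_iff, Nat.even_iff, Nat.even_iff] at h
    congr 1
    omega
  | inv a ha iha =>
    have h := (spn_mul hQ ha (inv_mem (reflGroup_le ha))).2
    rw [mul_inv_cancel, (spn_one hQ).1] at h
    have he : wrk a⁻¹ % 2 = wrk a % 2 := by
      have := h.1 ⟨0, rfl⟩
      rw [Nat.even_iff, Nat.even_iff] at this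
      omega
    rw [neg_one_pow_eq_pow_mod_two, he, ← neg_one_pow_eq_pow_mod_two, ← iha]
    have hm : (a : Matrix ι ι F).det * ((a⁻¹ : GL ι F) : Matrix ι ι F).det = 1 := by
      rw [← Matrix.det_mul, ← Units.val_mul, mul_inv_cancel, Units.val_one, Matrix.det_one]
    have hs : (a : Matrix ι ι F).det * (a : Matrix ι ι F).det = 1 := by
      rw [iha, ← pow_add, ← two_mul, pow_mul, neg_one_sq, one_pow]
    exact mul_left_cancel₀ (left_ne_zero_of_mul_eq_one hs) (hm.trans hs.symm)

theorem det_eq_one_iff (h2 : (2 : F) ≠ 0) {g : GL ι F} (hg : g ∈ Cfsg.isometryGroup F Q) :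
    (g : Matrix ι ι F).det = 1 ↔ Even (wrk g) := by
  have hex : Fintype.card F ≠ 2 ∨ Fintype.card ι ≠ 4 := Or.inl fun h => h2 (by
    have := FiniteField.cast_card_eq_zero F
    rwa [h, Nat.cast_ofNat] at this)
  rw [det_eq_neg_one_pow hQ hex hg]
  refine ⟨fun h => ?_, fun h => h.neg_one_pow⟩
  by_contra hne
  rw [(Nat.not_even_iff_odd.1 hne).neg_one_pow] at h
  exact h2 (by linear_combination -h)

omit hQ in
theorem hex_of_two (h2 : (2 : F) ≠ 0) {n : ℕ} : Fintype.card F ≠ 2 ∨ n ≠ 4 := Or.inl fun h => h2 (by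
  have := FiniteField.cast_card_eq_zero F
  rwa [h, Nat.cast_ofNat] at this)

omit hQ in
theorem two_ne_zero_of_odd (h : Odd (Fintype.card F)) : (2 : F) ≠ 0 := fun h2 => by
  haveI : CharP F 2 := CharTwo.of_one_ne_zero_of_two_eq_zero one_ne_zero h2
  have := FiniteField.even_card_of_char_two (ringChar.eq F 2)
  rw [Nat.odd_iff] at h
  omega

/-- the combined homomorphism -/
noncomputable def clsHom (hex : Fintype.card F ≠ 2 ∨ Fintype.card ι ≠ 4) :
    ↥(Cfsg.isometryGroup F Q) →* SqClass F × Multiplicative (ZMod 2) :=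
  (spnHom hQ hex).prod (parHom hQ hex)

theorem clsHom_ker (hn : 2 ≤ Fintype.card ι) (hex : Fintype.card F ≠ 2 ∨ Fintype.card ι ≠ 4) :
    (clsHom hQ hex).ker = Cfsg.Omega F Q := by
  ext g
  rw [mem_omega_iff hQ hn hex, MonoidHom.mem_ker, ← parHom_eq_one_iff hQ hex]
  exact Prod.ext_iff

theorem clsHom_surjective (hn : 2 ≤ Fintype.card ι) (hex : Fintype.card F ≠ 2 ∨ Fintype.card ι ≠ 4) :
    Function.Surjective (clsHom hQ hex) := by
  obtain ⟨e, -, he⟩ := exists_nonsingular hQ (ndOn_top hQ) (fun hbot => by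
    have : Module.finrank F (ι → F) = 0 := by rw [← finrank_top F (ι → F), hbot, finrank_bot]
    rw [Module.finrank_fintype_fun_eq_card] at this
    omega)
  have hrefl : ∀ v, Q v ≠ 0 → (sqc (Q v), Multiplicative.ofAdd (1 : ZMod 2)) ∈ (clsHom hQ hex).range := by
    intro v hv
    obtain ⟨r, hr, hrv⟩ := exists_refl hQ hv
    obtain ⟨e1, e2⟩ := refl_spn hQ hr hrv hv
    refine ⟨⟨r, hr⟩, Prod.ext e2 ?_⟩
    show Multiplicative.ofAdd ((wrk r : ℕ) : ZMod 2) = _
    rw [e1, Nat.cast_one]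
  have hs : ∀ x : SqClass F, (x, 1) ∈ (clsHom hQ hex).range := by
    intro x
    obtain ⟨u, rfl⟩ : ∃ u, sqMk F u = x := QuotientGroup.mk'_surjective _ x
    have hu : sqMk F u = sqc (u : F) := by
      unfold sqc
      rw [dif_neg u.ne_zero]
      exact congrArg _ (Units.ext rfl)
    by_cases hsq : IsSquare (u : F)
    · rw [hu, (sqc_eq_one_iff u.ne_zero).2 hsq]
      exact one_mem _
    · have h2 : (2 : F) ≠ 0 := fun h => hsq (isSquare_of_two h _)
      obtain ⟨v₁, h1⟩ := exists_value hQ h2 hn 1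
      obtain ⟨v₂, h2'⟩ := exists_value hQ h2 hn (u : F)
      have := mul_mem (hrefl v₁ (h1 ▸ one_ne_zero)) (hrefl v₂ (h2' ▸ u.ne_zero))
      rw [h1, h2', sqc_one, Prod.mk_mul_mk, one_mul, ← ofAdd_add] at this
      rwa [hu]
  have hp : ∀ y : Multiplicative (ZMod 2), ((1 : SqClass F), y) ∈ (clsHom hQ hex).range := by
    intro y
    rcases (show ∀ z : ZMod 2, z = 0 ∨ z = 1 by decide) (Multiplicative.toAdd y) with h | h
    · rw [show y = 1 from h]; exact one_mem _
    · rw [show y = Multiplicative.ofAdd (1 : ZMod 2) from h]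
      have := mul_mem (hs (sqc (Q e))) (hrefl e he)
      rwa [Prod.mk_mul_mk, sqc_mul_self he, one_mul] at this
  intro p
  have := mul_mem (hs p.1) (hp p.2)
  rw [Prod.mk_mul_mk, mul_one, one_mul] at this
  exact this

omit hQ in
theorem card_sqClass_mul : Nat.card (SqClass F) = Nat.card (powMonoidHom 2 : Fˣ →* Fˣ).ker := by
  show (powMonoidHom 2 : Fˣ →* Fˣ).range.index = _
  have h1 := Subgroup.index_mul_card (powMonoidHom 2 : Fˣ →* Fˣ).range
  have h2 := Subgroup.card_mul_index (powMonoidHom 2 : Fˣ →* Fˣ).ker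
  rw [Subgroup.index_ker] at h2
  exact Nat.eq_of_mul_eq_mul_right (Nat.card_pos (α := (powMonoidHom 2 : Fˣ →* Fˣ).range)) (h1.trans h2.symm)

omit hQ in
theorem mem_sq_ker (u : Fˣ) : u ∈ (powMonoidHom 2 : Fˣ →* Fˣ).ker ↔ (u : F) = 1 ∨ (u : F) = -1 := by
  rw [MonoidHom.mem_ker, powMonoidHom_apply, Units.ext_iff, Units.val_pow_eq_pow_val, Units.val_one, sq_eq_one_iff]

omit hQ in
theorem card_sqClass_two (h : (2 : F) = 0) : Nat.card (SqClass F) = 1 := by
  rw [card_sqClass_mul, Nat.card_eq_one_iff_unique]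
  refine ⟨⟨fun a b => Subtype.ext (Units.ext ?_)⟩, ⟨1⟩⟩
  have hneg : (-1 : F) = 1 := by linear_combination -h
  rcases (mem_sq_ker a.1).1 a.2 with ea | ea <;> rcases (mem_sq_ker b.1).1 b.2 with eb | eb <;> simp [ea, eb, hneg]

omit hQ in
theorem card_sqClass_odd (h : (2 : F) ≠ 0) : Nat.card (SqClass F) = 2 := by
  have hset : ((powMonoidHom 2 : Fˣ →* Fˣ).ker : Set Fˣ) = {1, -1} := Set.ext fun u => by
    rw [SetLike.mem_coe, mem_sq_ker, Set.mem_insert_iff, Set.mem_singleton_iff, Units.ext_iff, Units.ext_iff,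
      Units.val_one, Units.val_neg, Units.val_one]
  rw [card_sqClass_mul]
  show Nat.card ↥((powMonoidHom 2 : Fˣ →* Fˣ).ker : Set Fˣ) = 2
  rw [hset, Nat.card_coe_set_eq, Set.ncard_pair]
  intro e
  have e' := congrArg Units.val e
  simp only [Units.val_one, Units.val_neg] at e'
  exact h (by linear_combination e')

theorem omega_index_eq (hn : 2 ≤ Fintype.card ι) (hex : Fintype.card F ≠ 2 ∨ Fintype.card ι ≠ 4) :
    (Cfsg.Omega F Q).index = Nat.card (SqClass F) * 2 := by
  rw [← clsHom_ker hQ hn hex, Subgroup.index_ker, MonoidHom.range_eq_top.2 (clsHom_surjective hQ hn hex),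
    Subgroup.card_top, Nat.card_prod]
  simp [Nat.card_eq_fintype_card, Fintype.card_multiplicative, ZMod.card]

theorem omega_index_odd (hn : 2 ≤ Fintype.card ι) (h2 : (2 : F) ≠ 0) : (Cfsg.Omega F Q).index = 4 := by
  rw [omega_index_eq hQ hn (hex_of_two h2), card_sqClass_odd h2]

theorem omega_index_two (hn : 2 ≤ Fintype.card ι) (hex : Fintype.card F ≠ 2 ∨ Fintype.card ι ≠ 4) (h : (2 : F) = 0) :
    (Cfsg.Omega F Q).index = 2 := by
  rw [omega_index_eq hQ hn hex, card_sqClass_two h]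

/-- spinor norm of an involution: the discriminant of twice its `-1` space -/
theorem spn_of_negating (h2 : (2 : F) ≠ 0) {g : GL ι F} (hg : g ∈ Cfsg.isometryGroup F Q) {k : ℕ}
    {w : Fin k → ι → F} (hli : LinearIndependent F w) (hneg : ∀ i, (g : Matrix ι ι F) *ᵥ w i = -w i)
    (hmv : ∀ x, x - (g : Matrix ι ι F) *ᵥ x ∈ Submodule.span F (Set.range w)) :
    wrk g = k ∧ spn Q g = sqc ((2 : F) ^ k * (Matrix.of fun i j => pol Q (w i) (w j)).det) := by
  have hd : (fun i => disp g (w i)) = fun i => (2 : F) • w i := funext fun i => by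
    rw [disp_apply, hneg, sub_neg_eq_add, two_smul]
  have hsp : Set.range (fun i => disp g (w i)) ⊆ Submodule.span F (Set.range w) := by
    rintro _ ⟨i, rfl⟩; exact hmv _
  obtain ⟨h1, h3⟩ := spn_eq_det hQ hg (w := w) (by
    rw [hd]; exact hli.units_smul fun _ => Units.mk0 2 h2) (by
    rintro _ ⟨x, rfl⟩
    refine (Submodule.span_le.2 ?_) (hmv x)
    rintro _ ⟨i, rfl⟩
    show w i ∈ Submodule.span F (Set.range fun j => disp g (w j))
    rw [show w i = (2 : F)⁻¹ • disp g (w i) by rw [congrFun hd i, inv_smul_smul₀ h2]]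
    exact Submodule.smul_mem _ _ (Submodule.subset_span ⟨i, rfl⟩))
  refine ⟨h1, ?_⟩
  rw [h3]
  congr 1
  rw [show wallMat Q g w = (2 : F) • Matrix.of fun i j => pol Q (w i) (w j) by
    ext i j
    simp only [wallMat, Matrix.of_apply, Matrix.smul_apply, smul_eq_mul]
    rw [congrFun hd j, psmul_right hQ], Matrix.det_smul, Fintype.card_fin]

end CfsgLib.Orth
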