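import Mathlib

/-!
# Determinants of matrices with a scalar square
-/

set_option autoImplicit false
set_option linter.all false

namespace CfsgLib.Orth

open Matrix

variable {ι : Type} [Fintype ι] [DecidableEq ι] {F : Type*} [Field F]

/-- an involution has determinant `(-1) ^ dim` of its negated space -/
theorem det_invol (h2 : (2 : F) ≠ 0) {h : Matrix ι ι F} (hh : h * h = 1) :
    h.det = (-1) ^ Module.finrank F (LinearMap.ker (Matrix.mulVecLin h + 1)) ∧
      IsCompl (LinearMap.ker (Matrix.mulVecLin h - 1)) (LinearMap.ker (Matrix.mulVecLin h + 1)) := by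
  obtain ⟨L, hL⟩ : ∃ L : (ι → F) →ₗ[F] (ι → F), L = Matrix.mulVecLin h := ⟨_, rfl⟩
  rw [← hL]
  have hLL : ∀ x, L (L x) = x := fun x => by rw [hL]; simp [Matrix.mulVec_mulVec, hh]
  obtain ⟨P, hP⟩ : ∃ P, P = LinearMap.ker (L - 1) := ⟨_, rfl⟩
  obtain ⟨N, hN⟩ : ∃ N, N = LinearMap.ker (L + 1) := ⟨_, rfl⟩
  rw [← hP, ← hN]
  have hPm : ∀ x, x ∈ P ↔ L x = x := fun x => by rw [hP, LinearMap.mem_ker]; simp [sub_eq_zero]
  have hNm : ∀ x, x ∈ N ↔ L x = -x := fun x => by rw [hN, LinearMap.mem_ker]; simp [add_eq_zero_iff_eq_neg]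
  have hc : IsCompl P N := by
    constructor
    · rw [disjoint_iff, Submodule.eq_bot_iff]
      rintro x ⟨h1, h1'⟩
      have h3 := ((hPm x).1 h1).symm.trans ((hNm x).1 h1')
      have h4 : (2 : F) • x = 0 := by rw [two_smul]; exact add_eq_zero_iff_eq_neg.2 h3
      exact (smul_eq_zero.1 h4).resolve_left h2
    · rw [codisjoint_iff, eq_top_iff]
      intro x _
      refine Submodule.mem_sup.2 ⟨(2 : F)⁻¹ • (x + L x), (hPm _).2 ?_, (2 : F)⁻¹ • (x - L x), (hNm _).2 ?_, ?_⟩
      · rw [map_smul, map_add, hLL, add_comm]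
      · rw [map_smul, map_sub, hLL, ← smul_neg, neg_sub]
      · rw [← smul_add, show x + L x + (x - L x) = (2 : F) • x by rw [two_smul]; abel, inv_smul_smul₀ h2]
  refine ⟨?_, hc⟩
  let e := Submodule.prodEquivOfIsCompl P N hc
  have he : (e.toLinearMap.comp ((LinearMap.id : P →ₗ[F] P).prodMap ((-1 : F) • (LinearMap.id : N →ₗ[F] N)))).comp
      e.symm.toLinearMap = L := by
    refine LinearMap.ext fun x => ?_
    obtain ⟨⟨p, n⟩, rfl⟩ := e.surjective x
    simp [e, Submodule.coe_prodEquivOfIsCompl', (hPm _).1 p.2, (hNm _).1 n.2]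
  rw [show h.det = LinearMap.det L by rw [hL, ← Matrix.toLin'_apply', LinearMap.det_toLin'], ← he]
  rw [show (e.toLinearMap.comp ((LinearMap.id : P →ₗ[F] P).prodMap ((-1 : F) • (LinearMap.id : N →ₗ[F] N)))).comp
      e.symm.toLinearMap = e.toLinearMap.comp (((LinearMap.id : P →ₗ[F] P).prodMap ((-1 : F) • (LinearMap.id : N →ₗ[F] N))).comp
      e.symm.toLinearMap) from rfl, LinearMap.det_conj, LinearMap.det_prodMap, LinearMap.det_id, one_mul,
    LinearMap.det_smul, LinearMap.det_id, mul_one]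

/-- a square root of a non-square scalar has determinant `(-d) ^ (n / 2)` -/
theorem det_of_sq_nonsquare {d : F} (hd : ¬ IsSquare d) {g : Matrix ι ι F} (hg : g * g = d • 1) {k : ℕ}
    (hk : Fintype.card ι = k + k) : g.det = (-d) ^ k := by
  have hirr : Irreducible (Polynomial.X ^ 2 - Polynomial.C d : Polynomial F) :=
    X_pow_sub_C_irreducible_of_prime Nat.prime_two fun x hx => hd ⟨x, by rw [← hx, sq]⟩
  haveI := Fact.mk hirr
  obtain ⟨L, hL⟩ : ∃ L : Module.End F (ι → F), L = Matrix.mulVecLin g := ⟨_, rfl⟩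
  have hLL : Polynomial.aeval L (Polynomial.X ^ 2 - Polynomial.C d) = 0 := by
    rw [map_sub, map_pow, Polynomial.aeval_X, Polynomial.aeval_C, sub_eq_zero]
    refine LinearMap.ext fun x => ?_
    show (L ^ 2) x = d • x
    rw [pow_two, Module.End.mul_apply, hL]
    simp [Matrix.mulVec_mulVec, hg, smul_mulVec]
  have hle : ∀ q ∈ Ideal.span {(Polynomial.X ^ 2 - Polynomial.C d : Polynomial F)}, Polynomial.aeval L q = 0 := by
    intro q hq
    obtain ⟨r, rfl⟩ := Ideal.mem_span_singleton'.1 hq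
    rw [map_mul, hLL, mul_zero]
  let φ : AdjoinRoot (Polynomial.X ^ 2 - Polynomial.C d) →ₐ[F] Module.End F (ι → F) :=
    Ideal.Quotient.liftₐ _ (Polynomial.aeval L) hle
  have hroot : φ (AdjoinRoot.root _) = L := by
    show Ideal.Quotient.lift _ (Polynomial.aeval L : Polynomial F →ₐ[F] Module.End F (ι → F)).toRingHom hle (Ideal.Quotient.mk _ Polynomial.X) = L
    rw [Ideal.Quotient.lift_mk]
    exact Polynomial.aeval_X L
  letI : Module (AdjoinRoot (Polynomial.X ^ 2 - Polynomial.C d)) (ι → F) := Module.compHom _ φ.toRingHom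
  haveI : IsScalarTower F (AdjoinRoot (Polynomial.X ^ 2 - Polynomial.C d)) (ι → F) :=
    IsScalarTower.of_algebraMap_smul fun r x => by
      show φ (algebraMap F _ r) x = r • x
      rw [AlgHom.commutes]
      rfl
  haveI : Module.Finite (AdjoinRoot (Polynomial.X ^ 2 - Polynomial.C d)) (ι → F) :=
    Module.Finite.of_restrictScalars_finite F _ _
  have hdim : Module.finrank F (AdjoinRoot (Polynomial.X ^ 2 - Polynomial.C d)) = 2 := by
    rw [(AdjoinRoot.powerBasis hirr.ne_zero).finrank, AdjoinRoot.powerBasis_dim, Polynomial.natDegree_X_pow_sub_C]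
  obtain ⟨z, hz⟩ : ∃ z : AdjoinRoot (Polynomial.X ^ 2 - Polynomial.C d), z = AdjoinRoot.root _ := ⟨_, rfl⟩
  have hnorm : Algebra.norm F z = -d := by
    rw [hz, ← AdjoinRoot.powerBasis_gen hirr.ne_zero, Algebra.PowerBasis.norm_gen_eq_coeff_zero_minpoly,
      AdjoinRoot.powerBasis_dim, Polynomial.natDegree_X_pow_sub_C, AdjoinRoot.powerBasis_gen,
      AdjoinRoot.minpoly_root hirr.ne_zero, (Polynomial.monic_X_pow_sub_C d two_ne_zero).leadingCoeff]
    simp [Polynomial.coeff_X_pow]
  have hrk : Module.finrank (AdjoinRoot (Polynomial.X ^ 2 - Polynomial.C d)) (ι → F) = k := by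
    have h := Module.finrank_mul_finrank F (AdjoinRoot (Polynomial.X ^ 2 - Polynomial.C d)) (ι → F)
    rw [hdim, Module.finrank_fintype_fun_eq_card, hk] at h
    omega
  have hres : (z • (LinearMap.id : (ι → F) →ₗ[AdjoinRoot (Polynomial.X ^ 2 - Polynomial.C d)] (ι → F))).restrictScalars F = L :=
    LinearMap.ext fun x => by
      show φ z x = L x
      rw [hz]
      exact LinearMap.congr_fun hroot x
  rw [show g.det = LinearMap.det L by rw [hL, ← Matrix.toLin'_apply', LinearMap.det_toLin'], ← hres,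
    LinearMap.det_restrictScalars, LinearMap.det_smul, LinearMap.det_id, mul_one, hrk, map_pow, hnorm]

end CfsgLib.Orth
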