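import Cfsg.Agent.Lib.Orth.Facts

/-!
# Orthogonal sums
-/

set_option autoImplicit false
set_option linter.all false

namespace CfsgLib.Orth

open scoped Matrix
open Matrix Cfsg.Geo CfsgLib.Perm.Asch CfsgLib.Perm.Trans CfsgLib.Perm.Trans.Quad

variable {α β : Type} [Fintype α] [DecidableEq α] [Fintype β] [DecidableEq β] {F : Type*} [Field F]

local notation "pol" => QuadraticMap.polar

/-- the sum form -/
abbrev sumForm (Q₁ : (α → F) → F) (Q₂ : (β → F) → F) (v : α ⊕ β → F) : F :=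
  Q₁ (v ∘ Sum.inl) + Q₂ (v ∘ Sum.inr)

/-- block diagonal matrices -/
def blockGL : GL α F × GL β F →* GL (α ⊕ β) F where
  toFun g := ⟨Matrix.fromBlocks (g.1 : Matrix α α F) 0 0 (g.2 : Matrix β β F),
    Matrix.fromBlocks ((g.1⁻¹ : GL α F) : Matrix α α F) 0 0 ((g.2⁻¹ : GL β F) : Matrix β β F),
    by simp [Matrix.fromBlocks_multiply], by simp [Matrix.fromBlocks_multiply]⟩
  map_one' := Units.ext (by simp)
  map_mul' a b := Units.ext (by simp [Matrix.fromBlocks_multiply])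

theorem blockGL_coe (a : GL α F) (b : GL β F) : (blockGL (a, b) : Matrix (α ⊕ β) (α ⊕ β) F) =
    Matrix.fromBlocks (a : Matrix α α F) 0 0 (b : Matrix β β F) := rfl

theorem blockGL_mulVec (a : GL α F) (b : GL β F) (x : α ⊕ β → F) :
    (blockGL (a, b) : Matrix (α ⊕ β) (α ⊕ β) F) *ᵥ x =
      Sum.elim ((a : Matrix α α F) *ᵥ (x ∘ Sum.inl)) ((b : Matrix β β F) *ᵥ (x ∘ Sum.inr)) := by
  rw [blockGL_coe, Matrix.fromBlocks_mulVec]
  simp

variable {Q₁ : (α → F) → F} {Q₂ : (β → F) → F}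

theorem blockGL_mem {a : GL α F} (ha : a ∈ Cfsg.isometryGroup F Q₁) {b : GL β F}
    (hb : b ∈ Cfsg.isometryGroup F Q₂) : blockGL (a, b) ∈ Cfsg.isometryGroup F (sumForm Q₁ Q₂) :=
  mem_iso.2 fun x => by
    show Q₁ ((((blockGL (a, b) : GL (α ⊕ β) F) : Matrix (α ⊕ β) (α ⊕ β) F) *ᵥ x) ∘ Sum.inl) + _ = _
    rw [blockGL_mulVec, Sum.elim_comp_inl, Sum.elim_comp_inr, mem_iso.1 ha, mem_iso.1 hb]

/-- block diagonal isometries -/
def blockIso (Q₁ : (α → F) → F) (Q₂ : (β → F) → F) :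
    ↥(Cfsg.isometryGroup F Q₁) × ↥(Cfsg.isometryGroup F Q₂) →* ↥(Cfsg.isometryGroup F (sumForm Q₁ Q₂)) :=
  (blockGL.comp ((Cfsg.isometryGroup F Q₁).subtype.prodMap (Cfsg.isometryGroup F Q₂).subtype)).codRestrict _
    fun g => blockGL_mem g.1.2 g.2.2

theorem blockIso_mem_omega {a : ↥(Cfsg.isometryGroup F Q₁)} (ha : a ∈ Cfsg.Omega F Q₁)
    {b : ↥(Cfsg.isometryGroup F Q₂)} (hb : b ∈ Cfsg.Omega F Q₂) :
    blockIso Q₁ Q₂ (a, b) ∈ Cfsg.Omega F (sumForm Q₁ Q₂) := by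
  have h1 : blockIso Q₁ Q₂ (a, 1) ∈ Cfsg.Omega F (sumForm Q₁ Q₂) := by
    have h := Subgroup.mem_map_of_mem ((blockIso Q₁ Q₂).comp (MonoidHom.inl _ _)) ha
    refine (show Subgroup.map _ (commutator ↥(Cfsg.isometryGroup F Q₁)) ≤ _ from ?_) h
    rw [commutator_def, Subgroup.map_commutator]
    exact Subgroup.commutator_mono le_top le_top
  have h2 : blockIso Q₁ Q₂ (1, b) ∈ Cfsg.Omega F (sumForm Q₁ Q₂) := by
    have h := Subgroup.mem_map_of_mem ((blockIso Q₁ Q₂).comp (MonoidHom.inr _ _)) hb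
    refine (show Subgroup.map _ (commutator ↥(Cfsg.isometryGroup F Q₂)) ≤ _ from ?_) h
    rw [commutator_def, Subgroup.map_commutator]
    exact Subgroup.commutator_mono le_top le_top
  have h3 := mul_mem h1 h2
  rwa [← map_mul, Prod.mk_mul_mk, mul_one, one_mul] at h3

variable (hQ₁ : IsNondegenerateQuadraticForm Q₁) (hQ₂ : IsNondegenerateQuadraticForm Q₂)
include hQ₁ hQ₂

theorem sumForm_polar (x y : α ⊕ β → F) : pol (sumForm Q₁ Q₂) x y =
    pol Q₁ (x ∘ Sum.inl) (y ∘ Sum.inl) + pol Q₂ (x ∘ Sum.inr) (y ∘ Sum.inr) := by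
  simp only [QuadraticMap.polar, sumForm]
  rw [show (x + y) ∘ Sum.inl = x ∘ Sum.inl + y ∘ Sum.inl from rfl,
    show (x + y) ∘ Sum.inr = x ∘ Sum.inr + y ∘ Sum.inr from rfl]
  ring

theorem sumForm_nd : IsNondegenerateQuadraticForm (sumForm Q₁ Q₂) where
  smul c v := by
    show Q₁ ((c • v) ∘ Sum.inl) + Q₂ ((c • v) ∘ Sum.inr) = _
    rw [show (c • v) ∘ Sum.inl = c • (v ∘ Sum.inl) from rfl, show (c • v) ∘ Sum.inr = c • (v ∘ Sum.inr) from rfl,
      hQ₁.smul, hQ₂.smul, mul_add]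
  polar_bilinear := by
    constructor
    · intro x y z
      rw [sumForm_polar hQ₁ hQ₂, sumForm_polar hQ₁ hQ₂, sumForm_polar hQ₁ hQ₂,
        show (x + y) ∘ Sum.inl = x ∘ Sum.inl + y ∘ Sum.inl from rfl,
        show (x + y) ∘ Sum.inr = x ∘ Sum.inr + y ∘ Sum.inr from rfl, padd_left hQ₁, padd_left hQ₂]
      ring
    · intro c x z
      rw [sumForm_polar hQ₁ hQ₂, sumForm_polar hQ₁ hQ₂, show (c • x) ∘ Sum.inl = c • (x ∘ Sum.inl) from rfl,
        show (c • x) ∘ Sum.inr = c • (x ∘ Sum.inr) from rfl, psmul_left hQ₁, psmul_left hQ₂]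
      ring
    · intro x y z
      rw [sumForm_polar hQ₁ hQ₂, sumForm_polar hQ₁ hQ₂, sumForm_polar hQ₁ hQ₂,
        show (y + z) ∘ Sum.inl = y ∘ Sum.inl + z ∘ Sum.inl from rfl,
        show (y + z) ∘ Sum.inr = y ∘ Sum.inr + z ∘ Sum.inr from rfl, padd_right hQ₁, padd_right hQ₂]
      ring
    · intro c x z
      rw [sumForm_polar hQ₁ hQ₂, sumForm_polar hQ₁ hQ₂, show (c • z) ∘ Sum.inl = c • (z ∘ Sum.inl) from rfl,
        show (c • z) ∘ Sum.inr = c • (z ∘ Sum.inr) from rfl, psmul_right hQ₁, psmul_right hQ₂]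
      ring
  nondegenerate := by
    intro v hv
    have hsymm : ∀ p, pol (sumForm Q₁ Q₂) p v = pol (sumForm Q₁ Q₂) v p := fun p => pcomm p v
    by_cases h1 : v ∘ Sum.inl = 0
    · have h2 : v ∘ Sum.inr ≠ 0 := fun e => hv (funext fun i => by
        rcases i with i | i
        · exact congrFun h1 i
        · exact congrFun e i)
      obtain ⟨-, y, hy⟩ := hQ₂.nondegenerate _ h2
      have : pol (sumForm Q₁ Q₂) v (Sum.elim 0 y) ≠ 0 := by
        rw [sumForm_polar hQ₁ hQ₂, Sum.elim_comp_inl, Sum.elim_comp_inr, pzero_right hQ₁, zero_add]; exact hy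
      exact ⟨⟨_, (hsymm _).trans_ne this⟩, ⟨_, this⟩⟩
    · obtain ⟨-, y, hy⟩ := hQ₁.nondegenerate _ h1
      have : pol (sumForm Q₁ Q₂) v (Sum.elim y 0) ≠ 0 := by
        rw [sumForm_polar hQ₁ hQ₂, Sum.elim_comp_inl, Sum.elim_comp_inr, pzero_right hQ₂, add_zero]; exact hy
      exact ⟨⟨_, (hsymm _).trans_ne this⟩, ⟨_, this⟩⟩

theorem spn_block_left [Fintype F] {a : GL α F} (ha : a ∈ Cfsg.isometryGroup F Q₁) :
    wrk (blockGL (a, (1 : GL β F))) = wrk a ∧
      spn (sumForm Q₁ Q₂) (blockGL (a, (1 : GL β F))) = spn Q₁ a := by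
  obtain ⟨w, hli, hsp⟩ := exists_frame a
  obtain ⟨-, hs⟩ := spn_eq_det hQ₁ ha hli hsp
  let L : (α → F) →ₗ[F] (α ⊕ β → F) :=
    { toFun := fun x => Sum.elim x 0
      map_add' := fun x y => by funext i; rcases i with i | i <;> simp
      map_smul' := fun c x => by funext i; rcases i with i | i <;> simp }
  have hd : ∀ x : α ⊕ β → F, disp (blockGL (a, (1 : GL β F))) x = L (disp a (x ∘ Sum.inl)) := fun x => by
    rw [disp_apply, blockGL_mulVec, Units.val_one, one_mulVec]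
    funext i
    rcases i with i | i <;> simp [L, disp_apply]
  have hdw : ∀ i, disp (blockGL (a, (1 : GL β F))) (L (w i)) = L (disp a (w i)) := fun i => by rw [hd]; rfl
  have hinj : LinearMap.ker L = ⊥ := LinearMap.ker_eq_bot.2 fun x y e => by
    have := congrArg (fun f => f ∘ Sum.inl) e
    exact this
  obtain ⟨h1, h2⟩ := spn_eq_det (sumForm_nd hQ₁ hQ₂) (blockGL_mem ha (one_mem _)) (w := fun i => L (w i))
    (by simp only [hdw]; exact hli.map' L hinj) (by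
      rintro _ ⟨x, rfl⟩
      obtain ⟨c, hc⟩ := (Submodule.mem_span_range_iff_exists_fun F).1 (hsp ⟨x ∘ Sum.inl, rfl⟩)
      refine (Submodule.mem_span_range_iff_exists_fun F).2 ⟨c, ?_⟩
      rw [hd, ← hc, map_sum]
      simp only [hdw, map_smul])
  refine ⟨h1, ?_⟩
  rw [h2, hs]
  congr 2
  ext i j
  simp only [wallMat, Matrix.of_apply, hdw]
  rw [sumForm_polar hQ₁ hQ₂]
  show pol Q₁ (w i) (disp a (w j)) + pol Q₂ 0 0 = _
  rw [pzero_left hQ₂, add_zero]

theorem spn_block_right [Fintype F] {b : GL β F} (hb : b ∈ Cfsg.isometryGroup F Q₂) :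
    wrk (blockGL ((1 : GL α F), b)) = wrk b ∧
      spn (sumForm Q₁ Q₂) (blockGL ((1 : GL α F), b)) = spn Q₂ b := by
  obtain ⟨w, hli, hsp⟩ := exists_frame b
  obtain ⟨-, hs⟩ := spn_eq_det hQ₂ hb hli hsp
  let L : (β → F) →ₗ[F] (α ⊕ β → F) :=
    { toFun := fun x => Sum.elim 0 x
      map_add' := fun x y => by funext i; rcases i with i | i <;> simp
      map_smul' := fun c x => by funext i; rcases i with i | i <;> simp }
  have hd : ∀ x : α ⊕ β → F, disp (blockGL ((1 : GL α F), b)) x = L (disp b (x ∘ Sum.inr)) := fun x => by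
    rw [disp_apply, blockGL_mulVec, Units.val_one, one_mulVec]
    funext i
    rcases i with i | i <;> simp [L, disp_apply]
  have hdw : ∀ i, disp (blockGL ((1 : GL α F), b)) (L (w i)) = L (disp b (w i)) := fun i => by rw [hd]; rfl
  have hinj : LinearMap.ker L = ⊥ := LinearMap.ker_eq_bot.2 fun x y e => by
    have := congrArg (fun f => f ∘ Sum.inr) e
    exact this
  obtain ⟨h1, h2⟩ := spn_eq_det (sumForm_nd hQ₁ hQ₂) (blockGL_mem (one_mem _) hb) (w := fun i => L (w i))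
    (by simp only [hdw]; exact hli.map' L hinj) (by
      rintro _ ⟨x, rfl⟩
      obtain ⟨c, hc⟩ := (Submodule.mem_span_range_iff_exists_fun F).1 (hsp ⟨x ∘ Sum.inr, rfl⟩)
      refine (Submodule.mem_span_range_iff_exists_fun F).2 ⟨c, ?_⟩
      rw [hd, ← hc, map_sum]
      simp only [hdw, map_smul])
  refine ⟨h1, ?_⟩
  rw [h2, hs]
  congr 2
  ext i j
  simp only [wallMat, Matrix.of_apply, hdw]
  rw [sumForm_polar hQ₁ hQ₂]
  show pol Q₁ 0 0 + pol Q₂ (w i) (disp b (w j)) = _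
  rw [pzero_left hQ₁, zero_add]

end CfsgLib.Orth
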