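import Cfsg.Agent.Lib.Orth.MaxSing
import Cfsg.Agent.Lib.Perm.Trans.QuadStd
import Cfsg.Agent.Lib.Orth.HypInvol

/-!
# The standard maximal totally singular subspaces
-/

set_option autoImplicit false
set_option linter.all false

namespace CfsgLib.Orth

open scoped Matrix
open Matrix Cfsg.Geo CfsgLib.Perm.Asch CfsgLib.Perm.Trans CfsgLib.Perm.Trans.Quad

variable {F : Type*} [Field F] {m : ℕ}

theorem std_singular (m : ℕ) :
    Module.finrank F ↥(LinearMap.ker (LinearMap.funLeft F F (Sum.inr : Fin m → Fin m ⊕ Fin m))) = m ∧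
    ∀ x ∈ LinearMap.ker (LinearMap.funLeft F F (Sum.inr : Fin m → Fin m ⊕ Fin m)), Cfsg.quadFormPlus m F x = 0 := by
  constructor
  · have h1 := LinearMap.finrank_range_add_finrank_ker (LinearMap.funLeft F F (Sum.inr : Fin m → Fin m ⊕ Fin m))
    rw [LinearMap.range_eq_top.2 (LinearMap.funLeft_surjective_of_injective _ _ _ Sum.inr_injective), finrank_top,
      Module.finrank_fintype_fun_eq_card, Module.finrank_fintype_fun_eq_card, Fintype.card_sum, Fintype.card_fin] at h1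
    omega
  · intro x hx
    exact Finset.sum_eq_zero fun i _ => by rw [show x (Sum.inr i) = 0 from congrFun hx i, mul_zero]

theorem std_disjoint (g : GL (Fin m ⊕ Fin m) F)
    (h : ∀ v : Fin m ⊕ Fin m → F, (∀ i, v (Sum.inr i) = 0) → ∀ i, ((g : Matrix (Fin m ⊕ Fin m) (Fin m ⊕ Fin m) F) *ᵥ v) (Sum.inl i) = 0) :
    LinearMap.ker (LinearMap.funLeft F F (Sum.inr : Fin m → Fin m ⊕ Fin m)) ⊓
      (LinearMap.ker (LinearMap.funLeft F F (Sum.inr : Fin m → Fin m ⊕ Fin m))).map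
        (Matrix.mulVecLin (g : Matrix (Fin m ⊕ Fin m) (Fin m ⊕ Fin m) F)) = ⊥ := by
  rw [Submodule.eq_bot_iff]
  rintro x ⟨hx1, v, hv, rfl⟩
  funext i
  rcases i with i | i
  · exact h v (fun j => congrFun hv j) i
  · exact congrFun hx1 i

theorem swapMat_mulVec (v : Fin m ⊕ Fin m → F) :
    (Matrix.fromBlocks (0 : Matrix (Fin m) (Fin m) F) (1 : Matrix (Fin m) (Fin m) F) (1 : Matrix (Fin m) (Fin m) F) 0) *ᵥ v =
      Sum.elim (v ∘ Sum.inr) (v ∘ Sum.inl) := by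
  rw [Matrix.fromBlocks_mulVec]; simp

theorem exists_swap [Fintype F] (hm : 1 ≤ m) (hex : Fintype.card F ≠ 2 ∨ Fintype.card (Fin m ⊕ Fin m) ≠ 4) (he : Even m) :
    ∃ g : ↥(Cfsg.isometryGroup F (Cfsg.quadFormPlus m F)), g ∈ Cfsg.Omega F (Cfsg.quadFormPlus m F) ∧
      (∀ v : Fin m ⊕ Fin m → F, (∀ i, v (Sum.inr i) = 0) → ∀ i,
        (((g : GL (Fin m ⊕ Fin m) F) : Matrix (Fin m ⊕ Fin m) (Fin m ⊕ Fin m) F) *ᵥ v) (Sum.inl i) = 0) ∧
      (∀ v : Fin m ⊕ Fin m → F, (∀ i, v (Sum.inl i) = 0) → ∀ i,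
        (((g : GL (Fin m ⊕ Fin m) F) : Matrix (Fin m ⊕ Fin m) (Fin m ⊕ Fin m) F) *ᵥ v) (Sum.inr i) = 0) := by
  have hQ : IsNondegenerateQuadraticForm (Cfsg.quadFormPlus m F) := quadFormPlus_nd
  obtain ⟨J, hJ⟩ : ∃ J : GL (Fin m ⊕ Fin m) F, (J : Matrix (Fin m ⊕ Fin m) (Fin m ⊕ Fin m) F) =
      Matrix.fromBlocks (0 : Matrix (Fin m) (Fin m) F) 1 1 0 := by
    have h : Matrix.fromBlocks (0 : Matrix (Fin m) (Fin m) F) (1 : Matrix (Fin m) (Fin m) F) (1 : Matrix (Fin m) (Fin m) F) 0 *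
        Matrix.fromBlocks 0 1 1 0 = 1 := by simp [Matrix.fromBlocks_multiply]
    exact ⟨⟨_, _, h, h⟩, rfl⟩
  have hJi : J ∈ Cfsg.isometryGroup F (Cfsg.quadFormPlus m F) := mem_iso.2 fun x => by
    rw [hJ, swapMat_mulVec]
    exact Finset.sum_congr rfl fun i _ => mul_comm _ _
  obtain ⟨hd, hs⟩ := std_singular m (F := F)
  have hJ1 : ∀ v : Fin m ⊕ Fin m → F, (∀ i, v (Sum.inr i) = 0) → ∀ i,
      ((J : Matrix (Fin m ⊕ Fin m) (Fin m ⊕ Fin m) F) *ᵥ v) (Sum.inl i) = 0 := fun v hv i => by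
    rw [hJ, swapMat_mulVec]; exact hv i
  have hJe : Even (wrk J) := by
    rw [← even_wrk_iff hQ hex (by simp) hd hs hJi, std_disjoint J hJ1, finrank_bot, Nat.sub_zero]
    exact he
  obtain ⟨e, hedef⟩ : ∃ e : Fin m ⊕ Fin m → F, e = Pi.single (Sum.inl ⟨0, hm⟩) 1 := ⟨_, rfl⟩
  obtain ⟨f, hfdef⟩ : ∃ f : Fin m ⊕ Fin m → F, f = Pi.single (Sum.inr ⟨0, hm⟩) 1 := ⟨_, rfl⟩
  have hQe : Cfsg.quadFormPlus m F e = 0 := Finset.sum_eq_zero fun i _ => by simp [hedef]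
  have hQf : Cfsg.quadFormPlus m F f = 0 := Finset.sum_eq_zero fun i _ => by simp [hfdef]
  have hef : QuadraticMap.polar (Cfsg.quadFormPlus m F) e f = 1 := by
    simp [hedef, hfdef, polar_quadFormPlus, Pi.single_apply]
  obtain ⟨u, hu⟩ : ∃ u, sqMk F u = spn (Cfsg.quadFormPlus m F) J := QuotientGroup.mk'_surjective _ _
  obtain ⟨t, ht, ht1, ht2, ht3⟩ := exists_torus hQ hQe hQf hef u.ne_zero hex
  obtain ⟨p, q⟩ := spn_mul hQ (iso_le_reflGroup hQ hex hJi) ht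
  refine ⟨⟨J * t, mul_mem hJi ht⟩, (mem_omega_iff hQ (by simp; omega) hex _).2 ⟨?_, q.2 (iff_of_true hJe ht1)⟩, ?_, ?_⟩
  · show spn _ (J * t) = 1
    rw [p, ht2, show sqc (u : F) = sqMk F u by
      unfold sqc; rw [dif_neg u.ne_zero]; exact congrArg _ (Units.ext rfl), hu]
    obtain ⟨w, hw⟩ : ∃ w, sqMk F w = spn (Cfsg.quadFormPlus m F) J := ⟨u, hu⟩
    rw [← hw, ← map_mul, sqMk_eq_one_iff]
    exact ⟨w, by simp [sq]⟩
  · intro v hv i
    show (((J * t : GL (Fin m ⊕ Fin m) F) : Matrix (Fin m ⊕ Fin m) (Fin m ⊕ Fin m) F) *ᵥ v) (Sum.inl i) = 0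
    rw [gl_mul_mulVec]
    refine hJ1 _ (fun j => ?_) i
    rw [ht3]
    simp [hv j, hedef, hfdef, polar_quadFormPlus, Pi.single_apply, hv]
  · intro v hv i
    show (((J * t : GL (Fin m ⊕ Fin m) F) : Matrix (Fin m ⊕ Fin m) (Fin m ⊕ Fin m) F) *ᵥ v) (Sum.inr i) = 0
    rw [gl_mul_mulVec, hJ, swapMat_mulVec, ht3]
    simp [hv i, hedef, hfdef, polar_quadFormPlus, Pi.single_apply, hv]

end CfsgLib.Orth
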