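import Cfsg.Agent.Lib.Orth.Ind

/-!
# Members of the image of the semisimilarity group
-/

set_option autoImplicit false
set_option linter.all false

namespace CfsgLib.Orth

open Matrix

variable {ι : Type} [Fintype ι] [DecidableEq ι] {F : Type*} [Field F] {Q : (ι → F) → F}

/-- the semisimilarity-induced automorphisms form a group -/
def gammaSub (Q : (ι → F) → F) : Subgroup (MulAut (Cfsg.POmega F Q)) where
  carrier := {β | ∃ (g : GL ι F) (σ : F ≃+* F) (h : Cfsg.IsSemisimilarityPair Q g σ), β = ind h}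
  one_mem' := ⟨1, RingEquiv.refl F, semisim_one, ind_one.symm⟩
  mul_mem' := by
    rintro _ _ ⟨g, σ, hg, rfl⟩ ⟨k, τ, hk, rfl⟩
    exact ⟨_, _, semisim_mul hg hk, ind_mul hg hk⟩
  inv_mem' := by
    rintro _ ⟨g, σ, hg, rfl⟩
    refine ⟨_, _, semisim_inv hg, inv_eq_of_mul_eq_one_right ?_⟩
    rw [ind_mul, ind_congr _ (semisim_one (Q := Q)) (by rw [fieldGL_symm_apply, mul_inv_cancel]) (RingEquiv.symm_trans_self σ),
      ind_one]

theorem gammaPOmega_eq : Cfsg.gammaPOmega F Q = gammaSub Q := by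
  refine le_antisymm ((Subgroup.closure_le _).2 ?_) ?_
  · rintro β ⟨g, σ, hg, hi⟩
    exact ⟨g, σ, hg, (isInduced_iff hg).1 hi⟩
  · rintro _ ⟨g, σ, hg, rfl⟩
    exact Subgroup.subset_closure ⟨g, σ, hg, ind_isInduced hg⟩

theorem gammaPOmega_mem {β : MulAut (Cfsg.POmega F Q)} (h : β ∈ Cfsg.gammaPOmega F Q) :
    ∃ (g : GL ι F) (σ : F ≃+* F), Cfsg.IsSemisimilarityPair Q g σ ∧ Cfsg.IsInducedBySemilinearPOmega Q g σ β := by
  rw [gammaPOmega_eq] at h
  obtain ⟨g, σ, hg, rfl⟩ := h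
  exact ⟨g, σ, hg, ind_isInduced hg⟩

end CfsgLib.Orth
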