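import Cfsg.Agent.Lib.Orth.Ind
import Cfsg.Agent.Lib.Orth.SmallQuot

/-!
# The image of the similarity group in the automorphism group of `POmega`, even dimension, odd characteristic
-/

set_option autoImplicit false
set_option linter.all false

namespace CfsgLib.Orth

open scoped Matrix
open Matrix Cfsg.Geo CfsgLib.Perm.Asch CfsgLib.Perm.Trans CfsgLib.Perm.Trans.Quad

variable {ι : Type} [Fintype ι] [DecidableEq ι] {F : Type*} [Field F] [Fintype F]
variable {Q : (ι → F) → F}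

local notation "pol" => QuadraticMap.polar
local notation "Sim" => Cfsg.Geo.quadSimilarityGroup (F := F)

omit [Fintype F] in
/-- the inner automorphisms form a normal subgroup -/
theorem inn_normal (G : Type*) [Group G] : (Cfsg.Inn G).Normal := ⟨by
  rintro _ ⟨x, rfl⟩ β
  refine ⟨β x, MulEquiv.ext fun y => ?_⟩
  simp [MulAut.mul_apply, MulAut.conj_apply, MulAut.inv_def]⟩

variable (hQ : IsNondegenerateQuadraticForm Q)
include hQ

theorem exists_ns (hn : 1 ≤ Fintype.card ι) : ∃ v, Q v ≠ 0 := by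
  obtain ⟨e, -, he⟩ := exists_nonsingular hQ (ndOn_top hQ) (fun hbot => by
    have : Module.finrank F (ι → F) = 0 := by rw [← finrank_top F (ι → F), hbot, finrank_bot]
    rw [Module.finrank_fintype_fun_eq_card] at this
    omega)
  exact ⟨e, he⟩

theorem mult_unique (hn : 1 ≤ Fintype.card ι) {g : Matrix ι ι F} {c d : F} (hc : ∀ v, Q (g *ᵥ v) = c * Q v)
    (hd : ∀ v, Q (g *ᵥ v) = d * Q v) : c = d := by
  obtain ⟨v, hv⟩ := exists_ns hQ hn
  exact mul_right_cancel₀ hv ((hc v).symm.trans (hd v))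

/-- the multiplier of a similarity -/
noncomputable def simMult (hn : 1 ≤ Fintype.card ι) : ↥(Sim Q) →* Fˣ where
  toFun g := Classical.choose g.2
  map_one' := Units.ext (mult_unique hQ hn (Classical.choose_spec (one_mem (Sim Q))) fun v => by simp)
  map_mul' a b := Units.ext (mult_unique hQ hn (Classical.choose_spec (mul_mem a.2 b.2)) fun v => by
    rw [Units.val_mul, ← mulVec_mulVec, Classical.choose_spec a.2, Classical.choose_spec b.2, Units.val_mul,
      mul_assoc])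

theorem simMult_spec (hn : 1 ≤ Fintype.card ι) (g : ↥(Sim Q)) (v : ι → F) :
    Q ((g.1 : Matrix ι ι F) *ᵥ v) = (simMult hQ hn g : F) * Q v := Classical.choose_spec g.2 v

theorem simMult_eq (hn : 1 ≤ Fintype.card ι) {g : ↥(Sim Q)} {c : Fˣ}
    (h : ∀ v, Q ((g.1 : Matrix ι ι F) *ᵥ v) = (c : F) * Q v) : simMult hQ hn g = c :=
  Units.ext (mult_unique hQ hn (simMult_spec hQ hn g) h)

theorem simMult_eq_one_iff (hn : 1 ≤ Fintype.card ι) (g : ↥(Sim Q)) :
    simMult hQ hn g = 1 ↔ g.1 ∈ Cfsg.isometryGroup F Q := by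
  refine ⟨fun h => mem_iso.2 fun v => by rw [simMult_spec hQ hn, h, Units.val_one, one_mul], fun h => ?_⟩
  exact simMult_eq hQ hn fun v => by rw [mem_iso.1 h, Units.val_one, one_mul]

/-- `det² = c ^ n` -/
theorem det_sq_sim {g : Matrix ι ι F} {c : F} (hg : ∀ v, Q (g *ᵥ v) = c * Q v) :
    g.det * g.det = c ^ Fintype.card ι := by
  obtain ⟨M, hM⟩ : ∃ M, M = (Matrix.of fun i j => pol Q (Pi.single i 1) (Pi.single j 1) : Matrix ι ι F) := ⟨_, rfl⟩
  let B : LinearMap.BilinForm F (ι → F) := LinearMap.mk₂ F (fun x y => pol Q x y)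
    (padd_left hQ) (fun r x y => psmul_left hQ r x y) (padd_right hQ) (fun r x y => psmul_right hQ r x y)
  have hB : LinearMap.BilinForm.toMatrix' B = M := by
    ext i j
    rw [hM, LinearMap.BilinForm.toMatrix'_apply]; rfl
  have hdet : M.det ≠ 0 := by
    rw [← hB]
    refine (LinearMap.BilinForm.nondegenerate_iff_det_ne_zero (Pi.basisFun F ι)).1 ?_
    refine ⟨fun x hx => ?_, fun x hx => ?_⟩ <;> by_contra hne
    · obtain ⟨-, y, hy⟩ := hQ.nondegenerate x hne
      exact hy (hx y)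
    · obtain ⟨⟨y, hy⟩, -⟩ := hQ.nondegenerate x hne
      exact hy (hx y)
  have h1 : LinearMap.BilinForm.comp B (Matrix.toLin' g) (Matrix.toLin' g) = c • B := by
    refine LinearMap.ext₂ fun x y => ?_
    show pol Q (Matrix.toLin' g x) (Matrix.toLin' g y) = c * pol Q x y
    simp only [Matrix.toLin'_apply, QuadraticMap.polar, ← mulVec_add, hg]
    ring
  have h2 := congrArg (fun N => (LinearMap.BilinForm.toMatrix' N).det) h1
  simp only [LinearMap.BilinForm.toMatrix'_comp, map_smul, LinearMap.toMatrix'_toLin', Matrix.det_mul,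
    Matrix.det_transpose, Matrix.det_smul, hB] at h2
  exact mul_right_cancel₀ hdet (by linear_combination h2)

/-- the sign `det g / c ^ k` -/
noncomputable def simSign (hn : 1 ≤ Fintype.card ι) (k : ℕ) : ↥(Sim Q) →* Fˣ :=
  Matrix.GeneralLinearGroup.det.comp (Sim Q).subtype * ((powMonoidHom k).comp (simMult hQ hn))⁻¹

theorem simSign_eq_one_iff (hn : 1 ≤ Fintype.card ι) (k : ℕ) (g : ↥(Sim Q)) :
    simSign hQ hn k g = 1 ↔ (g.1 : Matrix ι ι F).det = (simMult hQ hn g : F) ^ k := by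
  show Matrix.GeneralLinearGroup.det g.1 * (simMult hQ hn g ^ k)⁻¹ = 1 ↔ _
  rw [mul_inv_eq_one, Units.ext_iff, Units.val_pow_eq_pow_val, Matrix.GeneralLinearGroup.val_det_apply]

theorem simSign_sq (hn : 1 ≤ Fintype.card ι) {k : ℕ} (hk : Fintype.card ι = k + k) (g : ↥(Sim Q)) :
    simSign hQ hn k g ^ 2 = 1 := by
  show (Matrix.GeneralLinearGroup.det g.1 * (simMult hQ hn g ^ k)⁻¹) ^ 2 = 1
  rw [mul_pow, inv_pow, mul_inv_eq_one, Units.ext_iff, Units.val_pow_eq_pow_val, Units.val_pow_eq_pow_val,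
    Units.val_pow_eq_pow_val, Matrix.GeneralLinearGroup.val_det_apply, sq, det_sq_sim hQ (simMult_spec hQ hn g), hk,
    sq, pow_add]

theorem simSign_iso (hn : 1 ≤ Fintype.card ι) (k : ℕ) {g : ↥(Sim Q)} (hg : g.1 ∈ Cfsg.isometryGroup F Q) :
    simSign hQ hn k g = 1 ↔ (g.1 : Matrix ι ι F).det = 1 := by
  rw [simSign_eq_one_iff, (simMult_eq_one_iff hQ hn g).2 hg, Units.val_one, one_pow]

/-- the scalar similarity -/
noncomputable def scalarSim (c : Fˣ) : ↥(Sim Q) :=
  ⟨Units.map (Matrix.scalar ι).toMonoidHom c, scalar_mem_sim hQ c⟩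

theorem scalarSim_coe (c : Fˣ) : ((scalarSim hQ c).1 : Matrix ι ι F) = (c : F) • 1 := by
  rw [Matrix.smul_one_eq_diagonal]; rfl

theorem simMult_scalar (hn : 1 ≤ Fintype.card ι) (c : Fˣ) : simMult hQ hn (scalarSim hQ c) = c * c :=
  simMult_eq hQ hn fun v => by rw [scalarSim_coe, smul_mulVec, one_mulVec, qsmul hQ, Units.val_mul, sq]

theorem simSign_scalar (hn : 1 ≤ Fintype.card ι) {k : ℕ} (hk : Fintype.card ι = k + k) (c : Fˣ) :
    simSign hQ hn k (scalarSim hQ c) = 1 := by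
  rw [simSign_eq_one_iff, simMult_scalar, scalarSim_coe, Matrix.det_smul, Matrix.det_one, mul_one, hk,
    Units.val_mul, mul_pow, pow_add]

theorem scalar_mem_simHom_ker (hn : 5 ≤ Fintype.card ι) (c : Fˣ) : simHom Q (scalarSim hQ c) = 1 :=
  (simHom_ker hQ hn _).2 ⟨c, scalarSim_coe hQ c⟩

theorem eq_scalarSim_of_ker (hn : 5 ≤ Fintype.card ι) {g : ↥(Sim Q)} (h : simHom Q g = 1) :
    ∃ c, g = scalarSim hQ c := by
  obtain ⟨c, hc⟩ := (simHom_ker hQ hn g).1 h
  have hne : Nonempty ι := Fintype.card_pos_iff.1 (by omega)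
  have hc0 : c ≠ 0 := fun e => by
    have := ((Matrix.isUnit_iff_isUnit_det _).1 g.1.isUnit).ne_zero
    rw [hc, e, zero_smul] at this
    exact this Matrix.det_zero
  exact ⟨Units.mk0 c hc0, Subtype.ext (Units.ext (hc.trans (scalarSim_coe hQ (Units.mk0 c hc0)).symm))⟩

/-- a similarity is, up to a scalar, an isometry exactly when its multiplier is a square -/
theorem mem_psoAut_iff (hn : 5 ≤ Fintype.card ι) {k : ℕ} (hk : Fintype.card ι = k + k) (g : ↥(Sim Q)) :
    simHom Q g ∈ Cfsg.psoAut F Q ↔ IsSquare (simMult hQ (by omega) g : F) ∧ simSign hQ (by omega) k g = 1 := by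
  rw [psoAut_eq]
  constructor
  · rintro ⟨u, hu, he⟩
    have hu' : (u : GL ι F) ∈ Cfsg.isometryGroup F Q ∧ ((u : GL ι F) : Matrix ι ι F).det = 1 := ⟨hu.1, congrArg Units.val (hu.2 : Matrix.GeneralLinearGroup.det (u : GL ι F) = 1)⟩
    obtain ⟨c, hc⟩ := eq_scalarSim_of_ker hQ hn (g := u⁻¹ * g) (by rw [map_mul, map_inv, he, inv_mul_cancel])
    have hg : g = u * scalarSim hQ c := by rw [← hc, mul_inv_cancel_left]
    rw [hg, map_mul, map_mul, (simMult_eq_one_iff hQ _ u).2 hu'.1, (simSign_iso hQ _ k hu'.1).2 hu'.2, simMult_scalar,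
      simSign_scalar hQ _ hk, one_mul, one_mul]
    exact ⟨⟨c, Units.val_mul c c⟩, rfl⟩
  · rintro ⟨⟨t, ht⟩, hs⟩
    have ht0 : t ≠ 0 := fun e => (simMult hQ (by omega) g).ne_zero (by rw [ht, e, mul_zero])
    obtain ⟨u, hu⟩ : ∃ u, u = g * (scalarSim hQ (Units.mk0 t ht0))⁻¹ := ⟨_, rfl⟩
    have hm : simMult hQ (by omega) u = 1 := by
      rw [hu, map_mul, map_inv, simMult_scalar, mul_inv_eq_one]
      exact Units.ext (by rw [ht, Units.val_mul, Units.val_mk0])
    have hui := (simMult_eq_one_iff hQ _ u).1 hm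
    have hsu : simSign hQ (by omega) k u = 1 := by rw [hu, map_mul, map_inv, simSign_scalar hQ _ hk, hs, mul_inv_cancel]
    refine ⟨u, ⟨hui, (Units.ext ((simSign_iso hQ _ k hui).1 hsu) : Matrix.GeneralLinearGroup.det (u : GL ι F) = 1)⟩, ?_⟩
    rw [hu, map_mul, map_inv, scalar_mem_simHom_ker hQ hn, inv_one, mul_one]

end CfsgLib.Orth
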