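import Cfsg.Agent.Lib.Orth.HypInvol
import Mathlib.LinearAlgebra.Matrix.Transvection

/-!
# The Levi subgroup of the plus type group: spinor norm is the determinant
-/

set_option autoImplicit false
set_option linter.all false

namespace CfsgLib.Orth

open scoped Matrix
open Matrix Cfsg.Geo CfsgLib.Perm.Asch CfsgLib.Perm.Trans CfsgLib.Perm.Trans.Quad

variable {F : Type*} [Field F] [Fintype F] {m : ℕ}

local notation "pol" => QuadraticMap.polar

/-- the inclusion `A ↦ diag(A, A⁻ᵀ)` -/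
def levi : GL (Fin m) F →* GL (Fin m ⊕ Fin m) F where
  toFun A := ⟨Matrix.fromBlocks (A : Matrix (Fin m) (Fin m) F) 0 0 ((A⁻¹ : GL (Fin m) F) : Matrix (Fin m) (Fin m) F)ᵀ,
    Matrix.fromBlocks ((A⁻¹ : GL (Fin m) F) : Matrix (Fin m) (Fin m) F) 0 0 (A : Matrix (Fin m) (Fin m) F)ᵀ,
    by simp [Matrix.fromBlocks_multiply, ← Matrix.transpose_mul],
    by simp [Matrix.fromBlocks_multiply, ← Matrix.transpose_mul]⟩
  map_one' := Units.ext (by simp)
  map_mul' A B := Units.ext (by simp [Matrix.fromBlocks_multiply, ← Matrix.transpose_mul])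

omit [Fintype F] in
theorem levi_coe (A : GL (Fin m) F) : (levi A : Matrix (Fin m ⊕ Fin m) (Fin m ⊕ Fin m) F) =
    Matrix.fromBlocks (A : Matrix (Fin m) (Fin m) F) 0 0 ((A⁻¹ : GL (Fin m) F) : Matrix (Fin m) (Fin m) F)ᵀ := rfl

omit [Fintype F] in
theorem levi_mem (A : GL (Fin m) F) : levi A ∈ Cfsg.isometryGroup F (Cfsg.quadFormPlus m F) := by
  refine mem_iso.2 fun x => ?_
  show ((((levi A : GL (Fin m ⊕ Fin m) F) : Matrix (Fin m ⊕ Fin m) (Fin m ⊕ Fin m) F) *ᵥ x) ∘ Sum.inl) ⬝ᵥ ((((levi A : GL (Fin m ⊕ Fin m) F) : Matrix (Fin m ⊕ Fin m) (Fin m ⊕ Fin m) F) *ᵥ x) ∘ Sum.inr) =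
    (x ∘ Sum.inl) ⬝ᵥ (x ∘ Sum.inr)
  rw [levi_coe, Matrix.fromBlocks_mulVec]
  simp only [Sum.elim_comp_inl, Sum.elim_comp_inr, Matrix.zero_mulVec, add_zero, zero_add]
  rw [Matrix.mulVec_transpose, dotProduct_comm, ← Matrix.dotProduct_mulVec, Matrix.mulVec_mulVec, ← Units.val_mul,
    inv_mul_cancel, Units.val_one, Matrix.one_mulVec, dotProduct_comm]

omit [Fintype F] in
theorem disp_levi (A : GL (Fin m) F) (x : Fin m ⊕ Fin m → F) : disp (levi A) x =
    Sum.elim ((x ∘ Sum.inl) - (A : Matrix (Fin m) (Fin m) F) *ᵥ (x ∘ Sum.inl))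
      ((x ∘ Sum.inr) - ((A⁻¹ : GL (Fin m) F) : Matrix (Fin m) (Fin m) F)ᵀ *ᵥ (x ∘ Sum.inr)) := by
  rw [disp_apply, levi_coe, Matrix.fromBlocks_mulVec]
  funext j
  rcases j with j | j <;> simp

omit [Fintype F] in
theorem gl_det_ne (A : GL (Fin m) F) : (A : Matrix (Fin m) (Fin m) F).det ≠ 0 :=
  ((Matrix.isUnit_iff_isUnit_det _).1 A.isUnit).ne_zero

/-- a pair frame -/
theorem levi_pair (A : GL (Fin m) F) (i j : Fin m) (s t : F) (hs : s ≠ 0) (ht : t ≠ 0)
    (h1 : ∀ y : Fin m → F, y - (A : Matrix (Fin m) (Fin m) F) *ᵥ y = Pi.single i (s * y j))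
    (h2 : ∀ y : Fin m → F, y - ((A⁻¹ : GL (Fin m) F) : Matrix (Fin m) (Fin m) F)ᵀ *ᵥ y = Pi.single j (t * y i)) :
    wrk (levi A) = 2 ∧ spn (Cfsg.quadFormPlus m F) (levi A) = sqc (-(s * t)) := by
  have hQ : IsNondegenerateQuadraticForm (Cfsg.quadFormPlus m F) := quadFormPlus_nd
  obtain ⟨w, hw⟩ : ∃ w : Fin 2 → Fin m ⊕ Fin m → F,
      w = ![Pi.single (Sum.inl j) 1, Pi.single (Sum.inr i) 1] := ⟨_, rfl⟩
  have hc0 : (Pi.single (Sum.inl j) (1 : F) : Fin m ⊕ Fin m → F) ∘ Sum.inl = Pi.single j 1 := by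
    funext k; simp [Pi.single_apply]
  have hc0' : (Pi.single (Sum.inl j) (1 : F) : Fin m ⊕ Fin m → F) ∘ Sum.inr = 0 := by
    funext k; simp
  have hc1 : (Pi.single (Sum.inr i) (1 : F) : Fin m ⊕ Fin m → F) ∘ Sum.inl = 0 := by
    funext k; simp
  have hc1' : (Pi.single (Sum.inr i) (1 : F) : Fin m ⊕ Fin m → F) ∘ Sum.inr = Pi.single i 1 := by
    funext k; simp [Pi.single_apply]
  have e0 : disp (levi A) (w 0) = Pi.single (Sum.inl i) s := by
    rw [hw, show (![Pi.single (Sum.inl j) 1, Pi.single (Sum.inr i) 1] : Fin 2 → Fin m ⊕ Fin m → F) 0 =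
      Pi.single (Sum.inl j) 1 from rfl, disp_levi, h1, h2, hc0, hc0']
    funext k
    rcases k with k | k <;> simp [Pi.single_apply]
  have e1 : disp (levi A) (w 1) = Pi.single (Sum.inr j) t := by
    rw [hw, show (![Pi.single (Sum.inl j) 1, Pi.single (Sum.inr i) 1] : Fin 2 → Fin m ⊕ Fin m → F) 1 =
      Pi.single (Sum.inr i) 1 from rfl, disp_levi, h1, h2, hc1, hc1']
    funext k
    rcases k with k | k <;> simp [Pi.single_apply]
  have hli : LinearIndependent F fun k => disp (levi A) (w k) := by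
    rw [Fintype.linearIndependent_iff]
    intro c hc
    rw [Fin.sum_univ_two, e0, e1] at hc
    have a0 := congrFun hc (Sum.inl i)
    have a1 := congrFun hc (Sum.inr j)
    simp [hs] at a0
    simp [ht] at a1
    intro k; fin_cases k
    · exact a0
    · exact a1
  have hsp : moved (levi A) ≤ Submodule.span F (Set.range fun k => disp (levi A) (w k)) := by
    rintro _ ⟨x, rfl⟩
    refine (Submodule.mem_span_range_iff_exists_fun F).2 ⟨![x (Sum.inl j), x (Sum.inr i)], ?_⟩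
    rw [Fin.sum_univ_two, e0, e1, disp_levi, h1, h2]
    funext k
    rcases k with k | k <;> simp [Pi.single_apply, mul_comm]
  obtain ⟨r1, r2⟩ := spn_eq_det hQ (levi_mem A) hli hsp
  refine ⟨r1, ?_⟩
  rw [r2, Matrix.det_fin_two]
  simp only [wallMat, Matrix.of_apply, e0, e1]
  rw [hw]
  congr 1
  simp [polar_quadFormPlus, Pi.single_apply, ite_mul, mul_ite, Finset.sum_ite_eq']
  ring

theorem levi_invariants (hex : Fintype.card F ≠ 2 ∨ m ≠ 2) (A : GL (Fin m) F) :
    spn (Cfsg.quadFormPlus m F) (levi A) = sqc (A : Matrix (Fin m) (Fin m) F).det ∧ Even (wrk (levi A)) := by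
  have hQ : IsNondegenerateQuadraticForm (Cfsg.quadFormPlus m F) := quadFormPlus_nd
  have hex' : Fintype.card F ≠ 2 ∨ Fintype.card (Fin m ⊕ Fin m) ≠ 4 := by
    rcases hex with h | h
    · exact Or.inl h
    · exact Or.inr (by simp; omega)
  let S : Subgroup (GL (Fin m) F) :=
    { carrier := {A | spn (Cfsg.quadFormPlus m F) (levi A) = sqc (A : Matrix (Fin m) (Fin m) F).det ∧
        Even (wrk (levi A))}
      one_mem' := by
        rw [Set.mem_setOf_eq, map_one, (spn_one hQ).1, (spn_one hQ).2, Units.val_one, Matrix.det_one, sqc_one]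
        exact ⟨rfl, ⟨0, rfl⟩⟩
      mul_mem' := by
        rintro a b ⟨a1, a2⟩ ⟨b1, b2⟩
        obtain ⟨p, r⟩ := spn_mul hQ (iso_le_reflGroup hQ hex' (levi_mem a)) (levi_mem b)
        rw [Set.mem_setOf_eq, map_mul, p, a1, b1, Units.val_mul, Matrix.det_mul,
          sqc_mul (gl_det_ne a) (gl_det_ne b)]
        exact ⟨rfl, r.2 (iff_of_true a2 b2)⟩
      inv_mem' := by
        rintro a ⟨a1, a2⟩
        obtain ⟨p, r⟩ := spn_mul hQ (iso_le_reflGroup hQ hex' (levi_mem a)) (levi_mem a⁻¹)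
        rw [← map_mul, mul_inv_cancel, map_one, (spn_one hQ).2, a1] at p
        rw [← map_mul, mul_inv_cancel, map_one, (spn_one hQ).1] at r
        refine ⟨?_, (r.1 ⟨0, rfl⟩).1 a2⟩
        have hd : sqc ((a : Matrix (Fin m) (Fin m) F).det) * sqc (((a⁻¹ : GL (Fin m) F) : Matrix (Fin m) (Fin m) F).det) = 1 := by
          rw [← sqc_mul (gl_det_ne a) (gl_det_ne a⁻¹),
            ← Matrix.det_mul, ← Units.val_mul, mul_inv_cancel, Units.val_one, Matrix.det_one, sqc_one]
        exact mul_left_cancel (p.symm.trans hd.symm) }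
  suffices h : A ∈ S from h
  -- diagonal matrices
  let dh : (Fin m → Fˣ) →* GL (Fin m) F :=
    { toFun := fun d => ⟨Matrix.diagonal fun i => (d i : F), Matrix.diagonal fun i => ((d i)⁻¹ : Fˣ),
        by simp, by simp⟩
      map_one' := Units.ext (by simp)
      map_mul' := fun a b => Units.ext (by simp [Matrix.diagonal_mul_diagonal]) }
  have hd : ∀ d, dh d ∈ S := by
    intro d
    refine (Subgroup.pi_mem_of_mulSingle_mem (H := S.comap dh) d fun i => ?_ : d ∈ S.comap dh)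
    rw [Subgroup.mem_comap]
    rcases eq_or_ne (d i) 1 with h1 | h1
    · rw [h1, Pi.mulSingle_one, map_one]; exact one_mem _
    have hv : (d i : F) ≠ 1 := fun e => h1 (Units.ext e)
    have hvi : ((d i)⁻¹ : Fˣ).val ≠ 1 := fun e => h1 (inv_eq_one.1 (Units.ext e))
    obtain ⟨r1, r2⟩ := levi_pair (dh (Pi.mulSingle i (d i))) i i (1 - (d i : F)) (1 - ((d i)⁻¹ : Fˣ).val)
      (sub_ne_zero.2 hv.symm) (sub_ne_zero.2 hvi.symm) (fun y => by
        funext k
        show y k - ((Matrix.diagonal fun l => ((Pi.mulSingle i (d i) : Fin m → Fˣ) l : F)) *ᵥ y) k = _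
        rcases eq_or_ne k i with rfl | hk
        · simp [Matrix.mulVec_diagonal, Pi.mulSingle_eq_same]; ring
        · simp [Matrix.mulVec_diagonal, Pi.mulSingle_eq_of_ne hk, hk]) (fun y => by
        funext k
        show y k - ((Matrix.diagonal fun l => (((Pi.mulSingle i (d i) : Fin m → Fˣ) l)⁻¹ : Fˣ).val)ᵀ *ᵥ y) k = _
        rw [Matrix.diagonal_transpose]
        rcases eq_or_ne k i with rfl | hk
        · simp [Matrix.mulVec_diagonal, Pi.mulSingle_eq_same]; ring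
        · simp [Matrix.mulVec_diagonal, Pi.mulSingle_eq_of_ne hk, hk])
    refine ⟨?_, r1 ▸ ⟨1, rfl⟩⟩
    rw [r2]
    have hdet : (dh (Pi.mulSingle i (d i)) : Matrix (Fin m) (Fin m) F).det = (d i : F) := by
      show (Matrix.diagonal fun l => ((Pi.mulSingle i (d i) : Fin m → Fˣ) l : F)).det = _
      rw [Matrix.det_diagonal, Finset.prod_eq_single i (fun b _ hb => by simp [Pi.mulSingle_eq_of_ne hb]) (by simp),
        Pi.mulSingle_eq_same]
    rw [hdet]
    have he : -((1 - (d i : F)) * (1 - ((d i)⁻¹ : Fˣ).val)) =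
        ((1 - (d i : F)) * (d i : F)⁻¹) * (d i : F) * ((1 - (d i : F)) * (d i : F)⁻¹) := by
      rw [Units.val_inv_eq_inv_val]
      field_simp
      ring
    rw [he, sqc_sq_mul (mul_ne_zero (sub_ne_zero.2 hv.symm) (inv_ne_zero (d i).ne_zero)) (d i).ne_zero]
  suffices h : ∀ M : Matrix (Fin m) (Fin m) F, M.det ≠ 0 → ∃ A' ∈ S, (A' : Matrix (Fin m) (Fin m) F) = M by
    obtain ⟨A', hA', e⟩ := h A (gl_det_ne A)
    rwa [show A = A' from Units.ext e.symm]
  intro M hM
  refine Matrix.diagonal_transvection_induction_of_det_ne_zero (fun M => ∃ A' ∈ S, (A' : Matrix (Fin m) (Fin m) F) = M)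
    M hM (fun D hD => ?_) (fun t => ?_) ?_
  · rw [Matrix.det_diagonal, Finset.prod_ne_zero_iff] at hD
    exact ⟨dh fun i => Units.mk0 (D i) (hD i (Finset.mem_univ _)), hd _, rfl⟩
  · obtain ⟨T, hT, hTi⟩ : ∃ T : GL (Fin m) F, (T : Matrix (Fin m) (Fin m) F) = t.toMatrix ∧
        ((T⁻¹ : GL (Fin m) F) : Matrix (Fin m) (Fin m) F) = t.inv.toMatrix :=
      ⟨⟨t.toMatrix, t.inv.toMatrix, t.mul_inv, t.inv_mul⟩, rfl, rfl⟩
    refine ⟨T, ?_, hT⟩
    rcases eq_or_ne t.c 0 with h0 | h0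
    · rw [show T = 1 from Units.ext (by rw [hT, Units.val_one, Matrix.TransvectionStruct.toMatrix, h0, Matrix.transvection_zero])]
      exact one_mem _
    obtain ⟨r1, r2⟩ := levi_pair T t.i t.j (-t.c) t.c (neg_ne_zero.2 h0) h0
      (fun y => by
        rw [hT, Matrix.TransvectionStruct.toMatrix, Matrix.transvection, Matrix.add_mulVec, Matrix.one_mulVec,
          Matrix.single_mulVec]
        funext k
        rcases eq_or_ne k t.i with rfl | hk <;> simp [*])
      (fun y => by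
        rw [hTi, Matrix.TransvectionStruct.toMatrix, Matrix.TransvectionStruct.inv, Matrix.transvection,
          Matrix.transpose_add, Matrix.transpose_one, Matrix.transpose_single, Matrix.add_mulVec, Matrix.one_mulVec,
          Matrix.single_mulVec]
        funext k
        rcases eq_or_ne k t.j with rfl | hk <;> simp [*])
    refine ⟨?_, r1 ▸ ⟨1, rfl⟩⟩
    rw [r2, hT, Matrix.TransvectionStruct.det, sqc_one, neg_mul, neg_neg, sqc_eq_one_iff (mul_ne_zero h0 h0)]
    exact ⟨t.c, rfl⟩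
  · rintro A B - - ⟨a, ha, rfl⟩ ⟨b, hb, rfl⟩
    exact ⟨a * b, mul_mem ha hb, rfl⟩

end CfsgLib.Orth
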