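import Cfsg.Agent.Lib.Orth.SimParity

/-!
# The class criterion for the standard plus and minus forms
-/

set_option autoImplicit false
set_option linter.all false

namespace CfsgLib.Orth

open scoped Matrix
open Matrix Cfsg.Geo CfsgLib.Perm.Asch CfsgLib.Perm.Trans CfsgLib.Perm.Trans.Quad

universe u

variable {F : Type u} [Field F] [Fintype F] {m : ℕ}

local notation "pol" => QuadraticMap.polar

/-- the standard similarity `diag(c, 1)` -/
theorem exists_std_sim (c : Fˣ) : ∃ s : GL (Fin m ⊕ Fin m) F,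
    (∀ v, Cfsg.quadFormPlus m F ((s : Matrix (Fin m ⊕ Fin m) (Fin m ⊕ Fin m) F) *ᵥ v) = (c : F) * Cfsg.quadFormPlus m F v) ∧
    (LinearMap.ker (LinearMap.funLeft F F (Sum.inr : Fin m → Fin m ⊕ Fin m))).map
      (Matrix.mulVecLin (s : Matrix (Fin m ⊕ Fin m) (Fin m ⊕ Fin m) F)) =
      LinearMap.ker (LinearMap.funLeft F F (Sum.inr : Fin m → Fin m ⊕ Fin m)) ∧
    (s : Matrix (Fin m ⊕ Fin m) (Fin m ⊕ Fin m) F).det = (c : F) ^ m := by
  obtain ⟨d, hd⟩ : ∃ d : Fin m ⊕ Fin m → F, d = Sum.elim (fun _ => (c : F)) (fun _ => 1) := ⟨_, rfl⟩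
  have hdet : (Matrix.diagonal d).det = (c : F) ^ m := by
    rw [Matrix.det_diagonal, hd, Fintype.prod_sum_type]; simp
  obtain ⟨s, hs⟩ : ∃ s : GL (Fin m ⊕ Fin m) F, (s : Matrix (Fin m ⊕ Fin m) (Fin m ⊕ Fin m) F) = Matrix.diagonal d :=
    ⟨Matrix.GeneralLinearGroup.mkOfDetNeZero (Matrix.diagonal d) (by rw [hdet]; exact pow_ne_zero m c.ne_zero), rfl⟩
  refine ⟨s, fun v => ?_, ?_, hs ▸ hdet⟩
  · simp only [Cfsg.quadFormPlus, hs, Matrix.mulVec_diagonal, hd, Sum.elim_inl, Sum.elim_inr, Finset.mul_sum]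
    exact Finset.sum_congr rfl fun i _ => by ring
  · refine Submodule.eq_of_le_of_finrank_eq ?_ (map_gl_finrank s _)
    rintro _ ⟨x, hx, rfl⟩
    refine funext fun i => ?_
    show ((s : Matrix (Fin m ⊕ Fin m) (Fin m ⊕ Fin m) F) *ᵥ x) (Sum.inr i) = 0
    rw [hs, Matrix.mulVec_diagonal, show x (Sum.inr i) = 0 from congrFun hx i, mul_zero]

/-- plus type: the similarities fixing both classes are those of determinant `c ^ m` -/
theorem preserves_plus_iff (h2 : (2 : F) ≠ 0) {g : GL (Fin m ⊕ Fin m) F} {c : Fˣ}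
    (hg : ∀ v, Cfsg.quadFormPlus m F ((g : Matrix (Fin m ⊕ Fin m) (Fin m ⊕ Fin m) F) *ᵥ v) = (c : F) * Cfsg.quadFormPlus m F v) :
    Cfsg.PreservesSingularClasses (Cfsg.quadFormPlus m F) (g : Matrix (Fin m ⊕ Fin m) (Fin m ⊕ Fin m) F) ↔
      (g : Matrix (Fin m ⊕ Fin m) (Fin m ⊕ Fin m) F).det = (c : F) ^ m := by
  obtain ⟨s, hs, hsU, hsd⟩ := exists_std_sim (m := m) c
  exact preserves_iff quadFormPlus_nd h2 (by simp) (std_singular m).1 (std_singular m).2 hs hsU hsd hg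

omit [Fintype F] in
/-- over any field where the binary part has non-zero discriminant the form is non-degenerate -/
theorem quadFormMinus_nd_disc {a b : F} (h : a ^ 2 - 4 * b ≠ 0) :
    IsNondegenerateQuadraticForm (Cfsg.quadFormMinus m F a b) := by
  have hp : ∀ u v : (Fin m ⊕ Fin m) ⊕ Fin 2 → F, pol (Cfsg.quadFormMinus m F a b) u v =
      (∑ i, (u (.inl (.inl i)) * v (.inl (.inr i)) + v (.inl (.inl i)) * u (.inl (.inr i)))) +
        (2 * (u (.inr 0) * v (.inr 0)) + a * (u (.inr 0) * v (.inr 1) + v (.inr 0) * u (.inr 1)) +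
          2 * b * (u (.inr 1) * v (.inr 1))) := fun u v => by
    simp only [QuadraticMap.polar, Cfsg.quadFormMinus, Pi.add_apply, add_mul, mul_add, Finset.sum_add_distrib]
    ring
  refine ⟨fun c v => ?_, ?_, fun v hv => ?_⟩
  · simp only [Cfsg.quadFormMinus, Pi.smul_apply, smul_eq_mul, mul_add, Finset.mul_sum]
    refine congrArg₂ (· + ·) (Finset.sum_congr rfl fun i _ => by ring) (by ring)
  · constructor <;> intros <;>
      simp only [hp, Pi.add_apply, Pi.smul_apply, smul_eq_mul, add_mul, mul_add, Finset.sum_add_distrib,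
        Finset.mul_sum, mul_assoc, mul_left_comm] <;>
      ring
  · have key : ∃ x, pol (Cfsg.quadFormMinus m F a b) x v ≠ 0 := by
      by_contra hcon
      push Not at hcon
      have h0 := hcon (Pi.single (Sum.inr 0) 1)
      have h1 := hcon (Pi.single (Sum.inr 1) 1)
      rw [hp] at h0 h1
      simp [Pi.single_apply] at h0 h1
      have e1 : v (.inr 1) = 0 := (mul_eq_zero.1 (show (a ^ 2 - 4 * b) * v (.inr 1) = 0 by
        linear_combination a * h0 - 2 * h1)).resolve_left h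
      have e0 : v (.inr 0) = 0 := (mul_eq_zero.1 (show (a ^ 2 - 4 * b) * v (.inr 0) = 0 by
        linear_combination a * h1 - 2 * b * h0)).resolve_left h
      refine hv (funext fun x => ?_)
      rcases x with (i | i) | i
      · have := hcon (Pi.single (Sum.inl (Sum.inr i)) 1)
        rw [hp] at this
        simpa [Pi.single_apply] using this
      · have := hcon (Pi.single (Sum.inl (Sum.inl i)) 1)
        rw [hp] at this
        simpa [Pi.single_apply] using this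
      · fin_cases i
        · exact e0
        · exact e1
    obtain ⟨x, hx⟩ := key
    exact ⟨⟨x, hx⟩, x, by rwa [QuadraticMap.polar_comm]⟩

omit [Fintype F] in
theorem disc_ne_zero (h2 : (2 : F) ≠ 0) {a b : F}
    (hab : ∀ z₁ z₂ : F, z₁ ^ 2 + a * z₁ * z₂ + b * z₂ ^ 2 = 0 → z₁ = 0 ∧ z₂ = 0) : a ^ 2 - 4 * b ≠ 0 := fun h =>
  h2 ((hab (-a) 2 (by linear_combination -h)).2)

/-- a quadratic extension in the same universe -/
theorem exists_quadratic_extension (h2 : (2 : F) ≠ 0) :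
    ∃ (K : Type u) (_ : Field K) (_ : Algebra F K), Module.finrank F K = 2 := by
  obtain ⟨δ, hδ⟩ := FiniteField.exists_nonsquare (F := F) (fun h => h2 (by
    haveI := ringChar.charP F
    haveI : CharP F 2 := CharP.congr (ringChar F) h
    exact CharTwo.two_eq_zero))
  have hirr : Irreducible (Polynomial.X ^ 2 - Polynomial.C δ : Polynomial F) :=
    X_pow_sub_C_irreducible_of_prime Nat.prime_two fun x hx => hδ ⟨x, by rw [← hx, sq]⟩
  haveI := Fact.mk hirr
  refine ⟨AdjoinRoot (Polynomial.X ^ 2 - Polynomial.C δ), inferInstance, inferInstance, ?_⟩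
  rw [(AdjoinRoot.powerBasis hirr.ne_zero).finrank, AdjoinRoot.powerBasis_dim, Polynomial.natDegree_X_pow_sub_C]

/-- every scalar of `F` is a square in a quadratic extension -/
theorem isSquare_algebraMap (h2 : (2 : F) ≠ 0) {K : Type u} [Field K] [Algebra F K] [Fintype K]
    (hK : Module.finrank F K = 2) (x : F) : IsSquare (algebraMap F K x) := by
  rcases eq_or_ne x 0 with rfl | hx
  · rw [map_zero]; exact IsSquare.zero
  have hcard : Fintype.card K = Fintype.card F ^ 2 := by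
    haveI : Module.Finite F K := Module.finite_of_finrank_pos (by omega)
    rw [Module.card_eq_pow_finrank (K := F) (V := K), hK]
  have hK2 : ringChar K ≠ 2 := fun h => h2 ((algebraMap F K).injective (by
    haveI := ringChar.charP K
    haveI : CharP K 2 := CharP.congr (ringChar K) h
    rw [map_zero, map_ofNat]; exact CharTwo.two_eq_zero))
  rw [FiniteField.isSquare_iff hK2 (by simpa using (algebraMap F K).injective.ne hx), hcard, ← map_pow]
  have hodd : Fintype.card F % 2 = 1 := FiniteField.odd_card_of_char_ne_two fun h => h2 (by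
    haveI := ringChar.charP F
    haveI : CharP F 2 := CharP.congr (ringChar F) h
    exact CharTwo.two_eq_zero)
  obtain ⟨k, hk⟩ := Nat.odd_iff.2 hodd
  rw [show Fintype.card F ^ 2 / 2 = (Fintype.card F - 1) * (k + 1) by
    rw [hk, Nat.add_sub_cancel, show (2 * k + 1) ^ 2 = 1 + 2 * (2 * k * (k + 1)) by ring,
      Nat.add_mul_div_left _ _ two_pos]; ring, pow_mul, FiniteField.pow_card_sub_one_eq_one x hx, one_pow, map_one]

/-- minus type: read over a quadratic extension, the criterion is again the determinant -/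
theorem preserves_minus_ext (h2 : (2 : F) ≠ 0) {a b : F}
    (hab : ∀ z₁ z₂ : F, z₁ ^ 2 + a * z₁ * z₂ + b * z₂ ^ 2 = 0 → z₁ = 0 ∧ z₂ = 0)
    {K : Type u} [Field K] [Algebra F K] (hK : Module.finrank F K = 2)
    {g : GL ((Fin m ⊕ Fin m) ⊕ Fin 2) F} {c : Fˣ}
    (hg : ∀ v, Cfsg.quadFormMinus m F a b ((g : Matrix ((Fin m ⊕ Fin m) ⊕ Fin 2) ((Fin m ⊕ Fin m) ⊕ Fin 2) F) *ᵥ v) =
      (c : F) * Cfsg.quadFormMinus m F a b v) :
    Cfsg.PreservesSingularClasses (Cfsg.quadFormMinus m K (algebraMap F K a) (algebraMap F K b))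
        ((g : Matrix ((Fin m ⊕ Fin m) ⊕ Fin 2) ((Fin m ⊕ Fin m) ⊕ Fin 2) F).map (algebraMap F K)) ↔
      (g : Matrix ((Fin m ⊕ Fin m) ⊕ Fin 2) ((Fin m ⊕ Fin m) ⊕ Fin 2) F).det = (c : F) ^ (m + 1) := by
  haveI : Module.Finite F K := Module.finite_of_finrank_pos (by omega)
  haveI : Finite K := Module.finite_of_finite F
  haveI : Fintype K := Fintype.ofFinite K
  obtain ⟨f, hf⟩ : ∃ f : F →+* K, f = algebraMap F K := ⟨_, rfl⟩
  rw [← hf]
  have hK2 : (2 : K) ≠ 0 := fun h => h2 (f.injective (by rw [map_ofNat, map_zero, h]))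
  have hd := disc_ne_zero h2 hab
  obtain ⟨QK, hQK⟩ : ∃ QK, QK = Cfsg.quadFormMinus m K (f a) (f b) := ⟨_, rfl⟩
  rw [← hQK]
  have hn : IsNondegenerateQuadraticForm QK := hQK ▸ quadFormMinus_nd_disc (fun h => hd (f.injective (by
    rw [map_sub, map_pow, map_mul, map_ofNat, map_zero, h])))
  have hbase : ∀ x : (Fin m ⊕ Fin m) ⊕ Fin 2 → F, QK (fun i => f (x i)) = f (Cfsg.quadFormMinus m F a b x) := fun x => by
    simp [hQK, Cfsg.quadFormMinus]
  obtain ⟨gK, hgK⟩ : ∃ gK : GL ((Fin m ⊕ Fin m) ⊕ Fin 2) K, gK = Matrix.GeneralLinearGroup.map f g := ⟨_, rfl⟩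
  have hgKc : (gK : Matrix ((Fin m ⊕ Fin m) ⊕ Fin 2) ((Fin m ⊕ Fin m) ⊕ Fin 2) K) =
      (g : Matrix ((Fin m ⊕ Fin m) ⊕ Fin 2) ((Fin m ⊕ Fin m) ⊕ Fin 2) F).map f := by rw [hgK]; rfl
  have hmv : ∀ x : (Fin m ⊕ Fin m) ⊕ Fin 2 → F,
      (gK : Matrix ((Fin m ⊕ Fin m) ⊕ Fin 2) ((Fin m ⊕ Fin m) ⊕ Fin 2) K) *ᵥ (fun i => f (x i)) =
      fun i => f (((g : Matrix ((Fin m ⊕ Fin m) ⊕ Fin 2) ((Fin m ⊕ Fin m) ⊕ Fin 2) F) *ᵥ x) i) := fun x => by
    funext i
    rw [hgKc]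
    simp [Matrix.mulVec, dotProduct]
  obtain ⟨cK, hcK⟩ : ∃ cK : Kˣ, (cK : K) = f c := ⟨Units.map f.toMonoidHom c, rfl⟩
  have hgs : ∀ v, QK ((gK : Matrix ((Fin m ⊕ Fin m) ⊕ Fin 2) ((Fin m ⊕ Fin m) ⊕ Fin 2) K) *ᵥ v) = (cK : K) * QK v := by
    let B : LinearMap.BilinForm K ((Fin m ⊕ Fin m) ⊕ Fin 2 → K) := LinearMap.mk₂ K (fun x y => pol QK x y)
      (padd_left hn) (fun r x y => psmul_left hn r x y) (padd_right hn) (fun r x y => psmul_right hn r x y)
    have hB : B.compl₁₂ (Matrix.mulVecLin (gK : Matrix ((Fin m ⊕ Fin m) ⊕ Fin 2) ((Fin m ⊕ Fin m) ⊕ Fin 2) K))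
        (Matrix.mulVecLin (gK : Matrix ((Fin m ⊕ Fin m) ⊕ Fin 2) ((Fin m ⊕ Fin m) ⊕ Fin 2) K)) = (cK : K) • B := by
      refine LinearMap.ext_basis (Pi.basisFun K _) (Pi.basisFun K _) fun i j => ?_
      have hs : ∀ i : (Fin m ⊕ Fin m) ⊕ Fin 2, (Pi.basisFun K ((Fin m ⊕ Fin m) ⊕ Fin 2)) i =
          fun k => f ((Pi.single i 1 : (Fin m ⊕ Fin m) ⊕ Fin 2 → F) k) := fun i => by
        funext k
        rw [Pi.basisFun_apply, Pi.single_apply, Pi.single_apply]
        split <;> simp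
      have hpol : ∀ x y : (Fin m ⊕ Fin m) ⊕ Fin 2 → F, pol QK (fun k => f (x k)) (fun k => f (y k)) =
          f (pol (Cfsg.quadFormMinus m F a b) x y) := fun x y => by
        rw [QuadraticMap.polar, QuadraticMap.polar, map_sub, map_sub, ← hbase, ← hbase, ← hbase]
        simp only [Pi.add_apply, map_add]
        rfl
      show pol QK ((gK : Matrix ((Fin m ⊕ Fin m) ⊕ Fin 2) ((Fin m ⊕ Fin m) ⊕ Fin 2) K) *ᵥ _)
        ((gK : Matrix ((Fin m ⊕ Fin m) ⊕ Fin 2) ((Fin m ⊕ Fin m) ⊕ Fin 2) K) *ᵥ _) = (cK : K) * pol QK _ _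
      rw [hs, hs, hmv, hmv, hpol, hpol, sim_polar hg, map_mul, hcK]
    intro v
    have e : pol QK ((gK : Matrix ((Fin m ⊕ Fin m) ⊕ Fin 2) ((Fin m ⊕ Fin m) ⊕ Fin 2) K) *ᵥ v)
        ((gK : Matrix ((Fin m ⊕ Fin m) ⊕ Fin 2) ((Fin m ⊕ Fin m) ⊕ Fin 2) K) *ᵥ v) = (cK : K) * pol QK v v :=
      LinearMap.congr_fun (LinearMap.congr_fun hB v) v
    rw [pself hn, pself hn] at e
    exact mul_left_cancel₀ hK2 (by linear_combination e)
  obtain ⟨t, ht⟩ := isSquare_algebraMap h2 hK (c : F)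
  rw [← hf] at ht
  obtain ⟨r0, hr0⟩ := isSquare_algebraMap h2 hK (a ^ 2 - 4 * b)
  rw [← hf, map_sub, map_pow, map_mul, map_ofNat] at hr0
  obtain ⟨r, hr⟩ : ∃ r : K, r ^ 2 + f a * r + f b = 0 := ⟨(r0 - f a) / 2, by field_simp; linear_combination -hr0⟩
  let e : (Fin m → K) × K →ₗ[K] ((Fin m ⊕ Fin m) ⊕ Fin 2 → K) :=
    { toFun := fun p => Sum.elim (Sum.elim p.1 0) ![r * p.2, p.2]
      map_add' := fun p q => by funext i; rcases i with (i | i) | i <;> [simp; simp; fin_cases i] <;> simp [mul_add]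
      map_smul' := fun k p => by
        funext i; rcases i with (i | i) | i <;> [simp; simp; fin_cases i] <;> simp [mul_left_comm] }
  have hei : Function.Injective e := fun p q h => Prod.ext (funext fun i => by
    simpa [e] using congrFun h (Sum.inl (Sum.inl i))) (by simpa [e] using congrFun h (Sum.inr 1))
  have hUd : Module.finrank K (LinearMap.range e) = m + 1 := by
    rw [LinearMap.finrank_range_of_inj hei, Module.finrank_prod, Module.finrank_fintype_fun_eq_card, Fintype.card_fin,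
      Module.finrank_self]
  have hUs : ∀ x ∈ LinearMap.range e, QK x = 0 := by
    rintro _ ⟨p, rfl⟩
    simp [e, hQK, Cfsg.quadFormMinus]
    linear_combination p.2 ^ 2 * hr
  have ht0 : t ≠ 0 := fun h => c.ne_zero (f.injective (by rw [ht, h, zero_mul, map_zero]))
  obtain ⟨s, hs⟩ : ∃ s : GL ((Fin m ⊕ Fin m) ⊕ Fin 2) K, ∀ v,
      (s : Matrix ((Fin m ⊕ Fin m) ⊕ Fin 2) ((Fin m ⊕ Fin m) ⊕ Fin 2) K) *ᵥ v = t • v :=
    ⟨Units.map (Matrix.scalar ((Fin m ⊕ Fin m) ⊕ Fin 2)).toMonoidHom (Units.mk0 t ht0), fun v => by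
      show Matrix.scalar _ t *ᵥ v = t • v
      funext i
      rw [Matrix.scalar_apply, Matrix.mulVec_diagonal]; rfl⟩
  have hsd : (s : Matrix ((Fin m ⊕ Fin m) ⊕ Fin 2) ((Fin m ⊕ Fin m) ⊕ Fin 2) K).det = (cK : K) ^ (m + 1) := by
    rw [show (s : Matrix ((Fin m ⊕ Fin m) ⊕ Fin 2) ((Fin m ⊕ Fin m) ⊕ Fin 2) K) = t • 1 from
      Matrix.ext_iff_mulVec.2 fun v => by rw [hs, smul_mulVec, one_mulVec], Matrix.det_smul, Matrix.det_one, mul_one,
      hcK, ht, ← sq, ← pow_mul]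
    congr 1
    simp only [Fintype.card_sum, Fintype.card_fin]; ring
  have hsU : (LinearMap.range e).map (Matrix.mulVecLin (s : Matrix ((Fin m ⊕ Fin m) ⊕ Fin 2) ((Fin m ⊕ Fin m) ⊕ Fin 2) K)) =
      LinearMap.range e := by
    refine Submodule.eq_of_le_of_finrank_eq ?_ (map_gl_finrank s _)
    rintro _ ⟨x, hx, rfl⟩
    rw [Matrix.mulVecLin_apply, hs]
    exact Submodule.smul_mem _ _ hx
  have hss : ∀ v, QK ((s : Matrix ((Fin m ⊕ Fin m) ⊕ Fin 2) ((Fin m ⊕ Fin m) ⊕ Fin 2) K) *ᵥ v) = (cK : K) * QK v :=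
    fun v => by rw [hs, qsmul hn, hcK, ht, sq]
  rw [← hgKc, preserves_iff hn hK2 (by simp only [Fintype.card_sum, Fintype.card_fin]; ring) hUd hUs hss hsU hsd hgs,
    hgKc, ← RingHom.mapMatrix_apply, ← RingHom.map_det, hcK, ← map_pow]
  exact ⟨fun h => f.injective h, fun h => by rw [h]⟩

/-- minus type: the similarities fixing both classes are those of determinant `c ^ (m + 1)` -/
theorem preserves_minus_iff (h2 : (2 : F) ≠ 0) {a b : F}
    (hab : ∀ z₁ z₂ : F, z₁ ^ 2 + a * z₁ * z₂ + b * z₂ ^ 2 = 0 → z₁ = 0 ∧ z₂ = 0)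
    {g : GL ((Fin m ⊕ Fin m) ⊕ Fin 2) F} {c : Fˣ}
    (hg : ∀ v, Cfsg.quadFormMinus m F a b ((g : Matrix ((Fin m ⊕ Fin m) ⊕ Fin 2) ((Fin m ⊕ Fin m) ⊕ Fin 2) F) *ᵥ v) =
      (c : F) * Cfsg.quadFormMinus m F a b v) :
    Cfsg.PreservesSingularClassesMinus m a b (g : Matrix ((Fin m ⊕ Fin m) ⊕ Fin 2) ((Fin m ⊕ Fin m) ⊕ Fin 2) F) ↔
      (g : Matrix ((Fin m ⊕ Fin m) ⊕ Fin 2) ((Fin m ⊕ Fin m) ⊕ Fin 2) F).det = (c : F) ^ (m + 1) := by
  constructor
  · rintro ⟨K, iK, iA, hK, h⟩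
    exact (preserves_minus_ext h2 hab hK hg).1 h
  · intro h
    obtain ⟨K, iK, iA, hK⟩ := exists_quadratic_extension h2
    exact ⟨K, iK, iA, hK, (preserves_minus_ext h2 hab hK hg).2 h⟩

end CfsgLib.Orth
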