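import Cfsg.Agent.Lib.Orth.PGOStruct
import Cfsg.Agent.Lib.Orth.SimClass
import Cfsg.Agent.Lib.Orth.Levi
import Cfsg.Agent.Lib.Orth.Sum
import Cfsg.Agent.S0790
import Cfsg.Agent.S0791

/-!
# The standard plus and minus forms: similarities of every multiplier and the square of one of them
-/

set_option autoImplicit false
set_option linter.all false

namespace CfsgLib.Orth

open scoped Matrix
open Matrix Cfsg.Geo CfsgLib.Perm.Asch CfsgLib.Perm.Trans CfsgLib.Perm.Trans.Quad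

universe u

variable {F : Type u} [Field F] [Fintype F] {m : ℕ}

local notation "pol" => QuadraticMap.polar
local notation "Sim" => Cfsg.Geo.quadSimilarityGroup (F := F)

theorem spn_eq_one_iff_exists {ι : Type} [Fintype ι] [DecidableEq ι] {Q : (ι → F) → F}
    (hQ : IsNondegenerateQuadraticForm Q) (hn : 5 ≤ Fintype.card ι) (h2 : (2 : F) ≠ 0) {k : ℕ}
    (hk : Fintype.card ι = k + k) :
    spn Q (-1 : GL ι F) = 1 ↔ ∃ g : ↥(Cfsg.isometryGroup F Q), g ∈ Cfsg.Omega F Q ∧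
      ((g : GL ι F) : Matrix ι ι F) = -1 := by
  constructor
  · intro h
    exact ⟨⟨-1, neg_one_iso hQ⟩, (mem_omega_det hQ hn h2 (neg_one_iso hQ)).2 ⟨h, det_neg_one hQ hk⟩,
      by rw [Units.val_neg, Units.val_one]⟩
  · rintro ⟨g, hg, he⟩
    have hg' : g.1 = -1 := Units.ext (by rw [he, Units.val_neg, Units.val_one])
    have := ((mem_omega_det hQ hn h2 g.2).1 hg).1
    rwa [hg'] at this

theorem plus_card : Fintype.card (Fin m ⊕ Fin m) = m + m := by simp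

theorem minus_card : Fintype.card ((Fin m ⊕ Fin m) ⊕ Fin 2) = (m + 1) + (m + 1) := by simp; omega

theorem spn_neg_one_plus (h2 : Odd (Fintype.card F)) (hm : 3 ≤ m) :
    spn (Cfsg.quadFormPlus m F) (-1 : GL (Fin m ⊕ Fin m) F) = 1 ↔ ¬ (Odd m ∧ Fintype.card F % 4 = 3) := by
  rw [spn_eq_one_iff_exists quadFormPlus_nd (by simp; omega) (two_ne_zero_of_odd h2) (k := m) (by simp),
    Cfsg.Agent.S0790.result (F := F) rfl h2 m (by omega)]
  have h4 : Fintype.card F % 4 = 1 ∨ Fintype.card F % 4 = 3 := by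
    have := Nat.odd_iff.1 h2; omega
  rcases h4 with h | h <;> rw [Nat.pow_mod, h]
  · simp
  · rcases Nat.even_or_odd m with ⟨j, rfl⟩ | ⟨j, rfl⟩
    · rw [← two_mul, pow_mul]; norm_num [Nat.pow_mod]
    · rw [pow_succ, pow_mul]; norm_num [Nat.pow_mod, Nat.mul_mod]

theorem spn_neg_one_minus (h2 : Odd (Fintype.card F)) (hm : 2 ≤ m) {a b : F}
    (hab : ∀ z₁ z₂ : F, z₁ ^ 2 + a * z₁ * z₂ + b * z₂ ^ 2 = 0 → z₁ = 0 ∧ z₂ = 0) :
    spn (Cfsg.quadFormMinus m F a b) (-1 : GL ((Fin m ⊕ Fin m) ⊕ Fin 2) F) = 1 ↔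
      Even m ∧ Fintype.card F % 4 = 3 := by
  rw [spn_eq_one_iff_exists (quadFormMinus_nd a b hab) (by simp; omega) (two_ne_zero_of_odd h2) (k := m + 1) minus_card,
    show (∃ g : ↥(Cfsg.isometryGroup F (Cfsg.quadFormMinus m F a b)), g ∈ Cfsg.Omega F (Cfsg.quadFormMinus m F a b) ∧
        ((g : GL ((Fin m ⊕ Fin m) ⊕ Fin 2) F) : Matrix ((Fin m ⊕ Fin m) ⊕ Fin 2) ((Fin m ⊕ Fin m) ⊕ Fin 2) F) = -1) ↔
      Fintype.card F ^ (m + 1) % 4 = 3 from Cfsg.Agent.S0791.result (F := F) rfl h2 (m + 1) (by omega) a b hab]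
  have h4 : Fintype.card F % 4 = 1 ∨ Fintype.card F % 4 = 3 := by
    have := Nat.odd_iff.1 h2; omega
  rcases h4 with h | h <;> rw [Nat.pow_mod, h]
  · simp
  · rcases Nat.even_or_odd m with ⟨j, rfl⟩ | ⟨j, rfl⟩
    · rw [pow_succ, ← two_mul, pow_mul]; norm_num [Nat.pow_mod, Nat.mul_mod]
    · rw [show 2 * j + 1 + 1 = 2 * (j + 1) by ring, pow_mul]; norm_num [Nat.pow_mod]

/-- plus type: a similarity of multiplier `c` and its square -/
theorem exists_sim_plus (hm : 3 ≤ m) (c : Fˣ) (h2 : (2 : F) ≠ 0) :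
    ∃ (g : ↥(Sim (Cfsg.quadFormPlus m F))) (h : GL (Fin m ⊕ Fin m) F)
      (hh : h ∈ Cfsg.isometryGroup F (Cfsg.quadFormPlus m F)),
      simMult (quadFormPlus_nd) (by simp; omega) g = c ∧ simSign (quadFormPlus_nd) (by simp; omega) m g = 1 ∧
      (h : Matrix (Fin m ⊕ Fin m) (Fin m ⊕ Fin m) F).det = 1 ∧ spn (Cfsg.quadFormPlus m F) h = sqc ((c : F) ^ m) ∧
      g * g = scalarSim (quadFormPlus_nd) c * ⟨h, iso_sim hh⟩ := by
  obtain ⟨d, hd⟩ : ∃ d : Fin m ⊕ Fin m → F, d = Sum.elim (fun _ => (c : F)) (fun _ => 1) := ⟨_, rfl⟩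
  have hdet : (Matrix.diagonal d).det = (c : F) ^ m := by
    rw [Matrix.det_diagonal, hd, Fintype.prod_sum_type]; simp
  obtain ⟨s, hs⟩ : ∃ s : GL (Fin m ⊕ Fin m) F, (s : Matrix (Fin m ⊕ Fin m) (Fin m ⊕ Fin m) F) = Matrix.diagonal d :=
    ⟨Matrix.GeneralLinearGroup.mkOfDetNeZero (Matrix.diagonal d) (by rw [hdet]; exact pow_ne_zero m c.ne_zero), rfl⟩
  have hsv : ∀ v, Cfsg.quadFormPlus m F ((s : Matrix (Fin m ⊕ Fin m) (Fin m ⊕ Fin m) F) *ᵥ v) =
      (c : F) * Cfsg.quadFormPlus m F v := fun v => by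
    simp only [Cfsg.quadFormPlus, hs, Matrix.mulVec_diagonal, hd, Sum.elim_inl, Sum.elim_inr, Finset.mul_sum]
    exact Finset.sum_congr rfl fun i _ => by ring
  obtain ⟨A, hA⟩ : ∃ A : GL (Fin m) F, A = Units.map (Matrix.scalar (Fin m)).toMonoidHom c := ⟨_, rfl⟩
  obtain ⟨l1, l2⟩ := levi_invariants (F := F) (m := m) (Or.inr (by omega)) A
  have hAc : (A : Matrix (Fin m) (Fin m) F) = Matrix.diagonal fun _ => (c : F) := by rw [hA]; rfl
  have hAi : ((A⁻¹ : GL (Fin m) F) : Matrix (Fin m) (Fin m) F) = Matrix.diagonal fun _ => ((c⁻¹ : Fˣ) : F) := by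
    rw [hA, ← map_inv]; rfl
  refine ⟨⟨s, c, hsv⟩, levi A, levi_mem A, simMult_eq _ _ hsv, ?_, ?_, ?_, ?_⟩
  · rw [simSign_eq_one_iff, simMult_eq (g := ⟨s, c, hsv⟩) _ _ hsv]
    show (s : Matrix (Fin m ⊕ Fin m) (Fin m ⊕ Fin m) F).det = _
    rw [hs, hdet]
  · exact (det_eq_one_iff quadFormPlus_nd h2 (levi_mem A)).2 l2
  · rw [l1, hAc, Matrix.det_diagonal, Finset.prod_const, Finset.card_univ, Fintype.card_fin]
  · refine Subtype.ext (Units.ext ?_)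
    show (s : Matrix (Fin m ⊕ Fin m) (Fin m ⊕ Fin m) F) * (s : Matrix (Fin m ⊕ Fin m) (Fin m ⊕ Fin m) F) =
      (((scalarSim (quadFormPlus_nd (F := F) (m := m)) c).1 : GL (Fin m ⊕ Fin m) F) : Matrix (Fin m ⊕ Fin m) (Fin m ⊕ Fin m) F) * ((levi A : GL (Fin m ⊕ Fin m) F) : Matrix (Fin m ⊕ Fin m) (Fin m ⊕ Fin m) F)
    rw [hs, scalarSim_coe, smul_mul_assoc, one_mul, levi_coe, hAc, hAi, Matrix.diagonal_transpose,
      Matrix.fromBlocks_diagonal, Matrix.diagonal_mul_diagonal, ← Matrix.diagonal_smul, hd]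
    congr 1
    funext i
    rcases i with i | i <;> simp

theorem exists_norm_value (h2 : (2 : F) ≠ 0) {a b : F}
    (hab : ∀ z₁ z₂ : F, z₁ ^ 2 + a * z₁ * z₂ + b * z₂ ^ 2 = 0 → z₁ = 0 ∧ z₂ = 0) (c : F) :
    ∃ x y : F, x ^ 2 + a * x * y + b * y ^ 2 = c := by
  obtain ⟨v, hv⟩ := exists_value (quadFormMinus_nd (m := 0) a b hab) h2 (by simp) c
  refine ⟨v (Sum.inr 0), v (Sum.inr 1), ?_⟩
  rw [← hv]
  simp [Cfsg.quadFormMinus]

/-- minus type: a similarity of multiplier `c` and its square -/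
theorem exists_sim_minus (hm : 2 ≤ m) (c : Fˣ) (h2 : (2 : F) ≠ 0) {a b : F}
    (hab : ∀ z₁ z₂ : F, z₁ ^ 2 + a * z₁ * z₂ + b * z₂ ^ 2 = 0 → z₁ = 0 ∧ z₂ = 0) :
    ∃ (g : ↥(Sim (Cfsg.quadFormMinus m F a b))) (h : GL ((Fin m ⊕ Fin m) ⊕ Fin 2) F)
      (hh : h ∈ Cfsg.isometryGroup F (Cfsg.quadFormMinus m F a b)),
      simMult (quadFormMinus_nd a b hab) (by simp) g = c ∧
      simSign (quadFormMinus_nd a b hab) (by simp) (m + 1) g = 1 ∧
      (h : Matrix ((Fin m ⊕ Fin m) ⊕ Fin 2) ((Fin m ⊕ Fin m) ⊕ Fin 2) F).det = 1 ∧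
      spn (Cfsg.quadFormMinus m F a b) h = sqc ((c : F) ^ (m + 1)) ∧
      g * g = scalarSim (quadFormMinus_nd a b hab) c * ⟨h, iso_sim hh⟩ := by
  obtain ⟨B, hB⟩ : ∃ B : (Fin 2 → F) → F, B = fun z => z 0 ^ 2 + a * z 0 * z 1 + b * z 1 ^ 2 := ⟨_, rfl⟩
  have hBv : ∀ z, B z = z 0 ^ 2 + a * z 0 * z 1 + b * z 1 ^ 2 := fun z => by rw [hB]
  have hBn : IsNondegenerateQuadraticForm B := by
    have hp : ∀ u v, pol B u v =
        2 * (u 0 * v 0) + a * (u 0 * v 1 + v 0 * u 1) + 2 * b * (u 1 * v 1) := fun u v => by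
      simp only [QuadraticMap.polar, hBv, Pi.add_apply]; ring
    refine ⟨fun k v => by simp only [hBv, Pi.smul_apply, smul_eq_mul]; ring, ?_, fun v hv => ?_⟩
    · constructor <;> intros <;> simp only [hp, Pi.add_apply, Pi.smul_apply, smul_eq_mul] <;> ring
    · have hne : pol B v v ≠ 0 := by
        rw [hp]
        intro e
        have h0 := hab (v 0) (v 1) (mul_left_cancel₀ h2 (by linear_combination e))
        exact hv (funext fun i => by fin_cases i <;> [exact h0.1; exact h0.2])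
      exact ⟨⟨v, hne⟩, v, hne⟩
  obtain ⟨x, y, hxy⟩ := exists_norm_value h2 hab (c : F)
  obtain ⟨M, hM⟩ : ∃ M : GL (Fin 2) F, (M : Matrix (Fin 2) (Fin 2) F) = !![x, -(b * y); y, x + a * y] :=
    ⟨Matrix.GeneralLinearGroup.mkOfDetNeZero !![x, -(b * y); y, x + a * y] (by
      rw [Matrix.det_fin_two_of, show x * (x + a * y) - -(b * y) * y = (c : F) by rw [← hxy]; ring]
      exact c.ne_zero), rfl⟩
  have hMd : (M : Matrix (Fin 2) (Fin 2) F).det = c := by rw [hM, Matrix.det_fin_two_of, ← hxy]; ring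
  have hw : B ![x, y] = c := by rw [hBv]; simpa using hxy
  have he : B ![1, 0] = 1 := by rw [hBv]; simp
  obtain ⟨r, hr, hrv⟩ := exists_refl hBn (show B ![x, y] ≠ 0 by rw [hw]; exact c.ne_zero)
  obtain ⟨s, hs, hsv⟩ := exists_refl hBn (show B ![1, 0] ≠ 0 by rw [he]; exact one_ne_zero)
  have hMM : (M : Matrix (Fin 2) (Fin 2) F) * (M : Matrix (Fin 2) (Fin 2) F) = (c : F) • ((r * s : GL (Fin 2) F) : Matrix (Fin 2) (Fin 2) F) := by
    refine Matrix.ext_iff_mulVec.2 fun z => ?_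
    rw [smul_mulVec, gl_mul_mulVec, hsv, hrv, hw, he, ← mulVec_mulVec, hM]
    have hp : ∀ u v, pol B u v =
        2 * (u 0 * v 0) + a * (u 0 * v 1 + v 0 * u 1) + 2 * b * (u 1 * v 1) := fun u v => by
      simp only [QuadraticMap.polar, hBv, Pi.add_apply]; ring
    funext i
    fin_cases i <;>
      simp [hp, Matrix.mulVec, dotProduct, Fin.sum_univ_two, Matrix.vecHead, Matrix.vecTail, mul_sub, ← mul_assoc] <;> rw [← hxy] <;> ring
  obtain ⟨p1, p2⟩ := refl_spn hBn hr hrv (by rw [hw]; exact c.ne_zero)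
  obtain ⟨q1, q2⟩ := refl_spn hBn hs hsv (by rw [he]; exact one_ne_zero)
  obtain ⟨R1, R2⟩ := spn_mul hBn (iso_le_reflGroup hBn (hex_of_two h2) hr) hs
  obtain ⟨d, hd⟩ : ∃ d : Fin m ⊕ Fin m → F, d = Sum.elim (fun _ => (c : F)) (fun _ => 1) := ⟨_, rfl⟩
  have hdet : (Matrix.diagonal d).det = (c : F) ^ m := by
    rw [Matrix.det_diagonal, hd, Fintype.prod_sum_type]; simp
  obtain ⟨S, hS⟩ : ∃ S : GL (Fin m ⊕ Fin m) F, (S : Matrix (Fin m ⊕ Fin m) (Fin m ⊕ Fin m) F) = Matrix.diagonal d :=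
    ⟨Matrix.GeneralLinearGroup.mkOfDetNeZero (Matrix.diagonal d) (by rw [hdet]; exact pow_ne_zero m c.ne_zero), rfl⟩
  obtain ⟨A, hA⟩ : ∃ A : GL (Fin m) F, A = Units.map (Matrix.scalar (Fin m)).toMonoidHom c := ⟨_, rfl⟩
  have hex : Fintype.card F ≠ 2 ∨ m ≠ 2 := Or.inl fun h => h2 (by
    have := FiniteField.cast_card_eq_zero F
    rwa [h, Nat.cast_ofNat] at this)
  obtain ⟨l1, l2⟩ := levi_invariants (F := F) (m := m) hex A
  have hAc : (A : Matrix (Fin m) (Fin m) F) = Matrix.diagonal fun _ => (c : F) := by rw [hA]; rfl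
  have hAi : ((A⁻¹ : GL (Fin m) F) : Matrix (Fin m) (Fin m) F) = Matrix.diagonal fun _ => ((c⁻¹ : Fˣ) : F) := by
    rw [hA, ← map_inv]; rfl
  have hQP : IsNondegenerateQuadraticForm (Cfsg.quadFormPlus m F) := quadFormPlus_nd
  have hform : Cfsg.quadFormMinus m F a b = sumForm (Cfsg.quadFormPlus m F) B := by
    funext v; rw [hB]; rfl
  have hgs : ∀ v, Cfsg.quadFormMinus m F a b ((blockGL (S, M) : Matrix _ _ F) *ᵥ v) =
      (c : F) * Cfsg.quadFormMinus m F a b v := fun v => by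
    simp only [hform, sumForm, blockGL_mulVec, Sum.elim_comp_inl, Sum.elim_comp_inr, mul_add]
    congr 1
    · simp only [Cfsg.quadFormPlus, hS, Matrix.mulVec_diagonal, hd, Sum.elim_inl, Sum.elim_inr, Finset.mul_sum,
        Function.comp]
      exact Finset.sum_congr rfl fun i _ => by ring
    · rw [hBv, hBv, hM]
      simp [Matrix.mulVec, dotProduct, Fin.sum_univ_two]
      rw [← hxy]; ring
  have hhm : blockGL (levi A, r * s) ∈ Cfsg.isometryGroup F (Cfsg.quadFormMinus m F a b) :=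
    hform ▸ blockGL_mem (levi_mem A) (mul_mem hr hs)
  have hinv : spn (sumForm (Cfsg.quadFormPlus m F) B) (blockGL (levi A, r * s)) = sqc ((c : F) ^ (m + 1)) := by
    rw [show blockGL (levi A, r * s) = blockGL (levi A, (1 : GL (Fin 2) F)) * blockGL ((1 : GL (Fin m ⊕ Fin m) F), r * s) by
      rw [← map_mul, Prod.mk_mul_mk, mul_one, one_mul],
      (spn_mul (sumForm_nd hQP hBn) (iso_le_reflGroup (sumForm_nd hQP hBn) (hex_of_two h2)
        (blockGL_mem (levi_mem A) (one_mem _))) (blockGL_mem (one_mem _) (mul_mem hr hs))).1,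
      (spn_block_left hQP hBn (levi_mem A)).2, (spn_block_right hQP hBn (mul_mem hr hs)).2, R1, p2, q2, hw, he, l1,
      hAc, sqc_one, mul_one, Matrix.det_diagonal, Finset.prod_const, Finset.card_univ, Fintype.card_fin, pow_succ,
      sqc_mul (pow_ne_zero m c.ne_zero) c.ne_zero]
  refine ⟨⟨blockGL (S, M), c, hgs⟩, blockGL (levi A, r * s), hhm, simMult_eq _ _ hgs, ?_, ?_, ?_, ?_⟩
  · rw [simSign_eq_one_iff, simMult_eq (g := ⟨blockGL (S, M), c, hgs⟩) _ _ hgs]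
    show ((blockGL (S, M) : GL ((Fin m ⊕ Fin m) ⊕ Fin 2) F) : Matrix ((Fin m ⊕ Fin m) ⊕ Fin 2) ((Fin m ⊕ Fin m) ⊕ Fin 2) F).det = _
    rw [blockGL_coe, Matrix.det_fromBlocks_zero₁₂, hS, hdet, hMd, pow_succ]
  · rw [blockGL_coe, Matrix.det_fromBlocks_zero₁₂, (det_eq_one_iff hQP h2 (levi_mem A)).2 l2,
      (det_eq_one_iff hBn h2 (mul_mem hr hs)).2 (R2.2 (by rw [p1, q1])), one_mul]
  · rw [hform]; exact hinv
  · refine Subtype.ext (Units.ext ?_)
    show ((blockGL (S, M) : GL ((Fin m ⊕ Fin m) ⊕ Fin 2) F) : Matrix ((Fin m ⊕ Fin m) ⊕ Fin 2) ((Fin m ⊕ Fin m) ⊕ Fin 2) F) *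
        ((blockGL (S, M) : GL ((Fin m ⊕ Fin m) ⊕ Fin 2) F) : Matrix ((Fin m ⊕ Fin m) ⊕ Fin 2) ((Fin m ⊕ Fin m) ⊕ Fin 2) F) =
      (((scalarSim (quadFormMinus_nd (m := m) a b hab) c).1 : GL ((Fin m ⊕ Fin m) ⊕ Fin 2) F) : Matrix ((Fin m ⊕ Fin m) ⊕ Fin 2) ((Fin m ⊕ Fin m) ⊕ Fin 2) F) *
        ((blockGL (levi A, r * s) : GL ((Fin m ⊕ Fin m) ⊕ Fin 2) F) : Matrix ((Fin m ⊕ Fin m) ⊕ Fin 2) ((Fin m ⊕ Fin m) ⊕ Fin 2) F)
    rw [scalarSim_coe, smul_mul_assoc, one_mul, blockGL_coe, blockGL_coe, Matrix.fromBlocks_multiply,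
      Matrix.fromBlocks_smul, hMM]
    simp only [Matrix.mul_zero, Matrix.zero_mul, add_zero, zero_add, smul_zero]
    congr 1
    rw [hS, levi_coe, hAc, hAi, Matrix.diagonal_transpose, Matrix.fromBlocks_diagonal, Matrix.diagonal_mul_diagonal, hd]
    ext i j
    by_cases hij : i = j
    · subst hij
      rcases i with i | i <;> simp
    · simp [hij]

theorem inndiag_plus_eq (hm : 3 ≤ m) (h2 : (2 : F) ≠ 0) :
    Cfsg.inndiagPOmegaPlus m F = diagSub (quadFormPlus_nd (F := F) (m := m)) (by simp; omega) m := by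
  refine le_antisymm ((Subgroup.closure_le _).2 ?_) ?_
  · rintro β ⟨g, hg, hp, hi⟩
    obtain rfl := ((isInduced_iff (sim_pair hg)).1 hi)
    refine (mem_diagSub_iff quadFormPlus_nd (by simp; omega) plus_card ⟨g, hg⟩).2 ?_
    rw [simSign_eq_one_iff]
    exact (preserves_plus_iff h2 (simMult_spec quadFormPlus_nd (by simp; omega) ⟨g, hg⟩)).1 hp
  · rintro _ ⟨g, hg, rfl⟩
    refine Subgroup.subset_closure ⟨g.1, g.2, ?_, ind_isInduced (sim_pair g.2)⟩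
    exact (preserves_plus_iff h2 (simMult_spec quadFormPlus_nd (by simp; omega) g)).2
      ((simSign_eq_one_iff _ _ m g).1 hg)

theorem inndiag_minus_eq (hm : 2 ≤ m) (h2 : (2 : F) ≠ 0) {a b : F}
    (hab : ∀ z₁ z₂ : F, z₁ ^ 2 + a * z₁ * z₂ + b * z₂ ^ 2 = 0 → z₁ = 0 ∧ z₂ = 0) :
    Cfsg.inndiagPOmegaMinus m F a b = diagSub (quadFormMinus_nd (m := m) a b hab) (by simp) (m + 1) := by
  refine le_antisymm ((Subgroup.closure_le _).2 ?_) ?_
  · rintro β ⟨g, hg, hp, hi⟩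
    obtain rfl := ((isInduced_iff (sim_pair hg)).1 hi)
    refine (mem_diagSub_iff (quadFormMinus_nd a b hab) (by simp; omega) minus_card ⟨g, hg⟩).2 ?_
    rw [simSign_eq_one_iff]
    exact (preserves_minus_iff h2 hab (simMult_spec (quadFormMinus_nd a b hab) (by simp) ⟨g, hg⟩)).1 hp
  · rintro _ ⟨g, hg, rfl⟩
    refine Subgroup.subset_closure ⟨g.1, g.2, ?_, ind_isInduced (sim_pair g.2)⟩
    exact (preserves_minus_iff h2 hab (simMult_spec (quadFormMinus_nd a b hab) (by simp) g)).2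
      ((simSign_eq_one_iff _ _ (m + 1) g).1 hg)

theorem hsim_plus (hm : 3 ≤ m) (h2 : (2 : F) ≠ 0) (c : Fˣ) :
    ∃ g, simMult (quadFormPlus_nd (F := F) (m := m)) (by simp; omega) g = c ∧
      simSign (quadFormPlus_nd (F := F) (m := m)) (by simp; omega) m g = 1 := by
  obtain ⟨g, -, -, h1, h1', -⟩ := exists_sim_plus (F := F) (m := m) hm c h2
  exact ⟨g, h1, h1'⟩

theorem hsim_minus (hm : 2 ≤ m) (h2 : (2 : F) ≠ 0) {a b : F}
    (hab : ∀ z₁ z₂ : F, z₁ ^ 2 + a * z₁ * z₂ + b * z₂ ^ 2 = 0 → z₁ = 0 ∧ z₂ = 0) (c : Fˣ) :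
    ∃ g, simMult (quadFormMinus_nd (m := m) a b hab) (by simp) g = c ∧
      simSign (quadFormMinus_nd (m := m) a b hab) (by simp) (m + 1) g = 1 := by
  obtain ⟨g, -, -, h1, h1', -⟩ := exists_sim_minus (F := F) (m := m) hm c h2 hab
  exact ⟨g, h1, h1'⟩

end CfsgLib.Orth
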