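import Cfsg.Agent.Lib.Orth.MaxSing
import Cfsg.Agent.Lib.Orth.StdSing
import Cfsg.Prelude.Def_LieTypeDatum

/-!
# Which similarities preserve the two classes of maximal totally singular subspaces
-/

set_option autoImplicit false
set_option linter.all false

namespace CfsgLib.Orth

open scoped Matrix
open Matrix Cfsg.Geo CfsgLib.Perm.Asch CfsgLib.Perm.Trans CfsgLib.Perm.Trans.Quad

universe u

variable {ι : Type} [Fintype ι] [DecidableEq ι] {F : Type u} [Field F]
variable {Q : (ι → F) → F}

local notation "pol" => QuadraticMap.polar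

theorem sim_polar {g : Matrix ι ι F} {c : F} (hg : ∀ v, Q (g *ᵥ v) = c * Q v) (x y : ι → F) :
    pol Q (g *ᵥ x) (g *ᵥ y) = c * pol Q x y := by
  simp only [QuadraticMap.polar, ← mulVec_add, hg]
  ring

theorem imageSubmodule_eq (g : Matrix ι ι F) (U : Submodule F (ι → F)) :
    Cfsg.imageSubmodule g U = U.map (Matrix.mulVecLin g) := rfl

variable [Fintype F] (hQ : IsNondegenerateQuadraticForm Q)
include hQ

/-- totally singular subspaces have at most half the dimension -/
theorem finrank_ts_le {U : Submodule F (ι → F)} (hU : ∀ x ∈ U, Q x = 0) :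
    2 * Module.finrank F U ≤ Fintype.card ι := by
  have hle : U ≤ qperp hQ U := fun x hx y hy => by
    rw [QuadraticMap.polar, hU _ (U.add_mem hx hy), hU x hx, hU y hy]; ring
  have h1 := Submodule.finrank_mono hle
  have h2 := finrank_qperp_le hQ U
  omega

/-- in a hyperbolic space the maximal totally singular subspaces have half the dimension -/
theorem maxSing_finrank {m : ℕ} (hm : Fintype.card ι = m + m) {U : Submodule F (ι → F)}
    (hU : Module.finrank F U = m) (hUs : ∀ x ∈ U, Q x = 0) {W : Submodule F (ι → F)}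
    (hW : Cfsg.IsMaxTotallySingular Q W) : Module.finrank F W = m := by
  have h1 := finrank_ts_le hQ (U := W) hW.1
  rcases Nat.lt_or_ge (Module.finrank F W) m with hlt | hge
  · exfalso
    obtain ⟨f, hf⟩ := exists_linearIndependent_of_le_finrank (R := F) (M := U) (n := Module.finrank F W) (by omega)
    obtain ⟨U', hU'⟩ : ∃ U', U' = (Submodule.span F (Set.range f)).map U.subtype := ⟨_, rfl⟩
    have hd : Module.finrank F U' = Module.finrank F W := by
      rw [hU', Submodule.finrank_map_subtype_eq, finrank_span_eq_card hf, Fintype.card_fin]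
    have hle : U' ≤ U := hU' ▸ Submodule.map_subtype_le _ _
    obtain ⟨g, hg, hgm⟩ := exists_map_ts hQ hd (fun x hx => hUs x (hle hx)) hW.1
    have heq := hW.2 (U.map (Matrix.mulVecLin (g : Matrix ι ι F)))
      (by
        rintro _ ⟨x, hx, rfl⟩
        rw [Matrix.mulVecLin_apply, mem_iso.1 hg]
        exact hUs x hx)
      (hgm ▸ Submodule.map_mono hle)
    rw [← heq, map_gl_finrank, hU] at hlt
    exact lt_irrefl _ hlt
  · omega

theorem maxSing_of_finrank {m : ℕ} (hm : Fintype.card ι = m + m) {U : Submodule F (ι → F)}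
    (hU : Module.finrank F U = m) (hUs : ∀ x ∈ U, Q x = 0) : Cfsg.IsMaxTotallySingular Q U :=
  ⟨hUs, fun W hW hle => (Submodule.eq_of_le_of_finrank_le hle (by
    have := finrank_ts_le hQ (U := W) hW
    omega)).symm⟩

/-- the class criterion, relative to one similarity fixing a maximal totally singular subspace -/
theorem preserves_iff (h2 : (2 : F) ≠ 0) {m : ℕ} (hm : Fintype.card ι = m + m) {U : Submodule F (ι → F)}
    (hU : Module.finrank F U = m) (hUs : ∀ x ∈ U, Q x = 0) {c : Fˣ} {s : GL ι F}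
    (hs : ∀ v, Q ((s : Matrix ι ι F) *ᵥ v) = (c : F) * Q v)
    (hsU : U.map (Matrix.mulVecLin (s : Matrix ι ι F)) = U) (hsd : (s : Matrix ι ι F).det = (c : F) ^ m)
    {g : GL ι F} (hg : ∀ v, Q ((g : Matrix ι ι F) *ᵥ v) = (c : F) * Q v) :
    Cfsg.PreservesSingularClasses Q (g : Matrix ι ι F) ↔ (g : Matrix ι ι F).det = (c : F) ^ m := by
  have hex : Fintype.card F ≠ 2 ∨ Fintype.card ι ≠ 4 := hex_of_two h2
  obtain ⟨δ, hδ⟩ : ∃ δ, δ = (g : Matrix ι ι F).det := ⟨_, rfl⟩
  have key : ∀ W : Submodule F (ι → F), Cfsg.IsMaxTotallySingular Q W →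
      (Cfsg.SameParityClass W (Cfsg.imageSubmodule (g : Matrix ι ι F) W) ↔ δ = (c : F) ^ m) := by
    intro W hW
    have hWd := maxSing_finrank hQ hm hU hUs hW
    obtain ⟨k, hk, hkW⟩ := exists_map_ts hQ (hU.trans hWd.symm) hUs hW.1
    obtain ⟨h, hh⟩ : ∃ h : GL ι F, h = s⁻¹ * k⁻¹ * g * k := ⟨_, rfl⟩
    have hsh : k * (s * h) = g * k := by rw [hh]; group
    have hhi : h ∈ Cfsg.isometryGroup F Q := mem_iso.2 fun x => by
      have e : (k : Matrix ι ι F) *ᵥ ((s : Matrix ι ι F) *ᵥ ((h : Matrix ι ι F) *ᵥ x)) =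
          (g : Matrix ι ι F) *ᵥ ((k : Matrix ι ι F) *ᵥ x) := by
        rw [← gl_mul_mulVec, ← gl_mul_mulVec, ← gl_mul_mulVec, mul_assoc, hsh]
      have e2 := congrArg Q e
      rw [mem_iso.1 hk, hs, hg, mem_iso.1 hk] at e2
      exact mul_left_cancel₀ c.ne_zero e2
    have hdet : (h : Matrix ι ι F).det = 1 ↔ δ = (c : F) ^ m := by
      have e := congrArg (fun x : GL ι F => (x : Matrix ι ι F).det) hsh
      simp only [Units.val_mul, Matrix.det_mul, hsd, ← hδ] at e
      have hk0 : (k : Matrix ι ι F).det ≠ 0 := ((Matrix.isUnit_iff_isUnit_det _).1 k.isUnit).ne_zero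
      rw [mul_comm] at e
      constructor
      · intro h1
        rw [h1, mul_one] at e
        exact (mul_right_cancel₀ hk0 e).symm
      · intro h1
        rw [h1, mul_assoc] at e
        have e1 := mul_left_cancel₀ (pow_ne_zero m c.ne_zero) e
        nth_rewrite 2 [← one_mul (k : Matrix ι ι F).det] at e1
        exact mul_right_cancel₀ hk0 e1
    have hinj : ∀ a : GL ι F, Function.Injective (Matrix.mulVecLin (a : Matrix ι ι F)) := fun a =>
      Matrix.mulVec_injective_iff_isUnit.2 a.isUnit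
    have himg : W ⊓ W.map (Matrix.mulVecLin (g : Matrix ι ι F)) =
        ((U ⊓ U.map (Matrix.mulVecLin (h : Matrix ι ι F))).map (Matrix.mulVecLin (s : Matrix ι ι F))).map
          (Matrix.mulVecLin (k : Matrix ι ι F)) := by
      rw [Submodule.map_inf _ (hinj s), Submodule.map_inf _ (hinj k), hsU, hkW, ← map_mulVec_mul, ← map_mulVec_mul,
        mul_assoc, hsh, map_mulVec_mul, hkW]
    rw [Cfsg.SameParityClass, imageSubmodule_eq, hWd, himg, map_gl_finrank, map_gl_finrank,
      even_wrk_iff hQ hex hm hU hUs hhi, ← det_eq_one_iff hQ h2 hhi, hdet]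
  rw [← hδ]
  exact ⟨fun hp => (key U (maxSing_of_finrank hQ hm hU hUs)).1 (hp U (maxSing_of_finrank hQ hm hU hUs)),
    fun hd W hW => (key W hW).2 hd⟩

end CfsgLib.Orth
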