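import Cfsg.Agent.Lib.Orth.Facts
import Cfsg.Agent.Lib.Perm.Trans.QuadWitt

/-!
# Correcting spinor norm and parity inside stabilisers
-/

set_option autoImplicit false
set_option linter.all false

namespace CfsgLib.Orth

open scoped Matrix
open Matrix Cfsg.Geo CfsgLib.Perm.Asch CfsgLib.Perm.Trans CfsgLib.Perm.Trans.Quad

variable {ι : Type} [Fintype ι] [DecidableEq ι] {F : Type*} [Field F] [Fintype F]
variable {Q : (ι → F) → F}

local notation "pol" => QuadraticMap.polar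

variable (hQ : IsNondegenerateQuadraticForm Q)
include hQ

/-- the rotation `e ↦ a e`, `f ↦ a⁻¹ f` of a hyperbolic plane -/
theorem exists_torus {e f : ι → F} (he : Q e = 0) (hf : Q f = 0) (hef : pol Q e f = 1) {a : F} (ha : a ≠ 0)
    (hex : Fintype.card F ≠ 2 ∨ Fintype.card ι ≠ 4) :
    ∃ g ∈ Cfsg.isometryGroup F Q, Even (wrk g) ∧ spn Q g = sqc a ∧
      ∀ x, (g : Matrix ι ι F) *ᵥ x = x + ((a - 1) * pol Q x f) • e + ((a⁻¹ - 1) * pol Q x e) • f := by
  have hfe : pol Q f e = 1 := by rw [pcomm, hef]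
  have hee : pol Q e e = 0 := by rw [pself hQ, he, mul_zero]
  have hff : pol Q f f = 0 := by rw [pself hQ, hf, mul_zero]
  have h1 : Q (e + f) = 1 := by rw [qadd hQ, he, hf, hef]; ring
  have h2 : Q (e + a • f) = a := by rw [qadd hQ, qsmul hQ, psmul_right hQ, he, hf, hef]; ring
  obtain ⟨r, hr, hrv⟩ := exists_refl hQ (show Q (e + f) ≠ 0 by rw [h1]; exact one_ne_zero)
  obtain ⟨s, hs, hsv⟩ := exists_refl hQ (show Q (e + a • f) ≠ 0 by rw [h2]; exact ha)
  obtain ⟨e1, e2⟩ := refl_spn hQ hr hrv (by rw [h1]; exact one_ne_zero)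
  obtain ⟨f1, f2⟩ := refl_spn hQ hs hsv (by rw [h2]; exact ha)
  obtain ⟨p, q⟩ := spn_mul hQ (iso_le_reflGroup hQ hex hr) hs
  refine ⟨r * s, mul_mem hr hs, ?_, ?_, fun x => ?_⟩
  · rw [q, e1, f1]
  · rw [p, e2, f2, h1, h2, sqc_one, one_mul]
  · rw [gl_mul_mulVec, hsv, hrv, h1, h2]
    simp only [psub_left hQ, padd_left hQ, psmul_left hQ, padd_right hQ, psmul_right hQ, hef, hfe, hee, hff]
    match_scalars <;> field_simp <;> ring

omit [Fintype F] hQ in
theorem map_mulVec_mul (U : Submodule F (ι → F)) (g h : GL ι F) :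
    U.map (Matrix.mulVecLin ((g * h : GL ι F) : Matrix ι ι F)) =
      (U.map (Matrix.mulVecLin (h : Matrix ι ι F))).map (Matrix.mulVecLin (g : Matrix ι ι F)) := by
  rw [← Submodule.map_comp, Units.val_mul, Matrix.mulVecLin_mul]

/-- a torus element stabilises totally singular subspaces through `e` -/
theorem torus_stab {g : GL ι F} {e f : ι → F} {c d : F}
    (hg : ∀ x, (g : Matrix ι ι F) *ᵥ x = x + (c * pol Q x f) • e + (d * pol Q x e) • f)
    {U : Submodule F (ι → F)} (heU : e ∈ U) (hU : ∀ x ∈ U, Q x = 0) :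
    U.map (Matrix.mulVecLin (g : Matrix ι ι F)) = U := by
  refine Submodule.eq_of_le_of_finrank_eq ?_ ?_
  · rintro _ ⟨x, hx, rfl⟩
    rw [Matrix.mulVecLin_apply, hg]
    have h : pol Q x e = 0 := by
      rw [QuadraticMap.polar, hU _ (U.add_mem hx heU), hU x hx, hU e heU]; ring
    rw [h, mul_zero, zero_smul, add_zero]
    exact U.add_mem hx (U.smul_mem _ heU)
  · refine (Submodule.equivMapOfInjective _ ?_ U).finrank_eq.symm
    exact Matrix.mulVec_injective_iff_isUnit.2 g.isUnit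

/-- Witt: isometries are transitive on totally singular subspaces of each dimension -/
theorem exists_map_ts {U W : Submodule F (ι → F)} (hd : Module.finrank F U = Module.finrank F W)
    (hU : ∀ x ∈ U, Q x = 0) (hW : ∀ x ∈ W, Q x = 0) :
    ∃ g ∈ Cfsg.isometryGroup F Q, U.map (Matrix.mulVecLin (g : Matrix ι ι F)) = W := by
  obtain ⟨B, hB⟩ : ∃ B : QuadraticForm F (ι → F), ⇑B = Q :=
    ⟨QuadraticMap.ofPolar Q (fun c x => by rw [qsmul hQ, sq, smul_eq_mul]) (padd_left hQ)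
      (fun c x y => by rw [psmul_left hQ, smul_eq_mul]), rfl⟩
  have hBn : (QuadraticMap.polarBilin B).Nondegenerate :=
    ⟨fun x hx => by
      by_contra hne
      obtain ⟨-, y, hy⟩ := hQ.nondegenerate x hne
      refine hy ?_
      have := hx y
      rwa [QuadraticMap.polarBilin_apply_apply, hB] at this, fun x hx => by
      by_contra hne
      obtain ⟨⟨y, hy⟩, -⟩ := hQ.nondegenerate x hne
      refine hy ?_
      have := hx y
      rwa [QuadraticMap.polarBilin_apply_apply, hB] at this⟩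
  obtain ⟨φ⟩ : Nonempty (U ≃ₗ[F] W) := ⟨LinearEquiv.ofFinrankEq _ _ hd⟩
  obtain ⟨g, hg, hgU⟩ := CfsgLib.Perm.Trans.Witt.witt_extension hBn U (W.subtype.comp φ.toLinearMap)
    (W.injective_subtype.comp φ.injective) (fun x => by rw [hB]; show Q (φ x : ι → F) = Q x; rw [hW _ (φ x).2, hU _ x.2])
  obtain ⟨G, hG⟩ : ∃ G : GL ι F, ∀ x, (G : Matrix ι ι F) *ᵥ x = g x := by
    refine ⟨⟨LinearMap.toMatrix' g.toLinearMap, LinearMap.toMatrix' g.symm.toLinearMap, ?_, ?_⟩,
      fun x => LinearMap.toMatrix'_mulVec _ _⟩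
    · rw [← LinearMap.toMatrix'_comp]; simp
    · rw [← LinearMap.toMatrix'_comp]; simp
  refine ⟨G, mem_iso.2 fun x => by rw [hG, ← hB]; exact hg x, ?_⟩
  refine le_antisymm ?_ fun w hw => ?_
  · rintro _ ⟨x, hx, rfl⟩
    rw [Matrix.mulVecLin_apply, hG, hgU ⟨x, hx⟩]
    exact (φ ⟨x, hx⟩).2
  · refine ⟨(φ.symm ⟨w, hw⟩ : ι → F), (φ.symm ⟨w, hw⟩).2, ?_⟩
    rw [Matrix.mulVecLin_apply, hG, hgU]
    show ((φ (φ.symm ⟨w, hw⟩) : W) : ι → F) = w
    rw [LinearEquiv.apply_symm_apply]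

/-- a totally singular perp is small -/
theorem exists_nonsing_perp {U : Submodule F (ι → F)} (hk : 2 * Module.finrank F U < Fintype.card ι) :
    ∃ v ∈ qperp hQ U, Q v ≠ 0 := by
  by_contra hcon
  push Not at hcon
  have hle : qperp hQ U ≤ qperp hQ (qperp hQ U) := fun x hx y hy => by
    rw [QuadraticMap.polar, hcon _ ((qperp hQ U).add_mem hx hy), hcon x hx, hcon y hy]; ring
  have h1 := Submodule.finrank_mono hle
  have h2 := finrank_qperp hQ U
  have h3 := finrank_qperp_le hQ (qperp hQ U)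
  omega

/-- any spinor norm is attained by an even element of the stabiliser of a non-zero totally singular subspace -/
theorem exists_stab_spn (hex : Fintype.card F ≠ 2 ∨ Fintype.card ι ≠ 4) {U : Submodule F (ι → F)} (hU : ∀ x ∈ U, Q x = 0)
    (hU0 : U ≠ ⊥) (c : SqClass F) : ∃ s ∈ Cfsg.isometryGroup F Q, U.map (Matrix.mulVecLin (s : Matrix ι ι F)) = U ∧
      Even (wrk s) ∧ spn Q s = c := by
  obtain ⟨e, heU, he0⟩ := Submodule.exists_mem_ne_zero_of_ne_bot hU0
  obtain ⟨f, -, hf, hef⟩ := exists_qpartner hQ (ndOn_top hQ) Submodule.mem_top he0 (hU e heU)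
  obtain ⟨u, rfl⟩ : ∃ u, sqMk F u = c := QuotientGroup.mk'_surjective _ c
  obtain ⟨g, hg, h1, h2, h3⟩ := exists_torus hQ (hU e heU) hf hef u.ne_zero hex
  refine ⟨g, hg, torus_stab hQ h3 heU hU, h1, ?_⟩
  rw [h2]
  unfold sqc
  rw [dif_neg u.ne_zero]
  exact congrArg _ (Units.ext rfl)

/-- adjust an element into `Omega` by a stabiliser -/
theorem omega_of_even (hn : 2 ≤ Fintype.card ι) (hex : Fintype.card F ≠ 2 ∨ Fintype.card ι ≠ 4) {U W : Submodule F (ι → F)}
    (hU : ∀ x ∈ U, Q x = 0) (hU0 : U ≠ ⊥) {g : GL ι F} (hg : g ∈ Cfsg.isometryGroup F Q) (hev : Even (wrk g))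
    (hmap : U.map (Matrix.mulVecLin (g : Matrix ι ι F)) = W) :
    ∃ x : ↥(Cfsg.isometryGroup F Q), x ∈ Cfsg.Omega F Q ∧ U.map (Matrix.mulVecLin (x.1 : Matrix ι ι F)) = W := by
  obtain ⟨s, hs, hsU, hse, hss⟩ := exists_stab_spn hQ hex hU hU0 (spn Q g)⁻¹
  obtain ⟨p, q⟩ := spn_mul hQ (iso_le_reflGroup hQ hex hg) hs
  refine ⟨⟨g * s, mul_mem hg hs⟩, (mem_omega_iff hQ hn hex _).2 ⟨?_, q.2 (iff_of_true hev hse)⟩, ?_⟩
  · show spn Q (g * s) = 1
    rw [p, hss, mul_inv_cancel]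
  · show U.map (Matrix.mulVecLin ((g * s : GL ι F) : Matrix ι ι F)) = W
    rw [map_mulVec_mul, hsU, hmap]

end CfsgLib.Orth
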