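import Cfsg.Agent.Lib.Orth.GraphInvol
import Cfsg.Agent.Lib.Descent.SplitCount
import Cfsg.Agent.Lib.Orth.PGOInst

/-!
# Into how many classes a class of graph involutions splits
-/

set_option autoImplicit false
set_option linter.all false

namespace CfsgLib.Orth

open scoped Matrix
open Matrix Cfsg.Geo CfsgLib.Perm.Asch CfsgLib.Perm.Trans CfsgLib.Perm.Trans.Quad

section general

variable {X : Type*} [Group X] {A : Type*} [CommGroup A] {H K : Subgroup X}

theorem split_eq_index (hKH : K ≤ H) (φ : ↥H →* A) (hs : Function.Surjective φ) (hk : φ.ker = K.subgroupOf H) (x : X) :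
    Cfsg.splitClassCount H K x = (((Subgroup.centralizer {x}).comap H.subtype).map φ).index :=
  CfsgLib.Descent.splitClassCount_eq_index_of_hom H.subtype φ hs x H.range_subtype.symm
    (by rw [hk, Subgroup.subgroupOf, Subgroup.map_comap_eq_self (by rw [Subgroup.range_subtype]; exact hKH)])

theorem split_two (hKH : K ≤ H) (φ : ↥H →* A) (hs : Function.Surjective φ) (hk : φ.ker = K.subgroupOf H)
    (h2 : Nat.card A = 2) (x : X) :
    (Cfsg.splitClassCount H K x = 1 ∨ Cfsg.splitClassCount H K x = 2) ∧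
      ((∀ h ∈ H, x * h = h * x → h ∈ K) → Cfsg.splitClassCount H K x = 2) := by
  rw [split_eq_index hKH φ hs hk]
  refine ⟨?_, fun hC => ?_⟩
  · have h := Subgroup.index_dvd_card (((Subgroup.centralizer {x}).comap H.subtype).map φ)
    rw [h2] at h
    exact (Nat.dvd_prime Nat.prime_two).1 h
  · have hbot : ((Subgroup.centralizer {x}).comap H.subtype).map φ = ⊥ := by
      rw [Subgroup.map_eq_bot_iff, hk]
      exact fun h hh => hC h.1 h.2 (Subgroup.mem_centralizer_iff.1 hh x (Set.mem_singleton x))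
    rw [hbot, Subgroup.index_bot, h2]

theorem split_four (hKH : K ≤ H) (φ : ↥H →* A) (hs : Function.Surjective φ) (hk : φ.ker = K.subgroupOf H)
    (h4 : Nat.card A = 4) {P : Subgroup X} (hHP : H ≤ P) {D : Type*} [Group D] (ψ : ↥P →* D)
    (hψ : Function.Surjective ψ) (hψk : ψ.ker = K.subgroupOf P) {r s : D} (hne : r * s ≠ s * r) {x : X} (hxP : x ∈ P)
    (hcov : ∀ y ∈ P, y ∈ H ∨ y * x ∈ H) (hu : ∃ u ∈ H, x * u = u * x ∧ u ∉ K) :
    Cfsg.splitClassCount H K x = 2 := by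
  rw [split_eq_index hKH φ hs hk]
  obtain ⟨S, hS⟩ : ∃ S, S = ((Subgroup.centralizer {x}).comap H.subtype).map φ := ⟨_, rfl⟩
  rw [← hS]
  have hSb : S ≠ ⊥ := fun e => by
    obtain ⟨u, huH, hux, huK⟩ := hu
    have h1 : φ ⟨u, huH⟩ ∈ S := hS ▸ ⟨⟨u, huH⟩, Subgroup.mem_centralizer_iff.2 (by
      rintro y rfl; exact hux), rfl⟩
    rw [e, Subgroup.mem_bot] at h1
    refine huK ?_
    have h3 : (⟨u, huH⟩ : ↥H) ∈ φ.ker := h1
    rw [hk] at h3
    exact h3
  have hSt : S ≠ ⊤ := fun e => by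
    have hKtriv : ∀ y (hy : y ∈ P), y ∈ K → ψ ⟨y, hy⟩ = 1 := fun y hy hyK => by
      have h3 : (⟨y, hy⟩ : ↥P) ∈ ψ.ker := by rw [hψk]; exact hyK
      exact h3
    have hcx : ∀ y (hy : y ∈ H), Commute (ψ ⟨y, hHP hy⟩) (ψ ⟨x, hxP⟩) := by
      intro y hy
      obtain ⟨z, hz, hzy⟩ : φ ⟨y, hy⟩ ∈ ((Subgroup.centralizer {x}).comap H.subtype).map φ := by
        rw [← hS, e]; exact Subgroup.mem_top _
      have hk' : z⁻¹ * ⟨y, hy⟩ ∈ K.subgroupOf H := by
        rw [← hk, MonoidHom.mem_ker, map_mul, map_inv, hzy, inv_mul_cancel]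
      have hyz : ψ ⟨y, hHP hy⟩ = ψ ⟨z.1, hHP z.2⟩ := by
        refine (inv_mul_eq_one.1 ?_).symm
        rw [← map_inv, ← map_mul]
        exact hKtriv _ _ hk'
      rw [hyz]
      show _ * _ = _ * _
      rw [← map_mul, ← map_mul]
      congr 1
      exact Subtype.ext (Subgroup.mem_centralizer_iff.1 hz x (Set.mem_singleton x)).symm
    have hcH : ∀ y (hy : y ∈ H) z (hz : z ∈ H), Commute (ψ ⟨y, hHP hy⟩) (ψ ⟨z, hHP hz⟩) := by
      intro y hy z hz
      show _ * _ = _ * _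
      rw [← map_mul, ← map_mul]
      refine (inv_mul_eq_one.1 ?_)
      rw [← map_inv, ← map_mul]
      refine hKtriv _ _ ?_
      have : ((⟨y, hy⟩ : ↥H) * ⟨z, hz⟩)⁻¹ * (⟨z, hz⟩ * ⟨y, hy⟩) ∈ K.subgroupOf H := by
        rw [← hk, MonoidHom.mem_ker, map_mul, map_inv, map_mul, map_mul, mul_comm (φ ⟨z, hz⟩), inv_mul_cancel]
      exact this
    have hrep : ∀ a : D, ∃ y, ∃ hy : y ∈ H, a = ψ ⟨y, hHP hy⟩ ∨ a = ψ ⟨y, hHP hy⟩ * (ψ ⟨x, hxP⟩)⁻¹ := by
      intro a
      obtain ⟨⟨y, hy⟩, rfl⟩ := hψ a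
      rcases hcov y hy with h | h
      · exact ⟨y, h, Or.inl rfl⟩
      · refine ⟨y * x, h, Or.inr (eq_mul_inv_of_mul_eq ?_)⟩
        rw [← map_mul]; rfl
    obtain ⟨y, hy, hry⟩ := hrep r
    obtain ⟨z, hz, hsz⟩ := hrep s
    refine hne ?_
    rcases hry with rfl | rfl <;> rcases hsz with rfl | rfl
    · exact hcH y hy z hz
    · exact (hcH y hy z hz).mul_right (hcx y hy).inv_right
    · exact (hcH y hy z hz).mul_left (hcx z hz).symm.inv_left
    · exact ((hcH y hy z hz).mul_left (hcx z hz).symm.inv_left).mul_right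
        ((hcx y hy).inv_right.mul_left (Commute.refl _))
  haveI : Finite A := Nat.finite_of_card_ne_zero (by omega)
  have hmul := S.card_mul_index
  rw [h4] at hmul
  have h1 : S.index ≠ 1 := fun h => hSt (Subgroup.index_eq_one.1 h)
  have h3 : Nat.card S ≠ 1 := fun h => hSb (Subgroup.card_eq_one.1 h)
  obtain ⟨i, hi, hi'⟩ := (Nat.dvd_prime_pow Nat.prime_two).1 (show S.index ∣ 2 ^ 2 from ⟨Nat.card S, by rw [mul_comm, hmul]; rfl⟩)
  interval_cases i
  · exact absurd hi' h1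
  · exact hi'
  · rw [hi'] at hmul
    exact absurd (Nat.eq_of_mul_eq_mul_right (show 0 < 2 ^ 2 by norm_num) (hmul.trans (one_mul _).symm)) h3

end general

variable {ι : Type} [Fintype ι] [DecidableEq ι] {F : Type*} [Field F] [Fintype F]
variable {Q : (ι → F) → F}

local notation "pol" => QuadraticMap.polar
local notation "Sim" => Cfsg.Geo.quadSimilarityGroup (F := F)

variable (hQ : IsNondegenerateQuadraticForm Q)
include hQ

/-- the square of a similarity inducing an involution is a scalar -/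
theorem sq_scalar_of_invol (hn : 5 ≤ Fintype.card ι) {g : ↥(Sim Q)} (h : orderOf (simHom Q g) = 2) :
    ∃ d, g * g = scalarSim hQ d := by
  refine eq_scalarSim_of_ker hQ hn ?_
  rw [map_mul, ← sq, ← h, pow_orderOf_eq_one]

theorem diag_cover (hn : 5 ≤ Fintype.card ι) (h2 : (2 : F) ≠ 0) {k : ℕ} (hk : Fintype.card ι = k + k) {g : ↥(Sim Q)}
    (hg : simSign hQ (by omega) k g ≠ 1) :
    ∀ y ∈ Cfsg.pgoAut F Q, y ∈ diagSub hQ (by omega) k ∨ y * simHom Q g ∈ diagSub hQ (by omega) k := by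
  intro y hy
  rw [pgoAut_eq] at hy
  obtain ⟨w, rfl⟩ := hy
  have hneg : ∀ v : ↥(Sim Q), simSign hQ (by omega) k v ≠ 1 → (simSign hQ (by omega) k v : F) = -1 := fun v hv => by
    rcases (mem_sq_ker _).1 (MonoidHom.mem_ker.2 (simSign_sq hQ (by omega) hk v)) with h | h
    · exact absurd (Units.ext h) hv
    · exact h
  by_cases hw : simSign hQ (by omega) k w = 1
  · exact Or.inl ((mem_diagSub_iff hQ hn hk w).2 hw)
  · refine Or.inr ?_
    rw [← map_mul, mem_diagSub_iff hQ hn hk, map_mul]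
    refine Units.ext ?_
    rw [Units.val_mul, hneg w hw, hneg g hg, Units.val_one]; ring

/-- `-1 ∈ Omega`: two classes -/
theorem graph_split_four (hn : 6 ≤ Fintype.card ι) (h2 : (2 : F) ≠ 0) {k : ℕ} (hk : Fintype.card ι = k + k)
    (hsim : ∀ c : Fˣ, ∃ g : ↥(Sim Q), simMult hQ (by omega) g = c ∧ simSign hQ (by omega) k g = 1)
    (hneg : spn Q (-1 : GL ι F) = 1) {g : ↥(Sim Q)} (hg : simSign hQ (by omega) k g ≠ 1)
    (ho : orderOf (simHom Q g) = 2) {A : Type*} [CommGroup A] (h4 : Nat.card A = 4)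
    (φ : ↥(diagSub hQ (by omega) k) →* A) (hs : Function.Surjective φ)
    (hker : φ.ker = (Cfsg.Inn (Cfsg.POmega F Q)).subgroupOf (diagSub hQ (by omega) k)) :
    Cfsg.splitClassCount (diagSub hQ (by omega) k) (Cfsg.Inn (Cfsg.POmega F Q)) (simHom Q g) = 2 := by
  have hn5 : 5 ≤ Fintype.card ι := by omega
  obtain ⟨d, hd⟩ := sq_scalar_of_invol hQ hn5 ho
  obtain ⟨u, hu, hud, hus, hug⟩ := exists_commuting_rot hQ hn h2 hk hd hg
  obtain ⟨ψ, hψ, hψk⟩ := pgo_mod_inn_dihedral hQ hn5 h2 hk hsim hneg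
  have hle : diagSub hQ (by omega) k ≤ Cfsg.pgoAut F Q := by rw [pgoAut_eq]; exact Subgroup.map_le_range _ _
  refine split_four ((inn_le_psoAut hQ hn5 h2).trans (psoAut_le_diagSub hQ hn5 hk)) φ hs hker h4 hle ψ hψ hψk
    (r := DihedralGroup.r 1) (s := DihedralGroup.sr 0) (by decide) (by rw [pgoAut_eq]; exact ⟨g, rfl⟩)
    (diag_cover hQ hn5 h2 hk hg) ⟨simHom Q ⟨u, iso_sim hu⟩, ?_, ?_, ?_⟩
  · exact (mem_diagSub_iff hQ hn5 hk _).2 ((simSign_iso hQ _ k (g := ⟨u, iso_sim hu⟩) hu).2 hud)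
  · rw [← map_mul, ← map_mul]
    congr 1
    exact Subtype.ext hug
  · intro h
    rw [mem_inn_iff hQ hn5 h2 hk hu, hneg, or_self] at h
    exact hus h.2

/-- `k` even, `-1 ∉ Omega`: no commuting element outside `Inn` -/
theorem graph_no_cent (hn : 5 ≤ Fintype.card ι) (h2 : (2 : F) ≠ 0) {k : ℕ} (hk : Fintype.card ι = k + k)
    (hke : Even k) (hneg : spn Q (-1 : GL ι F) ≠ 1) {g : ↥(Sim Q)} (hg : simSign hQ (by omega) k g ≠ 1)
    (ho : orderOf (simHom Q g) = 2) :
    ∀ y ∈ diagSub hQ (by omega) k, simHom Q g * y = y * simHom Q g → y ∈ Cfsg.Inn (Cfsg.POmega F Q) := by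
  rintro _ ⟨h, hh, rfl⟩ hcomm
  have hn1 : 1 ≤ Fintype.card ι := by omega
  rw [← psoAut_eq_inn hQ hn h2 hk hneg, mem_psoAut_iff hQ hn hk]
  refine ⟨?_, hh⟩
  by_contra hns
  obtain ⟨d, hd⟩ := sq_scalar_of_invol hQ hn ho
  obtain ⟨e, he⟩ := eq_scalarSim_of_ker hQ hn (g := (h * g)⁻¹ * (g * h)) (by
    rw [map_mul, map_inv, map_mul, map_mul, hcomm, inv_mul_cancel])
  have hgh : g * h = h * g * scalarSim hQ e := by rw [← he, mul_inv_cancel_left]
  have he2 : (e : F) * e = 1 := by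
    have h' := congrArg (fun x => ((simMult hQ hn1 x : Fˣ) : F)) hgh
    simp only [map_mul, simMult_scalar, Units.val_mul] at h'
    refine mul_left_cancel₀ (mul_ne_zero (simMult hQ hn1 h).ne_zero (simMult hQ hn1 g).ne_zero) ?_
    linear_combination -h'
  obtain ⟨c, hc⟩ : ∃ c, c = simMult hQ hn1 g := ⟨_, rfl⟩
  have hG : ∀ v, Q ((g.1 : Matrix ι ι F) *ᵥ v) = (c : F) * Q v := hc ▸ simMult_spec hQ hn1 g
  have hGG : (g.1 : Matrix ι ι F) * (g.1 : Matrix ι ι F) = (d : F) • 1 := by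
    rw [← scalarSim_coe hQ d, ← hd]; rfl
  have hcd : (c : F) = d ∨ (c : F) = -(d : F) := by
    have h' := congrArg (fun x => ((simMult hQ hn1 x : Fˣ) : F)) hd
    simp only [map_mul, simMult_scalar, ← hc, Units.val_mul] at h'
    exact mul_self_eq_mul_self_iff.1 h'
  rw [Ne, simSign_eq_one_iff, ← hc] at hg
  have hds : IsSquare (d : F) := by
    by_contra hds
    refine hg ?_
    rw [det_of_sq_nonsquare hds hGG hk, hke.neg_pow]
    rcases hcd with h' | h' <;> rw [h']
    rw [hke.neg_pow]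
  obtain ⟨t, ht⟩ := hds
  have ht0 : t ≠ 0 := fun e' => d.ne_zero (by rw [ht, e', mul_zero])
  obtain ⟨-, N, P, hodd, hNn, -, hsum, hPm, hNm⟩ := split_data hQ h2 hk hG hGG ht d.ne_zero hcd hg
  have hghv : ∀ x, (g.1 : Matrix ι ι F) *ᵥ ((h.1 : Matrix ι ι F) *ᵥ x) =
      (e : F) • ((h.1 : Matrix ι ι F) *ᵥ ((g.1 : Matrix ι ι F) *ᵥ x)) := fun x => by
    have h' := congrArg (fun z : ↥(Sim Q) => (z.1 : Matrix ι ι F) *ᵥ x) hgh
    simp only [Subgroup.coe_mul, Units.val_mul, scalarSim_coe, mul_smul_comm, mul_one, smul_mulVec, ← mulVec_mulVec] at h'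
    exact h'
  have hNmem : ∀ x, (g.1 : Matrix ι ι F) *ᵥ x = (-t) • x → x ∈ N := by
    intro x hx
    have htop : x ∈ P ⊔ N := by
      have hdisj : P ⊓ N = ⊥ := (Submodule.eq_bot_iff _).2 fun z hz => by
        have h3 := (hPm z hz.1).symm.trans (hNm z hz.2)
        have h5 : (2 * t) • z = 0 := by linear_combination (norm := module) h3
        exact (smul_eq_zero.1 h5).resolve_left (mul_ne_zero h2 ht0)
      have h6 := Submodule.finrank_sup_add_finrank_inf_eq P N
      rw [hdisj, finrank_bot, add_zero] at h6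
      rw [Submodule.eq_top_of_finrank_eq (S := P ⊔ N) (by rw [Module.finrank_fintype_fun_eq_card, hk, h6, hsum])]
      trivial
    obtain ⟨p, hp, q, hq, rfl⟩ := Submodule.mem_sup.1 htop
    rw [mulVec_add, hPm p hp, hNm q hq] at hx
    have h5 : (2 * t) • p = 0 := by linear_combination (norm := module) hx
    rw [(smul_eq_zero.1 h5).resolve_left (mul_ne_zero h2 ht0), zero_add]
    exact hq
  rcases mul_self_eq_one_iff.1 he2 with h1 | h1
  · -- `h` preserves `N`
    obtain ⟨L, hL⟩ : ∃ L : N →ₗ[F] N, ∀ x : N, (L x : ι → F) = (h.1 : Matrix ι ι F) *ᵥ (x : ι → F) :=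
      ⟨((Matrix.mulVecLin (h.1 : Matrix ι ι F)).restrict (p := N) (q := N) fun x hx => hNmem _ (by
        rw [Matrix.mulVecLin_apply, hghv, h1, one_smul, hNm x hx, mulVec_smul])), fun x => rfl⟩
    obtain ⟨B, hB⟩ : ∃ B : LinearMap.BilinForm F N, ∀ x y : N, B x y = pol Q (x : ι → F) (y : ι → F) :=
      ⟨LinearMap.mk₂ F (fun x y : N => pol Q (x : ι → F) (y : ι → F))
        (fun _ _ _ => padd_left hQ _ _ _) (fun r x y => psmul_left hQ r _ _) (fun _ _ _ => padd_right hQ _ _ _)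
        (fun r x y => psmul_right hQ r _ _), fun _ _ => rfl⟩
    classical
    let b := Module.finBasis F N
    have hBd : (LinearMap.BilinForm.toMatrix b B).det ≠ 0 := by
      refine (LinearMap.BilinForm.nondegenerate_iff_det_ne_zero b).1 ⟨fun x hx => ?_, fun x hx => ?_⟩ <;> by_contra hne
      · obtain ⟨-, y, hy, hy'⟩ := hNn x.1 x.2 fun e' => hne (Subtype.ext e')
        exact hy' ((hB x ⟨y, hy⟩).symm.trans (hx _))
      · obtain ⟨⟨y, hy, hy'⟩, -⟩ := hNn x.1 x.2 fun e' => hne (Subtype.ext e')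
        exact hy' ((hB ⟨y, hy⟩ x).symm.trans (hx _))
    have hcomp : LinearMap.BilinForm.comp B L L = (simMult hQ hn1 h : F) • B := by
      refine LinearMap.ext₂ fun x y => ?_
      show B (L x) (L y) = (simMult hQ hn1 h : F) * B x y
      rw [hB, hB, hL, hL]
      simp only [QuadraticMap.polar, ← mulVec_add, simMult_spec hQ hn1 h]
      ring
    have h7 := congrArg (fun M => (LinearMap.BilinForm.toMatrix b M).det) hcomp
    simp only [LinearMap.BilinForm.toMatrix_comp b b, map_smul, Matrix.det_mul, Matrix.det_transpose, Matrix.det_smul,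
      Fintype.card_fin] at h7
    have h8 := mul_right_cancel₀ hBd (show LinearMap.det L * LinearMap.det L * (LinearMap.BilinForm.toMatrix b B).det =
      (simMult hQ hn1 h : F) ^ Module.finrank F N * (LinearMap.BilinForm.toMatrix b B).det by
      rw [← LinearMap.det_toMatrix b]; linear_combination h7)
    obtain ⟨j, hj⟩ := hodd
    rw [hj, pow_succ, pow_mul] at h8
    exact hns ⟨LinearMap.det L / (simMult hQ hn1 h : F) ^ j, by field_simp; linear_combination -h8⟩
  · -- `h` exchanges the eigenspaces, so they have equal dimension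
    have hinj : Function.Injective (Matrix.mulVecLin (h.1 : Matrix ι ι F)) :=
      Matrix.mulVec_injective_iff_isUnit.2 h.1.isUnit
    have hle1 : P.map (Matrix.mulVecLin (h.1 : Matrix ι ι F)) ≤ N := by
      rintro _ ⟨x, hx, rfl⟩
      refine hNmem _ ?_
      rw [Matrix.mulVecLin_apply, hghv, h1, hPm x hx, mulVec_smul, smul_smul, neg_one_mul]
    have hle2 : N.map (Matrix.mulVecLin (h.1 : Matrix ι ι F)) ⊓ N = ⊥ := (Submodule.eq_bot_iff _).2 fun z hz => by
      obtain ⟨x, hx, rfl⟩ := hz.1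
      have h3 := hNm _ hz.2
      rw [Matrix.mulVecLin_apply, hghv, h1, hNm x hx, mulVec_smul, smul_smul, neg_one_mul, neg_neg] at h3
      have h5 : (2 * t) • ((h.1 : Matrix ι ι F) *ᵥ x) = 0 := by linear_combination (norm := module) h3
      rw [Matrix.mulVecLin_apply]
      exact (smul_eq_zero.1 h5).resolve_left (mul_ne_zero h2 ht0)
    have k1 := Submodule.finrank_mono hle1
    have k2 := Submodule.finrank_sup_add_finrank_inf_eq (N.map (Matrix.mulVecLin (h.1 : Matrix ι ι F))) N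
    rw [hle2, finrank_bot, add_zero] at k2
    have k3 := Submodule.finrank_le (N.map (Matrix.mulVecLin (h.1 : Matrix ι ι F)) ⊔ N)
    rw [← (Submodule.equivMapOfInjective _ hinj P).finrank_eq] at k1
    rw [← (Submodule.equivMapOfInjective _ hinj N).finrank_eq] at k2
    rw [Module.finrank_fintype_fun_eq_card] at k3
    exact Nat.not_even_iff_odd.2 hodd ((show Module.finrank F N = k by omega) ▸ hke)

end CfsgLib.Orth
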