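import Cfsg.Agent.Lib.Orth.PGOStruct
import Cfsg.Agent.Lib.Orth.DetInvol

/-!
# Similarities with scalar square outside `Inndiag`: a commuting rotation
-/

set_option autoImplicit false
set_option linter.all false

namespace CfsgLib.Orth

open scoped Matrix
open Matrix Cfsg.Geo CfsgLib.Perm.Asch CfsgLib.Perm.Trans CfsgLib.Perm.Trans.Quad

variable {ι : Type} [Fintype ι] [DecidableEq ι] {F : Type*} [Field F] [Fintype F]
variable {Q : (ι → F) → F}

local notation "pol" => QuadraticMap.polar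
local notation "Sim" => Cfsg.Geo.quadSimilarityGroup (F := F)

variable (hQ : IsNondegenerateQuadraticForm Q)
include hQ

/-- the multiplier and square of such a similarity agree; split case: eigenspaces -/
theorem split_data (h2 : (2 : F) ≠ 0) {k : ℕ} (hk : Fintype.card ι = k + k) {G : Matrix ι ι F} {c d t : F}
    (hG : ∀ v, Q (G *ᵥ v) = c * Q v) (hGG : G * G = d • 1) (ht : d = t * t) (hd0 : d ≠ 0) (hcd : c = d ∨ c = -d)
    (hsign : G.det ≠ c ^ k) :
    c = d ∧ ∃ N P : Submodule F (ι → F), Odd (Module.finrank F N) ∧ NdOn Q N ∧ NdOn Q P ∧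
      Module.finrank F P + Module.finrank F N = k + k ∧
      (∀ x ∈ P, G *ᵥ x = t • x) ∧ ∀ x ∈ N, G *ᵥ x = (-t) • x := by
  have ht0 : t ≠ 0 := fun e => hd0 (by rw [ht, e, mul_zero])
  obtain ⟨H, hH⟩ : ∃ H : Matrix ι ι F, H = t⁻¹ • G := ⟨_, rfl⟩
  have hHH : H * H = 1 := by
    rw [hH, smul_mul_assoc, mul_smul_comm, hGG, smul_smul, smul_smul, ht]
    rw [show t⁻¹ * t⁻¹ * (t * t) = 1 by field_simp, one_smul]
  obtain ⟨hdet, hcompl⟩ := det_invol h2 hHH
  obtain ⟨P, hP⟩ : ∃ P, P = LinearMap.ker (Matrix.mulVecLin H - 1) := ⟨_, rfl⟩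
  obtain ⟨N, hN⟩ : ∃ N, N = LinearMap.ker (Matrix.mulVecLin H + 1) := ⟨_, rfl⟩
  rw [← hP, ← hN] at hcompl
  rw [← hN] at hdet
  have hPm : ∀ x, x ∈ P → G *ᵥ x = t • x := fun x hx => by
    rw [hP, LinearMap.mem_ker] at hx
    simp [sub_eq_zero, hH, smul_mulVec] at hx
    exact (inv_smul_eq_iff₀ ht0).1 hx
  have hNm : ∀ x, x ∈ N → G *ᵥ x = (-t) • x := fun x hx => by
    rw [hN, LinearMap.mem_ker] at hx
    simp [add_eq_zero_iff_eq_neg, hH, smul_mulVec] at hx
    rw [(inv_smul_eq_iff₀ ht0).1 hx, smul_neg, neg_smul]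
  have hdim : Module.finrank F P + Module.finrank F N = k + k := by
    rw [Submodule.finrank_add_eq_of_isCompl hcompl, Module.finrank_fintype_fun_eq_card, hk]
  have hGd : G.det = d ^ k * (-1) ^ Module.finrank F N := by
    have : G = t • H := by rw [hH, smul_inv_smul₀ ht0]
    rw [this, Matrix.det_smul, hdet, hk, ht, mul_pow, pow_add]
  rcases hcd with rfl | rfl
  · have hodd : Odd (Module.finrank F N) := by
      by_contra h
      exact hsign (by rw [hGd, (Nat.not_odd_iff_even.1 h).neg_one_pow, mul_one])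
    have hperp : ∀ p ∈ P, ∀ q ∈ N, pol Q p q = 0 := fun p hp q hq => by
      have h1 := sim_polar'' hG p q
      rw [hPm p hp, hNm q hq, psmul_left hQ, psmul_right hQ] at h1
      have h3 : (2 * c) * pol Q p q = 0 := by rw [ht] at h1 ⊢; linear_combination -h1
      exact (mul_eq_zero.1 h3).resolve_left (mul_ne_zero h2 hd0)
    have hnd : ∀ A B : Submodule F (ι → F), IsCompl A B → (∀ a ∈ A, ∀ b ∈ B, pol Q a b = 0) → NdOn Q A := by
      intro A B hAB hp v hv hv0
      obtain ⟨-, y, hy⟩ := hQ.nondegenerate v hv0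
      obtain ⟨a, ha, b, hb, hyab⟩ := Submodule.mem_sup.1 (hAB.sup_eq_top.symm ▸ Submodule.mem_top (x := y))
      have h' : pol Q v a ≠ 0 := by
        rw [← hyab, padd_right hQ, hp v hv b hb, add_zero] at hy; exact hy
      exact ⟨⟨a, ha, by rwa [pcomm]⟩, a, ha, h'⟩
    exact ⟨rfl, N, P, hodd, hnd N P hcompl.symm (fun a ha b hb => by rw [pcomm]; exact hperp b hb a ha),
      hnd P N hcompl hperp, hdim, hPm, hNm⟩
  · exfalso
    have hts : ∀ (S : Submodule F (ι → F)) (s : F), s * s = d → (∀ x ∈ S, G *ᵥ x = s • x) →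
        2 * Module.finrank F S ≤ Fintype.card ι := by
      intro S s hs hS
      have hle : S ≤ qperp hQ S := fun x hx y hy => by
        have h1 := sim_polar'' hG x y
        rw [hS x hx, hS y hy, psmul_left hQ, psmul_right hQ] at h1
        have h3 : (2 * d) * pol Q x y = 0 := by linear_combination h1 - hs * pol Q x y
        exact (mul_eq_zero.1 h3).resolve_left (mul_ne_zero h2 hd0)
      have h1 := Submodule.finrank_mono hle
      have h2' := finrank_qperp_le hQ S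
      omega
    have h1 := hts P t ht.symm hPm
    have h1' := hts N (-t) (by rw [ht]; ring) hNm
    have hNk : Module.finrank F N = k := by omega
    exact hsign (by rw [hGd, hNk, neg_pow d k, mul_comm])
where
  sim_polar'' {G : Matrix ι ι F} {c : F} (hG : ∀ v, Q (G *ᵥ v) = c * Q v) (x y : ι → F) :
      pol Q (G *ᵥ x) (G *ᵥ y) = c * pol Q x y := by
    simp only [QuadraticMap.polar, ← mulVec_add, hG]
    ring

/-- non-split case: a vector orthogonal to its image -/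
theorem exists_orth_image (h2 : (2 : F) ≠ 0) (hn : 6 ≤ Fintype.card ι) {G : Matrix ι ι F} {d : F}
    (hd : ¬ IsSquare d) (hG : ∀ v, Q (G *ᵥ v) = d * Q v) (hGG : G * G = d • 1) :
    ∃ v, Q v ≠ 0 ∧ pol Q v (G *ᵥ v) = 0 := by
  have hd0 : d ≠ 0 := fun e => hd (e ▸ IsSquare.zero)
  have hGv : ∀ x, G *ᵥ (G *ᵥ x) = d • x := fun x => by rw [mulVec_mulVec, hGG, smul_mulVec, one_mulVec]
  have hsym : ∀ x y, pol Q (G *ᵥ x) y = pol Q x (G *ᵥ y) := fun x y => by
    refine mul_left_cancel₀ hd0 ?_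
    have h1 : pol Q (G *ᵥ (G *ᵥ x)) (G *ᵥ y) = d * pol Q (G *ᵥ x) y := by
      simp only [QuadraticMap.polar, ← mulVec_add, hG]; ring
    rw [hGv, psmul_left hQ] at h1
    exact h1.symm
  obtain ⟨T, hT⟩ : ∃ T : (ι → F) → F, T = fun v => 2⁻¹ * pol Q v (G *ᵥ v) := ⟨_, rfl⟩
  have hTp : ∀ x y, pol T x y = pol Q x (G *ᵥ y) := fun x y => by
    have e : pol T x y = 2⁻¹ * (pol Q x (G *ᵥ y) + pol Q y (G *ᵥ x)) := by
      simp only [hT]
      rw [QuadraticMap.polar, mulVec_add, padd_left hQ, padd_right hQ, padd_right hQ]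
      ring
    rw [e, pcomm y (G *ᵥ x), hsym, ← two_mul, inv_mul_cancel_left₀ h2]
  have hTn : IsNondegenerateQuadraticForm T := by
    refine ⟨fun r x => by simp only [hT, mulVec_smul, psmul_left hQ, psmul_right hQ]; ring, ?_, fun v hv => ?_⟩
    · constructor <;> intros <;> simp only [hTp, mulVec_add, mulVec_smul, padd_left hQ, padd_right hQ, psmul_left hQ,
        psmul_right hQ]
    · obtain ⟨-, y, hy⟩ := hQ.nondegenerate v hv
      have h' : pol T v (G *ᵥ (d⁻¹ • y)) ≠ 0 := by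
        rw [hTp, hGv, smul_smul, mul_inv_cancel₀ hd0, one_smul]; exact hy
      exact ⟨⟨_, by rwa [pcomm]⟩, _, h'⟩
  by_contra hcon
  push Not at hcon
  have hQ0 : ∀ v, T v = 0 → Q v = 0 := fun v hv => by
    by_contra hne
    refine hcon v hne ?_
    rw [hT] at hv
    exact (mul_eq_zero.1 hv).resolve_left (inv_ne_zero h2)
  obtain ⟨e, -, he0, hTe⟩ := exists_qsingular hTn (ndOn_top hTn) (by
    rw [finrank_top, Module.finrank_fintype_fun_eq_card]; omega)
  obtain ⟨f, -, hTf, hef⟩ := exists_qpartner hTn (ndOn_top hTn) Submodule.mem_top he0 hTe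
  obtain ⟨P, hP⟩ : ∃ P, P = pairPerp hTn ⊤ e f := ⟨_, rfl⟩
  have hdim := pair_finrank hTn (P := ⊤) (e := e) (f := f) Submodule.mem_top Submodule.mem_top hTe hTf hef
  rw [finrank_top, Module.finrank_fintype_fun_eq_card, ← hP] at hdim
  obtain ⟨lam, hlam⟩ : ∃ lam, lam = pol Q e f := ⟨_, rfl⟩
  have hQz : ∀ z ∈ P, Q z = lam * T z := fun z hz => by
    obtain ⟨hze, hzf⟩ := ((mem_pairPerp hTn).1 (hP ▸ hz)).2
    have hx : ∀ r : F, T (e + r • z + (-(r ^ 2 * T z)) • f) = 0 := fun r => by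
      rw [qadd hTn, qadd hTn, qsmul hTn, qsmul hTn, hTe, hTf, padd_left hTn, psmul_right hTn, psmul_right hTn,
        psmul_right hTn, psmul_left hTn, pcomm e z, hze, hzf, hef]
      ring
    have hq : ∀ r : F, r ^ 2 * Q z + r * pol Q e z - r ^ 2 * T z * lam - r ^ 3 * T z * pol Q z f = 0 := fun r => by
      have h := hQ0 _ (hx r)
      rw [qadd hQ, qadd hQ, qsmul hQ, qsmul hQ, hQ0 e hTe, hQ0 f hTf, padd_left hQ, psmul_right hQ, psmul_right hQ,
        psmul_right hQ, psmul_left hQ, ← hlam] at h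
      linear_combination h
    refine mul_left_cancel₀ h2 ?_
    linear_combination hq 1 + hq (-1)
  have hker : ∀ z ∈ P, ∀ w ∈ P, pol Q z (w - lam • G *ᵥ w) = 0 := fun z hz w hw => by
    rw [psub_right hQ, psmul_right hQ, ← hTp, QuadraticMap.polar, QuadraticMap.polar, hQz _ (P.add_mem hz hw),
      hQz z hz, hQz w hw]
    ring
  obtain ⟨L, hL⟩ : ∃ L : (ι → F) →ₗ[F] (ι → F), L = 1 - lam • Matrix.mulVecLin G := ⟨_, rfl⟩
  have hLa : ∀ w, L w = w - lam • G *ᵥ w := fun w => by rw [hL]; simp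
  have hinj : Function.Injective L := by
    refine (injective_iff_map_eq_zero L).2 fun w hw => ?_
    rw [hLa, sub_eq_zero] at hw
    by_contra hw0
    have h3 : w = (lam * lam * d) • w := by
      conv_lhs => rw [hw, hw, mulVec_smul, hGv]
      rw [smul_smul, smul_smul, mul_assoc]
    have h4 : lam * lam * d = 1 := by
      by_contra hne
      have : (1 - lam * lam * d) • w = 0 := by rw [sub_smul, one_smul, ← h3, sub_self]
      exact hne (sub_eq_zero.1 ((smul_eq_zero.1 this).resolve_right hw0)).symm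
    have hl0 : lam ≠ 0 := fun e => by rw [e, zero_mul, zero_mul] at h4; exact zero_ne_one h4
    exact hd ⟨lam⁻¹, by field_simp; linear_combination h4⟩
  have hmap : P.map L ≤ qperp hQ P := by
    rintro _ ⟨w, hw, rfl⟩ z hz
    rw [hLa]
    first
      | exact hker z hz w hw
      | (rw [pcomm]; exact hker z hz w hw)
  have h1 := Submodule.finrank_mono hmap
  rw [← (Submodule.equivMapOfInjective L hinj P).finrank_eq] at h1
  have h3 := finrank_qperp_le hQ P
  omega

/-- a rotation with non-trivial spinor norm commuting with such a similarity -/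
theorem exists_commuting_rot (hn : 6 ≤ Fintype.card ι) (h2 : (2 : F) ≠ 0) {k : ℕ} (hk : Fintype.card ι = k + k)
    {g : ↥(Sim Q)} {d : Fˣ} (hgg : g * g = scalarSim hQ d) (hsign : simSign hQ (by omega) k g ≠ 1) :
    ∃ u ∈ Cfsg.isometryGroup F Q, (u : Matrix ι ι F).det = 1 ∧ spn Q u ≠ 1 ∧ g.1 * u = u * g.1 := by
  have hn1 : 1 ≤ Fintype.card ι := by omega
  have hex : Fintype.card F ≠ 2 ∨ Fintype.card ι ≠ 4 := hex_of_two h2
  obtain ⟨c, hc⟩ : ∃ c, c = simMult hQ hn1 g := ⟨_, rfl⟩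
  have hG : ∀ v, Q ((g.1 : Matrix ι ι F) *ᵥ v) = (c : F) * Q v := hc ▸ simMult_spec hQ hn1 g
  have hGG : (g.1 : Matrix ι ι F) * (g.1 : Matrix ι ι F) = (d : F) • 1 := by
    rw [← scalarSim_coe hQ d, ← hgg]; rfl
  have hcd : (c : F) = d ∨ (c : F) = -(d : F) := by
    have h := congrArg (fun x => ((simMult hQ hn1 x : Fˣ) : F)) hgg
    simp only [map_mul, simMult_scalar, ← hc, Units.val_mul] at h
    exact mul_self_eq_mul_self_iff.1 h
  rw [Ne, simSign_eq_one_iff, ← hc] at hsign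
  have hconj : ∀ {r : GL ι F} {v : ι → F}, IsRefl Q v r → IsRefl Q ((g.1 : Matrix ι ι F) *ᵥ v) (g.1 * r * g.1⁻¹) :=
    fun hrv => refl_conj_sim hQ hG c.ne_zero hrv
  by_cases hds : IsSquare (d : F)
  · obtain ⟨t, ht⟩ := hds
    have ht0 : t ≠ 0 := fun e => d.ne_zero (by rw [ht, e, mul_zero])
    obtain ⟨-, N, P, -, hNn, hPn, hsum, hPm, hNm⟩ := split_data hQ h2 hk hG hGG ht d.ne_zero hcd hsign
    obtain ⟨W, s, hs, hW3, hWn, hWs⟩ : ∃ (W : Submodule F (ι → F)) (s : F), s ≠ 0 ∧ 3 ≤ Module.finrank F W ∧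
        NdOn Q W ∧ ∀ x ∈ W, (g.1 : Matrix ι ι F) *ᵥ x = s • x := by
      by_cases h3 : 3 ≤ Module.finrank F P
      · exact ⟨P, t, ht0, h3, hPn, hPm⟩
      · exact ⟨N, -t, neg_ne_zero.2 ht0, by omega, hNn, hNm⟩
    obtain ⟨e, he⟩ := exists_nonsquare_unit (F := F) h2
    obtain ⟨a, haW, ha⟩ := exists_qvalue hQ hWn hW3 1
    obtain ⟨b, hbW, hb⟩ := exists_qvalue hQ hWn hW3 (e : F)
    have ha0 : Q a ≠ 0 := by rw [ha]; exact one_ne_zero
    have hb0 : Q b ≠ 0 := by rw [hb]; exact e.ne_zero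
    obtain ⟨r, hr, hrv⟩ := exists_refl hQ ha0
    obtain ⟨r', hr', hrv'⟩ := exists_refl hQ hb0
    obtain ⟨e1, e2⟩ := refl_spn hQ hr hrv ha0
    obtain ⟨f1, f2⟩ := refl_spn hQ hr' hrv' hb0
    obtain ⟨p, q⟩ := spn_mul hQ (iso_le_reflGroup hQ hex hr) hr'
    refine ⟨r * r', mul_mem hr hr', (det_eq_one_iff hQ h2 (mul_mem hr hr')).2 (q.2 (by rw [e1, f1])), ?_, ?_⟩
    · rw [p, e2, f2, ha, hb, sqc_one, one_mul, Ne, sqc_eq_one_iff e.ne_zero]; exact he
    · have k1 := hconj hrv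
      have k2 := hconj hrv'
      rw [hWs a haW] at k1
      rw [hWs b hbW] at k2
      have j1 := mul_inv_eq_iff_eq_mul.1 (k1.unique (hrv.smul hQ hs))
      have j2 := mul_inv_eq_iff_eq_mul.1 (k2.unique (hrv'.smul hQ hs))
      rw [← mul_assoc, j1, mul_assoc, j2, mul_assoc]
  · have hcd' : (c : F) = d := by
      rcases hcd with h | h
      · exact h
      · exact absurd (by rw [det_of_sq_nonsquare hds hGG hk, h]) hsign
    rw [hcd'] at hG
    obtain ⟨v, hv, hvw⟩ := exists_orth_image hQ h2 hn hds hG hGG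
    obtain ⟨w, hw⟩ : ∃ w, w = (g.1 : Matrix ι ι F) *ᵥ v := ⟨_, rfl⟩
    rw [← hw] at hvw
    have hQw : Q w = (d : F) * Q v := by rw [hw, hG]
    have hw0 : Q w ≠ 0 := by rw [hQw]; exact mul_ne_zero d.ne_zero hv
    obtain ⟨r, hr, hrv⟩ := exists_refl hQ hv
    obtain ⟨r', hr', hrv'⟩ := exists_refl hQ hw0
    obtain ⟨e1, e2⟩ := refl_spn hQ hr hrv hv
    obtain ⟨f1, f2⟩ := refl_spn hQ hr' hrv' hw0
    obtain ⟨p, q⟩ := spn_mul hQ (iso_le_reflGroup hQ hex hr) hr'
    refine ⟨r * r', mul_mem hr hr', (det_eq_one_iff hQ h2 (mul_mem hr hr')).2 (q.2 (by rw [e1, f1])), ?_, ?_⟩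
    · rw [p, e2, f2, hQw, mul_comm (d : F), sqc_mul hv d.ne_zero, ← mul_assoc, sqc_mul_self hv, one_mul, Ne,
        sqc_eq_one_iff d.ne_zero]
      exact hds
    · have k1 := hconj hrv
      rw [← hw] at k1
      have j1 : g.1 * r = r' * g.1 := mul_inv_eq_iff_eq_mul.1 (k1.unique hrv')
      have k2 := hconj hrv'
      have hgw : (g.1 : Matrix ι ι F) *ᵥ w = (d : F) • v := by rw [hw, mulVec_mulVec, hGG, smul_mulVec, one_mulVec]
      rw [hgw] at k2
      have j2 : g.1 * r' = r * g.1 := mul_inv_eq_iff_eq_mul.1 (k2.unique (hrv.smul hQ d.ne_zero))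
      have hfix : (r : Matrix ι ι F) *ᵥ w = w := by
        rw [hrv, pcomm w v, hvw, mul_zero, zero_smul, sub_zero]
      have k3 := hrv'.conj hr
      rw [hfix] at k3
      have hcomm : r' * r = r * r' := (mul_inv_eq_iff_eq_mul.1 (k3.unique hrv')).symm
      rw [← mul_assoc, j1, mul_assoc, j2, ← mul_assoc, hcomm]

end CfsgLib.Orth
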