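import Cfsg.Agent.Lib.Orth.PGO

/-!
# The quotients `PGO/PSO`, `PSO/Inn`, `PGO/Inn`, `Inndiag/Inn`
-/

set_option autoImplicit false
set_option linter.all false

namespace CfsgLib.Orth

open scoped Matrix
open Matrix Cfsg.Geo CfsgLib.Perm.Asch CfsgLib.Perm.Trans CfsgLib.Perm.Trans.Quad

variable {ι : Type} [Fintype ι] [DecidableEq ι] {F : Type*} [Field F] [Fintype F]
variable {Q : (ι → F) → F}

local notation "pol" => QuadraticMap.polar
local notation "Sim" => Cfsg.Geo.quadSimilarityGroup (F := F)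

theorem sq_sqclass_eq_one (x : SqClass F) : x * x = 1 := by
  obtain ⟨u, rfl⟩ := QuotientGroup.mk'_surjective _ x
  show sqMk F u * sqMk F u = 1
  rw [← map_mul, sqMk_eq_one_iff]
  exact ⟨u, by rw [powMonoidHom_apply, sq]⟩

theorem sqclass_cases (h2 : (2 : F) ≠ 0) {s : SqClass F} (hs : s ≠ 1) (x : SqClass F) : x = 1 ∨ x = s := by
  haveI : Finite (SqClass F) := Nat.finite_of_card_ne_zero (by rw [card_sqClass_odd h2]; omega)
  classical
  haveI := Fintype.ofFinite (SqClass F)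
  have hc : ({1, s} : Finset (SqClass F)).card = 2 := Finset.card_pair (Ne.symm hs)
  have := (Finset.eq_univ_of_card _ (by rw [hc, ← Nat.card_eq_fintype_card, card_sqClass_odd h2])).symm ▸
    Finset.mem_univ x
  simpa using this

theorem sqMk_eq_one_iff' (u : Fˣ) : sqMk F u = 1 ↔ IsSquare (u : F) := by
  rw [← sqc_eq_one_iff u.ne_zero, sqc, dif_neg u.ne_zero, Units.mk0_val]

theorem exists_nonsquare_unit (h2 : (2 : F) ≠ 0) : ∃ c : Fˣ, ¬ IsSquare (c : F) := by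
  obtain ⟨δ, hδ⟩ := FiniteField.exists_nonsquare (F := F) (fun h => h2 (by
    haveI := ringChar.charP F
    haveI : CharP F 2 := CharP.congr (ringChar F) h
    exact CharTwo.two_eq_zero))
  exact ⟨Units.mk0 δ (fun e => hδ (e ▸ IsSquare.zero)), hδ⟩

omit [Fintype F] in
theorem neg_one_iso (hQ : IsNondegenerateQuadraticForm Q) : (-1 : GL ι F) ∈ Cfsg.isometryGroup F Q :=
  mem_iso.2 fun x => by rw [Units.val_neg, Units.val_one, neg_mulVec, one_mulVec, ← neg_one_smul F x, qsmul hQ]; ring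

variable (hQ : IsNondegenerateQuadraticForm Q)
include hQ

theorem det_neg_one {k : ℕ} (hk : Fintype.card ι = k + k) : ((-1 : GL ι F) : Matrix ι ι F).det = 1 := by
  rw [Units.val_neg, Units.val_one, Matrix.det_neg, Matrix.det_one, mul_one, hk, Even.neg_one_pow ⟨k, rfl⟩]

theorem mem_omega_det (hn : 5 ≤ Fintype.card ι) (h2 : (2 : F) ≠ 0) {u : GL ι F} (hu : u ∈ Cfsg.isometryGroup F Q) :
    (⟨u, hu⟩ : ↥(Cfsg.isometryGroup F Q)) ∈ Cfsg.Omega F Q ↔ spn Q u = 1 ∧ (u : Matrix ι ι F).det = 1 := by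
  rw [mem_omega_iff hQ (by omega) (hex_of_two h2), ← det_eq_one_iff hQ h2 hu]

/-- the inner automorphisms among those induced by isometries -/
theorem mem_inn_iff (hn : 5 ≤ Fintype.card ι) (h2 : (2 : F) ≠ 0) {k : ℕ} (hk : Fintype.card ι = k + k) {u : GL ι F}
    (hu : u ∈ Cfsg.isometryGroup F Q) :
    simHom Q ⟨u, iso_sim hu⟩ ∈ Cfsg.Inn (Cfsg.POmega F Q) ↔
      (u : Matrix ι ι F).det = 1 ∧ (spn Q u = 1 ∨ spn Q u = spn Q (-1 : GL ι F)) := by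
  have hex : Fintype.card F ≠ 2 ∨ Fintype.card ι ≠ 4 := hex_of_two h2
  have hn1 : 1 ≤ Fintype.card ι := by omega
  rw [inn_eq]
  constructor
  · rintro ⟨w, ⟨w0, hw0, hww⟩, he⟩
    obtain ⟨c, hc⟩ := eq_scalarSim_of_ker hQ hn (g := w⁻¹ * ⟨u, iso_sim hu⟩) (by
      rw [map_mul, map_inv, he, inv_mul_cancel])
    have hue : (⟨u, iso_sim hu⟩ : ↥(Sim Q)) = w * scalarSim hQ c := by rw [← hc, mul_inv_cancel_left]
    have hwi : (w : GL ι F) ∈ Cfsg.isometryGroup F Q := by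
      rw [show (w : GL ι F) = w0.1 from hww.symm]; exact w0.2
    have hm := congrArg (simMult hQ hn1) hue
    rw [map_mul, (simMult_eq_one_iff hQ hn1 w).2 hwi, (simMult_eq_one_iff hQ hn1 _).2 hu, simMult_scalar, one_mul] at hm
    have hc2 : (c : F) * (c : F) = 1 := by rw [← Units.val_mul, ← hm, Units.val_one]
    have hwo := (mem_omega_det hQ hn h2 w0.2).1 hw0
    have hwg : (w : GL ι F) = w0.1 := hww.symm
    have hu2 : u = w0.1 * (scalarSim hQ c).1 := hwg ▸ congrArg Subtype.val hue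
    rcases mul_self_eq_one_iff.1 hc2 with h | h
    · have e : (scalarSim hQ c).1 = 1 := Units.ext (by rw [scalarSim_coe, h, one_smul, Units.val_one])
      rw [hu2, e, mul_one]
      exact ⟨hwo.2, Or.inl hwo.1⟩
    · have e : (scalarSim hQ c).1 = -1 := Units.ext (by rw [scalarSim_coe, h, neg_one_smul, Units.val_neg, Units.val_one])
      rw [hu2, e]
      refine ⟨by rw [Units.val_mul, Matrix.det_mul, hwo.2, det_neg_one hQ hk, one_mul], Or.inr ?_⟩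
      rw [(spn_mul hQ (iso_le_reflGroup hQ hex w0.2) (neg_one_iso hQ)).1, hwo.1, one_mul]
  · rintro ⟨hd, hs | hs⟩
    · exact ⟨⟨u, iso_sim hu⟩, ⟨⟨u, hu⟩, (mem_omega_det hQ hn h2 hu).2 ⟨hs, hd⟩, rfl⟩, rfl⟩
    · have hum : -1 * u ∈ Cfsg.isometryGroup F Q := mul_mem (neg_one_iso hQ) hu
      refine ⟨⟨-1 * u, iso_sim hum⟩, ⟨⟨-1 * u, hum⟩, (mem_omega_det hQ hn h2 hum).2 ⟨?_, ?_⟩, rfl⟩, ?_⟩
      · rw [(spn_mul hQ (iso_le_reflGroup hQ hex (neg_one_iso hQ)) hu).1, hs, sq_sqclass_eq_one]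
      · rw [Units.val_mul, Matrix.det_mul, hd, det_neg_one hQ hk, one_mul]
      · rw [show (⟨-1 * u, iso_sim hum⟩ : ↥(Sim Q)) = ⟨-1, iso_sim (neg_one_iso hQ)⟩ * ⟨u, iso_sim hu⟩ from rfl,
          map_mul, show simHom Q ⟨-1, iso_sim (neg_one_iso hQ)⟩ = 1 from
            (simHom_ker hQ hn _).2 ⟨-1, by rw [neg_one_smul, Units.val_neg, Units.val_one]⟩, one_mul]

theorem inn_le_psoAut (hn : 5 ≤ Fintype.card ι) (h2 : (2 : F) ≠ 0) :
    Cfsg.Inn (Cfsg.POmega F Q) ≤ Cfsg.psoAut F Q := by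
  rw [inn_eq, psoAut_eq]
  refine Subgroup.map_mono ?_
  rintro g ⟨s, hs, hsg⟩
  have h := (mem_omega_det hQ hn h2 s.2).1 hs
  have hg : (g : GL ι F) = s.1 := hsg.symm
  refine ⟨?_, (Units.ext ?_ : Matrix.GeneralLinearGroup.det (g : GL ι F) = 1)⟩
  · show (g : GL ι F) ∈ Cfsg.isometryGroup F Q
    rw [hg]; exact s.2
  · rw [hg]; exact h.2

omit [Fintype F] in
theorem psoAut_le_pgoAut : Cfsg.psoAut F Q ≤ Cfsg.pgoAut F Q := by
  rw [psoAut_eq, pgoAut_eq]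
  exact Subgroup.map_le_range _ _

/-- `Inndiag` in the form used below -/
noncomputable def diagSub (hn : 1 ≤ Fintype.card ι) (k : ℕ) : Subgroup (MulAut (Cfsg.POmega F Q)) :=
  (simSign hQ hn k).ker.map (simHom Q)

theorem mem_diagSub_iff (hn : 5 ≤ Fintype.card ι) {k : ℕ} (hk : Fintype.card ι = k + k) (g : ↥(Sim Q)) :
    simHom Q g ∈ diagSub hQ (by omega) k ↔ simSign hQ (by omega) k g = 1 := by
  refine ⟨?_, fun h => ⟨g, h, rfl⟩⟩
  rintro ⟨u, hu, he⟩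
  obtain ⟨c, hc⟩ := eq_scalarSim_of_ker hQ hn (g := u⁻¹ * g) (by rw [map_mul, map_inv, he, inv_mul_cancel])
  rw [show g = u * scalarSim hQ c by rw [← hc, mul_inv_cancel_left], map_mul, simSign_scalar hQ _ hk,
    show simSign hQ _ k u = 1 from hu, one_mul]

theorem psoAut_le_diagSub (hn : 5 ≤ Fintype.card ι) {k : ℕ} (hk : Fintype.card ι = k + k) :
    Cfsg.psoAut F Q ≤ diagSub hQ (by omega) k := by
  intro β hβ
  obtain ⟨g, rfl⟩ : β ∈ (simHom Q).range := by rw [← pgoAut_eq]; exact psoAut_le_pgoAut hQ hβ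
  exact (mem_diagSub_iff hQ hn hk g).2 ((mem_psoAut_iff hQ hn hk g).1 hβ).2

/-- the determinant-one isometry with non-trivial spinor norm -/
theorem exists_rot (hn : 5 ≤ Fintype.card ι) (h2 : (2 : F) ≠ 0) :
    ∃ u ∈ Cfsg.isometryGroup F Q, (u : Matrix ι ι F).det = 1 ∧ spn Q u ≠ 1 := by
  have hex : Fintype.card F ≠ 2 ∨ Fintype.card ι ≠ 4 := hex_of_two h2
  obtain ⟨c, hc⟩ := exists_nonsquare_unit (F := F) h2
  obtain ⟨v, hv⟩ := exists_value hQ h2 (by omega) (1 : F)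
  obtain ⟨w, hw⟩ := exists_value hQ h2 (by omega) (c : F)
  obtain ⟨r, hr, hrv⟩ := exists_refl hQ (show Q v ≠ 0 by rw [hv]; exact one_ne_zero)
  obtain ⟨s, hs, hsw⟩ := exists_refl hQ (show Q w ≠ 0 by rw [hw]; exact c.ne_zero)
  obtain ⟨e1, e2⟩ := refl_spn hQ hr hrv (by rw [hv]; exact one_ne_zero)
  obtain ⟨f1, f2⟩ := refl_spn hQ hs hsw (by rw [hw]; exact c.ne_zero)
  obtain ⟨p, q⟩ := spn_mul hQ (iso_le_reflGroup hQ hex hr) hs
  refine ⟨r * s, mul_mem hr hs, (det_eq_one_iff hQ h2 (mul_mem hr hs)).2 (q.2 (by rw [e1, f1])), ?_⟩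
  rw [p, e2, f2, hv, hw, sqc_one, one_mul, Ne, sqc_eq_one_iff c.ne_zero]
  exact hc

/-- `PSO = Inn` when `-1 ∉ Omega` -/
theorem psoAut_eq_inn (hn : 5 ≤ Fintype.card ι) (h2 : (2 : F) ≠ 0) {k : ℕ} (hk : Fintype.card ι = k + k)
    (hneg : spn Q (-1 : GL ι F) ≠ 1) : Cfsg.psoAut F Q = Cfsg.Inn (Cfsg.POmega F Q) := by
  refine le_antisymm ?_ (inn_le_psoAut hQ hn h2)
  intro β hβ
  rw [psoAut_eq] at hβ
  obtain ⟨u, hu, rfl⟩ := hβ
  exact (mem_inn_iff hQ hn h2 hk (u := u.1) hu.1).2 ⟨congrArg Units.val (hu.2 : Matrix.GeneralLinearGroup.det (u : GL ι F) = 1),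
    sqclass_cases h2 hneg _⟩

theorem relIndex_inn_pso (hn : 5 ≤ Fintype.card ι) (h2 : (2 : F) ≠ 0) {k : ℕ} (hk : Fintype.card ι = k + k)
    (hneg : spn Q (-1 : GL ι F) = 1) :
    (Cfsg.Inn (Cfsg.POmega F Q)).relIndex (Cfsg.psoAut F Q) = 2 := by
  obtain ⟨u, hu, hud, hus⟩ := exists_rot hQ hn h2
  have hup : simHom Q ⟨u, iso_sim hu⟩ ∈ Cfsg.psoAut F Q := by
    rw [psoAut_eq]
    exact ⟨⟨u, iso_sim hu⟩, ⟨hu, (Units.ext hud : Matrix.GeneralLinearGroup.det u = 1)⟩, rfl⟩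
  refine Subgroup.index_eq_two_iff.2 ⟨⟨_, hup⟩, fun x => ?_⟩
  obtain ⟨β, hβ⟩ := x
  have hβ' := hβ
  rw [psoAut_eq] at hβ'
  obtain ⟨w, hw, rfl⟩ := hβ'
  have hwd : ((w : GL ι F) : Matrix ι ι F).det = 1 :=
    congrArg Units.val (hw.2 : Matrix.GeneralLinearGroup.det (w : GL ι F) = 1)
  rw [Subgroup.mem_subgroupOf, Subgroup.mem_subgroupOf]
  show Xor' (simHom Q w * simHom Q ⟨u, iso_sim hu⟩ ∈ Cfsg.Inn (Cfsg.POmega F Q)) (simHom Q w ∈ Cfsg.Inn (Cfsg.POmega F Q))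
  rw [← map_mul]
  have hwi : (w : GL ι F) ∈ Cfsg.isometryGroup F Q := hw.1
  have i1 := mem_inn_iff hQ hn h2 hk (u := w.1) hwi
  have i2 := mem_inn_iff hQ hn h2 hk (u := w.1 * u) (mul_mem hwi hu)
  rw [(spn_mul hQ (iso_le_reflGroup hQ (hex_of_two h2) hwi) hu).1, Units.val_mul, Matrix.det_mul, hwd, hud, hneg] at i2
  rw [hwd, hneg] at i1
  rw [show (w * ⟨u, iso_sim hu⟩ : ↥(Sim Q)) = ⟨w.1 * u, iso_sim (mul_mem hwi hu)⟩ from rfl]
  rw [show w = ⟨w.1, iso_sim hwi⟩ from rfl] at *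
  rw [i1, i2]
  simp only [one_mul, true_and, or_self]
  rcases sqclass_cases h2 hus (spn Q w.1) with h | h
  · exact Or.inr ⟨h, by rw [h, one_mul]; exact hus⟩
  · exact Or.inl ⟨by rw [h, sq_sqclass_eq_one], h ▸ hus⟩

/-- `PGO / PSO` is a four-group -/
theorem pgo_mod_pso (hn : 5 ≤ Fintype.card ι) (h2 : (2 : F) ≠ 0) {k : ℕ} (hk : Fintype.card ι = k + k)
    (hsim : ∀ c : Fˣ, ∃ g : ↥(Sim Q), simMult hQ (by omega) g = c ∧ simSign hQ (by omega) k g = 1) :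
    ∃ φ : ↥(Cfsg.pgoAut F Q) →* Multiplicative (ZMod 2 × ZMod 2),
      Function.Surjective φ ∧ φ.ker = (Cfsg.psoAut F Q).subgroupOf (Cfsg.pgoAut F Q) := by
  have hn1 : 1 ≤ Fintype.card ι := by omega
  have hex : Fintype.card F ≠ 2 ∨ Fintype.card ι ≠ 4 := hex_of_two h2
  obtain ⟨e1⟩ := zmod2_of (card_sqClass_odd (F := F) h2)
  obtain ⟨e2⟩ := zmod2_of (P := ↥(powMonoidHom 2 : Fˣ →* Fˣ).ker) (by rw [← card_sqClass_mul, card_sqClass_odd h2])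
  obtain ⟨f, hf⟩ : ∃ f : ↥(Sim Q) →* SqClass F × ↥(powMonoidHom 2 : Fˣ →* Fˣ).ker,
      ∀ g, f g = (sqMk F (simMult hQ hn1 g), ⟨simSign hQ hn1 k g, MonoidHom.mem_ker.2 (simSign_sq hQ hn1 hk g)⟩) :=
    ⟨((sqMk F).comp (simMult hQ hn1)).prod ((simSign hQ hn1 k).codRestrict _ fun g => MonoidHom.mem_ker.2 (simSign_sq hQ hn1 hk g)), fun g => rfl⟩
  obtain ⟨e, he⟩ : ∃ e : SqClass F × ↥(powMonoidHom 2 : Fˣ →* Fˣ).ker ≃* Multiplicative (ZMod 2 × ZMod 2), True :=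
    ⟨(MulEquiv.prodCongr e1 e2).trans (MulEquiv.prodMultiplicative (ZMod 2) (ZMod 2)).symm, trivial⟩
  have hker : ∀ g, e (f g) = 1 ↔ simHom Q g ∈ Cfsg.psoAut F Q := fun g => by
    rw [MulEquiv.map_eq_one_iff, hf, Prod.mk_eq_one, sqMk_eq_one_iff', mem_psoAut_iff hQ hn hk g, Subgroup.mk_eq_one]
  have hfs : Function.Surjective f := by
    rintro ⟨x, y, hy⟩
    obtain ⟨c, rfl⟩ := QuotientGroup.mk'_surjective _ x
    obtain ⟨g, hg1, hg2⟩ := hsim c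
    rcases (mem_sq_ker y).1 hy with h | h
    · exact ⟨g, by rw [hf, hg1]; refine Prod.ext rfl (Subtype.ext ?_); exact hg2.trans (Units.ext h).symm⟩
    · obtain ⟨v, hv⟩ := exists_value hQ h2 (by omega) (1 : F)
      obtain ⟨r, hr, hrv⟩ := exists_refl hQ (show Q v ≠ 0 by rw [hv]; exact one_ne_zero)
      have hd : (r : Matrix ι ι F).det = -1 := by
        rw [det_eq_neg_one_pow hQ hex hr, (refl_spn hQ hr hrv (by rw [hv]; exact one_ne_zero)).1, pow_one]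
      refine ⟨g * ⟨r, iso_sim hr⟩, ?_⟩
      rw [hf, map_mul, (simMult_eq_one_iff hQ hn1 ⟨r, iso_sim hr⟩).2 hr, mul_one, hg1]
      refine Prod.ext rfl (Subtype.ext ?_)
      show simSign hQ hn1 k (g * ⟨r, iso_sim hr⟩) = y
      rw [map_mul, hg2, one_mul]
      refine Units.ext ?_
      show (r : Matrix ι ι F).det * (((simMult hQ hn1 ⟨r, iso_sim hr⟩ ^ k)⁻¹ : Fˣ) : F) = _
      rw [(simMult_eq_one_iff hQ hn1 ⟨r, iso_sim hr⟩).2 hr, one_pow, inv_one, Units.val_one, mul_one, hd, h]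
  rw [pgoAut_eq]
  obtain ⟨φ, hφ⟩ := exists_descend (simHom Q) (e.toMonoidHom.comp f) (fun g hg => by
    refine (hker g).2 ?_
    rw [MonoidHom.mem_ker.1 hg]
    exact one_mem _)
  refine ⟨φ, fun y => ?_, ?_⟩
  · obtain ⟨g, hg⟩ := (e.surjective.comp hfs) y
    exact ⟨_, (hφ g).trans hg⟩
  · ext ⟨β, g, rfl⟩
    rw [MonoidHom.mem_ker, Subgroup.mem_subgroupOf]
    exact (Eq.congr_left (hφ g)).trans (hker g)

theorem relIndex_pso_pgo (hn : 5 ≤ Fintype.card ι) (h2 : (2 : F) ≠ 0) {k : ℕ} (hk : Fintype.card ι = k + k)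
    (hsim : ∀ c : Fˣ, ∃ g : ↥(Sim Q), simMult hQ (by omega) g = c ∧ simSign hQ (by omega) k g = 1) :
    (Cfsg.psoAut F Q).relIndex (Cfsg.pgoAut F Q) = 4 := by
  obtain ⟨φ, hs, hk'⟩ := pgo_mod_pso hQ hn h2 hk hsim
  rw [Subgroup.relIndex, ← hk', Subgroup.index_ker, MonoidHom.range_eq_top.2 hs, Subgroup.card_top]
  simp

theorem relIndex_pso_diag (hn : 5 ≤ Fintype.card ι) (h2 : (2 : F) ≠ 0) {k : ℕ} (hk : Fintype.card ι = k + k)
    (hsim : ∀ c : Fˣ, ∃ g : ↥(Sim Q), simMult hQ (by omega) g = c ∧ simSign hQ (by omega) k g = 1) :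
    (Cfsg.psoAut F Q).relIndex (diagSub hQ (by omega) k) = 2 := by
  obtain ⟨c, hc⟩ := exists_nonsquare_unit (F := F) h2
  obtain ⟨g, hg1, hg2⟩ := hsim c
  refine Subgroup.index_eq_two_iff.2 ⟨⟨_, (mem_diagSub_iff hQ hn hk g).2 hg2⟩, fun x => ?_⟩
  obtain ⟨β, w, hw, rfl⟩ := x
  rw [Subgroup.mem_subgroupOf, Subgroup.mem_subgroupOf]
  show Xor' (simHom Q w * simHom Q g ∈ Cfsg.psoAut F Q) (simHom Q w ∈ Cfsg.psoAut F Q)
  rw [← map_mul, mem_psoAut_iff hQ hn hk, mem_psoAut_iff hQ hn hk, map_mul, map_mul, hg1, hg2,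
    show simSign hQ _ k w = 1 from hw, ← sqMk_eq_one_iff', ← sqMk_eq_one_iff', map_mul]
  have hc' : sqMk F c ≠ 1 := fun h => hc ((sqMk_eq_one_iff' c).1 h)
  simp only [one_mul, and_true]
  rcases sqclass_cases h2 hc' (sqMk F (simMult hQ (by omega) w)) with h | h
  · exact Or.inr ⟨h, by rw [h, one_mul]; exact hc'⟩
  · exact Or.inl ⟨by rw [h, sq_sqclass_eq_one], h ▸ hc'⟩

/-- conjugating a reflection by a similarity -/
theorem refl_conj_sim {h : GL ι F} {c : F} (hc : ∀ v, Q ((h : Matrix ι ι F) *ᵥ v) = c * Q v) (hc0 : c ≠ 0)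
    {v : ι → F} {r : GL ι F} (hrv : IsRefl Q v r) : IsRefl Q ((h : Matrix ι ι F) *ᵥ v) (h * r * h⁻¹) := fun x => by
  obtain ⟨y, rfl⟩ : ∃ y, (h : Matrix ι ι F) *ᵥ y = x := ⟨_, gl_mulVec_inv h x⟩
  rw [gl_mul_mulVec, gl_mul_mulVec, gl_inv_mulVec, hrv, hc, sim_polar' hc, mulVec_sub, mulVec_smul]
  congr 2
  field_simp
where
  sim_polar' {g : Matrix ι ι F} {c : F} (hg : ∀ v, Q (g *ᵥ v) = c * Q v) {x y : ι → F} :
      pol Q (g *ᵥ x) (g *ᵥ y) = c * pol Q x y := by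
    simp only [QuadraticMap.polar, ← mulVec_add, hg]
    ring

end CfsgLib.Orth
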