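import Cfsg.Agent.Lib.Orth.Centre
import Cfsg.Agent.Lib.Perm.Trans.QuadSiegel
import Cfsg.Prelude.Def_LieTypeDatum
import Cfsg.Prelude.Def_KGroupFacts

/-!
# Automorphisms of `POmega` induced by semisimilarities, and the kernel of that action
-/

set_option autoImplicit false
set_option linter.all false

namespace CfsgLib.Orth

open scoped Matrix
open Matrix Cfsg.Geo CfsgLib.Perm.Asch CfsgLib.Perm.Trans CfsgLib.Perm.Trans.Quad

variable {ι : Type} [Fintype ι] [DecidableEq ι] {F : Type*} [Field F]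
variable {Q : (ι → F) → F}

local notation "pol" => QuadraticMap.polar

/-- the matrix with `σ` applied to the entries -/
def fieldGL (σ : F ≃+* F) : GL ι F →* GL ι F := Matrix.GeneralLinearGroup.map σ.toRingHom

theorem fieldGL_coe (σ : F ≃+* F) (g : GL ι F) : (fieldGL σ g : Matrix ι ι F) = (g : Matrix ι ι F).map σ := rfl

theorem fieldGL_mulVec (σ : F ≃+* F) (g : GL ι F) (v : ι → F) :
    (fieldGL σ g : Matrix ι ι F) *ᵥ (fun i => σ (v i)) = fun i => σ (((g : Matrix ι ι F) *ᵥ v) i) := by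
  funext i
  rw [fieldGL_coe]
  simp [Matrix.mulVec, dotProduct, map_sum, map_mul]

theorem fieldGL_refl (g : GL ι F) : fieldGL (RingEquiv.refl F) g = g := Units.ext (by ext i j; rfl)

theorem fieldGL_trans (σ τ : F ≃+* F) (g : GL ι F) : fieldGL (τ.trans σ) g = fieldGL σ (fieldGL τ g) :=
  Units.ext (by ext i j; rfl)

theorem fieldGL_symm_apply (σ : F ≃+* F) (g : GL ι F) : fieldGL σ (fieldGL σ.symm g) = g :=
  Units.ext (by ext i j; simp [fieldGL_coe])

theorem fieldGL_apply_symm (σ : F ≃+* F) (g : GL ι F) : fieldGL σ.symm (fieldGL σ g) = g :=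
  Units.ext (by ext i j; simp [fieldGL_coe])

/-- the semilinear map `v ↦ g σ(v)` -/
def semi (g : GL ι F) (σ : F ≃+* F) (v : ι → F) : ι → F := (g : Matrix ι ι F) *ᵥ fun i => σ (v i)

theorem semi_add (g : GL ι F) (σ : F ≃+* F) (v w : ι → F) : semi g σ (v + w) = semi g σ v + semi g σ w := by
  unfold semi
  rw [← mulVec_add]
  congr 1
  funext i
  simp

theorem semi_smul (g : GL ι F) (σ : F ≃+* F) (c : F) (v : ι → F) : semi g σ (c • v) = σ c • semi g σ v := by
  unfold semi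
  rw [← mulVec_smul]
  congr 1
  funext i
  simp

theorem semi_surjective (g : GL ι F) (σ : F ≃+* F) : Function.Surjective (semi g σ) := fun x =>
  ⟨fun i => σ.symm ((((g⁻¹ : GL ι F) : Matrix ι ι F) *ᵥ x) i), by
    unfold semi
    simp only [RingEquiv.apply_symm_apply]
    exact gl_mulVec_inv g x⟩

theorem semi_semi (g h : GL ι F) (σ τ : F ≃+* F) (v : ι → F) :
    semi g σ (semi h τ v) = semi (g * fieldGL σ h) (τ.trans σ) v := by
  unfold semi
  rw [gl_mul_mulVec]
  congr 1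
  exact (fieldGL_mulVec σ h fun i => τ (v i)).symm

/-- the matrix of the conjugate of `s` by the semilinear map -/
def semiConj (g : GL ι F) (σ : F ≃+* F) (s : GL ι F) : GL ι F := g * fieldGL σ s * g⁻¹

theorem semiConj_semi (g : GL ι F) (σ : F ≃+* F) (s : GL ι F) (v : ι → F) :
    (semiConj g σ s : Matrix ι ι F) *ᵥ semi g σ v = semi g σ ((s : Matrix ι ι F) *ᵥ v) := by
  unfold semiConj semi
  rw [gl_mul_mulVec, gl_mul_mulVec, gl_inv_mulVec, fieldGL_mulVec]

theorem semiConj_comp (g h : GL ι F) (σ τ : F ≃+* F) (s : GL ι F) :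
    semiConj g σ (semiConj h τ s) = semiConj (g * fieldGL σ h) (τ.trans σ) s := by
  unfold semiConj
  rw [map_mul, map_mul, map_inv, fieldGL_trans]
  group

theorem semiConj_mem {g : GL ι F} {σ : F ≃+* F} (h : Cfsg.IsSemisimilarityPair Q g σ) {s : GL ι F}
    (hs : s ∈ Cfsg.isometryGroup F Q) : semiConj g σ s ∈ Cfsg.isometryGroup F Q := by
  obtain ⟨c, hc⟩ := h
  refine mem_iso.2 fun x => ?_
  obtain ⟨v, rfl⟩ := semi_surjective g σ x
  rw [semiConj_semi]
  show Q ((g : Matrix ι ι F) *ᵥ fun i => σ (((s : Matrix ι ι F) *ᵥ v) i)) = Q ((g : Matrix ι ι F) *ᵥ fun i => σ (v i))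
  rw [hc, hc, mem_iso.1 hs]

/-- the inverse pair -/
theorem semisim_inv {g : GL ι F} {σ : F ≃+* F} (h : Cfsg.IsSemisimilarityPair Q g σ) :
    Cfsg.IsSemisimilarityPair Q (fieldGL σ.symm g⁻¹) σ.symm := by
  obtain ⟨c, hc⟩ := h
  refine ⟨(Units.map σ.symm.toRingHom.toMonoidHom c)⁻¹, fun v => ?_⟩
  obtain ⟨w, hw⟩ := semi_surjective g σ v
  subst hw
  have h1 : (fieldGL σ.symm g⁻¹ : Matrix ι ι F) *ᵥ (fun i => σ.symm (semi g σ w i)) = w := by
    rw [fieldGL_mulVec]
    funext i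
    unfold semi
    rw [Matrix.mulVec_mulVec, ← Units.val_mul, inv_mul_cancel, Units.val_one, one_mulVec]
    exact σ.symm_apply_apply _
  rw [h1, show Q (semi g σ w) = c * σ (Q w) from hc w, map_mul, σ.symm_apply_apply, Units.val_inv_eq_inv_val]
  show Q w = (σ.symm (c : F))⁻¹ * (σ.symm (c : F) * Q w)
  rw [← mul_assoc, inv_mul_cancel₀ (by simp), one_mul]

theorem semiConj_inv_apply (g : GL ι F) (σ : F ≃+* F) (s : GL ι F) :
    semiConj (fieldGL σ.symm g⁻¹) σ.symm (semiConj g σ s) = s := by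
  rw [semiConj_comp]
  unfold semiConj
  rw [← map_mul, inv_mul_cancel, map_one, one_mul, inv_one, mul_one, RingEquiv.self_trans_symm, fieldGL_refl]

theorem semiConj_apply_inv (g : GL ι F) (σ : F ≃+* F) (s : GL ι F) :
    semiConj g σ (semiConj (fieldGL σ.symm g⁻¹) σ.symm s) = s := by
  rw [semiConj_comp]
  unfold semiConj
  rw [fieldGL_symm_apply, mul_inv_cancel, one_mul, inv_one, mul_one, RingEquiv.symm_trans_self, fieldGL_refl]

/-- conjugation by a semisimilarity on the isometry group -/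
def isoAut {g : GL ι F} {σ : F ≃+* F} (h : Cfsg.IsSemisimilarityPair Q g σ) :
    MulAut ↥(Cfsg.isometryGroup F Q) where
  toFun s := ⟨semiConj g σ s.1, semiConj_mem h s.2⟩
  invFun s := ⟨semiConj (fieldGL σ.symm g⁻¹) σ.symm s.1, semiConj_mem (semisim_inv h) s.2⟩
  left_inv s := Subtype.ext (semiConj_inv_apply g σ s.1)
  right_inv s := Subtype.ext (semiConj_apply_inv g σ s.1)
  map_mul' a b := Subtype.ext (by
    show semiConj g σ (a.1 * b.1) = semiConj g σ a.1 * semiConj g σ b.1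
    unfold semiConj
    rw [map_mul]
    group)

/-- restriction to the commutator subgroup -/
def omegaAut {g : GL ι F} {σ : F ≃+* F} (h : Cfsg.IsSemisimilarityPair Q g σ) : MulAut ↥(Cfsg.Omega F Q) where
  toFun s := ⟨isoAut h s.1, by
    have := Subgroup.mem_map_of_mem (isoAut h).toMonoidHom s.2
    rwa [Subgroup.characteristic_iff_map_eq.1 (inferInstanceAs (commutator ↥(Cfsg.isometryGroup F Q)).Characteristic)
      (isoAut h)] at this⟩
  invFun s := ⟨(isoAut h).symm s.1, by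
    have := Subgroup.mem_map_of_mem (isoAut h).symm.toMonoidHom s.2
    rwa [Subgroup.characteristic_iff_map_eq.1 (inferInstanceAs (commutator ↥(Cfsg.isometryGroup F Q)).Characteristic)
      (isoAut h).symm] at this⟩
  left_inv s := Subtype.ext ((isoAut h).symm_apply_apply _)
  right_inv s := Subtype.ext ((isoAut h).apply_symm_apply _)
  map_mul' a b := Subtype.ext (map_mul (isoAut h) _ _)

/-- the automorphism of `POmega` induced by a semisimilarity -/
def ind {g : GL ι F} {σ : F ≃+* F} (h : Cfsg.IsSemisimilarityPair Q g σ) : MulAut (Cfsg.POmega F Q) :=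
  QuotientGroup.congr _ _ (omegaAut h) (Subgroup.characteristic_iff_map_eq.1 inferInstance (omegaAut h))

theorem ind_mk {g : GL ι F} {σ : F ≃+* F} (h : Cfsg.IsSemisimilarityPair Q g σ) (s : Cfsg.Omega F Q) :
    ind h (QuotientGroup.mk s) = QuotientGroup.mk (omegaAut h s) := rfl

theorem omegaAut_val {g : GL ι F} {σ : F ≃+* F} (h : Cfsg.IsSemisimilarityPair Q g σ) (s : Cfsg.Omega F Q) :
    (omegaAut h s).1.1 = semiConj g σ s.1.1 := rfl

theorem ind_isInduced {g : GL ι F} {σ : F ≃+* F} (h : Cfsg.IsSemisimilarityPair Q g σ) :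
    Cfsg.IsInducedBySemilinearPOmega Q g σ (ind h) := fun s s' e =>
  congrArg QuotientGroup.mk (Subtype.ext (Subtype.ext (Units.ext e.symm)))

theorem isInduced_iff {g : GL ι F} {σ : F ≃+* F} (h : Cfsg.IsSemisimilarityPair Q g σ)
    {β : MulAut (Cfsg.POmega F Q)} : Cfsg.IsInducedBySemilinearPOmega Q g σ β ↔ β = ind h := by
  refine ⟨fun hb => MulEquiv.ext fun x => ?_, fun e => e ▸ ind_isInduced h⟩
  obtain ⟨s, rfl⟩ := QuotientGroup.mk'_surjective _ x
  exact hb s (omegaAut h s) rfl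

theorem semisim_one : Cfsg.IsSemisimilarityPair Q (1 : GL ι F) (RingEquiv.refl F) :=
  ⟨1, fun v => by simp⟩

theorem semisim_mul {g h : GL ι F} {σ τ : F ≃+* F} (hg : Cfsg.IsSemisimilarityPair Q g σ)
    (hh : Cfsg.IsSemisimilarityPair Q h τ) : Cfsg.IsSemisimilarityPair Q (g * fieldGL σ h) (τ.trans σ) := by
  obtain ⟨c, hc⟩ := hg
  obtain ⟨d, hd⟩ := hh
  refine ⟨c * Units.map σ.toRingHom.toMonoidHom d, fun v => ?_⟩
  show Q (semi (g * fieldGL σ h) (τ.trans σ) v) = _
  rw [← semi_semi]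
  show Q ((g : Matrix ι ι F) *ᵥ fun i => σ (semi h τ v i)) = _
  rw [hc]
  show (c : F) * σ (Q ((h : Matrix ι ι F) *ᵥ fun i => τ (v i))) = _
  rw [hd, map_mul, ← mul_assoc]
  rfl

theorem ind_congr {g g' : GL ι F} {σ σ' : F ≃+* F} (h : Cfsg.IsSemisimilarityPair Q g σ)
    (h' : Cfsg.IsSemisimilarityPair Q g' σ') (e1 : g = g') (e2 : σ = σ') : ind h = ind h' := by
  subst e1; subst e2; rfl

theorem ind_mul {g g' : GL ι F} {σ τ : F ≃+* F} (hg : Cfsg.IsSemisimilarityPair Q g σ)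
    (hh : Cfsg.IsSemisimilarityPair Q g' τ) : ind hg * ind hh = ind (semisim_mul hg hh) :=
  MulEquiv.ext fun x => by
    obtain ⟨s, rfl⟩ := QuotientGroup.mk'_surjective _ x
    exact congrArg QuotientGroup.mk (Subtype.ext (Subtype.ext (semiConj_comp g g' σ τ s.1.1)))

theorem ind_one : ind (semisim_one (Q := Q)) = 1 :=
  MulEquiv.ext fun x => by
    obtain ⟨s, rfl⟩ := QuotientGroup.mk'_surjective _ x
    refine congrArg QuotientGroup.mk (Subtype.ext (Subtype.ext ?_))
    show semiConj 1 (RingEquiv.refl F) s.1.1 = s.1.1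
    unfold semiConj
    rw [fieldGL_refl, one_mul, inv_one, mul_one]

theorem sim_pair {g : GL ι F} (h : g ∈ Cfsg.Geo.quadSimilarityGroup (F := F) Q) :
    Cfsg.IsSemisimilarityPair Q g (RingEquiv.refl F) := by
  obtain ⟨c, hc⟩ := h
  exact ⟨c, fun v => by simpa using hc v⟩

theorem iso_sim {g : GL ι F} (h : g ∈ Cfsg.isometryGroup F Q) :
    g ∈ Cfsg.Geo.quadSimilarityGroup (F := F) Q := ⟨1, fun v => by rw [Units.val_one, one_mul, mem_iso.1 h]⟩

/-- the action of the similarity group -/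
def simHom (Q : (ι → F) → F) : ↥(Cfsg.Geo.quadSimilarityGroup (F := F) Q) →* MulAut (Cfsg.POmega F Q) where
  toFun g := ind (sim_pair g.2)
  map_one' := (ind_congr (sim_pair (one_mem (Cfsg.Geo.quadSimilarityGroup (F := F) Q)))
    (semisim_one (Q := Q)) rfl rfl).trans ind_one
  map_mul' a b := by
    rw [ind_mul]
    exact ind_congr _ _ (by rw [fieldGL_refl]; rfl) rfl

/-- the similarities inducing an automorphism in a given set -/
theorem isSimilarityInduced_iff {β : MulAut (Cfsg.POmega F Q)} :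
    Cfsg.IsSimilarityInducedAutPOmega Q β ↔ ∃ g, simHom Q g = β := by
  constructor
  · rintro ⟨g, hg, h⟩
    exact ⟨⟨g, hg⟩, ((isInduced_iff (sim_pair hg)).1 h).symm⟩
  · rintro ⟨g, rfl⟩
    exact ⟨g.1, g.2, ind_isInduced (sim_pair g.2)⟩

theorem pgoAut_eq : Cfsg.pgoAut F Q = (simHom Q).range := by
  refine le_antisymm ((Subgroup.closure_le _).2 fun β hβ => ?_) ?_
  · exact isSimilarityInduced_iff.1 hβ
  · rintro _ ⟨g, rfl⟩
    exact Subgroup.subset_closure (isSimilarityInduced_iff.2 ⟨g, rfl⟩)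

theorem psoAut_eq : Cfsg.psoAut F Q =
    ((Cfsg.specialIsometryGL F Q).subgroupOf (Cfsg.Geo.quadSimilarityGroup (F := F) Q)).map (simHom Q) := by
  refine le_antisymm ((Subgroup.closure_le _).2 ?_) ?_
  · rintro β ⟨g, hg, h⟩
    exact ⟨⟨g, iso_sim hg.1⟩, hg, ((isInduced_iff (sim_pair (iso_sim hg.1))).1 h).symm⟩
  · rintro _ ⟨g, hg, rfl⟩
    exact Subgroup.subset_closure ⟨g.1, hg, ind_isInduced (sim_pair g.2)⟩

theorem poAut_eq : Cfsg.poAut F Q =
    ((Cfsg.isometryGroup F Q).subgroupOf (Cfsg.Geo.quadSimilarityGroup (F := F) Q)).map (simHom Q) := by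
  refine le_antisymm ((Subgroup.closure_le _).2 ?_) ?_
  · rintro β ⟨g, hg, h⟩
    exact ⟨⟨g, iso_sim hg⟩, hg, ((isInduced_iff (sim_pair (iso_sim hg))).1 h).symm⟩
  · rintro _ ⟨g, hg, rfl⟩
    exact Subgroup.subset_closure ⟨g.1, hg, ind_isInduced (sim_pair g.2)⟩

theorem inn_eq : Cfsg.Inn (Cfsg.POmega F Q) =
    (((Cfsg.Omega F Q).map (Cfsg.isometryGroup F Q).subtype).subgroupOf
      (Cfsg.Geo.quadSimilarityGroup (F := F) Q)).map (simHom Q) := by
  have key : ∀ s : Cfsg.Omega F Q, simHom Q ⟨s.1.1, iso_sim s.1.2⟩ = MulAut.conj (QuotientGroup.mk s : Cfsg.POmega F Q) := by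
    intro s
    refine MulEquiv.ext fun x => ?_
    obtain ⟨t, rfl⟩ := QuotientGroup.mk'_surjective _ x
    refine congrArg QuotientGroup.mk (Subtype.ext (Subtype.ext ?_))
    show semiConj s.1.1 (RingEquiv.refl F) t.1.1 = s.1.1 * t.1.1 * s.1.1⁻¹
    unfold semiConj
    rw [fieldGL_refl]
  refine le_antisymm ?_ ?_
  · rintro _ ⟨x, rfl⟩
    obtain ⟨s, rfl⟩ := QuotientGroup.mk'_surjective _ x
    exact ⟨⟨s.1.1, iso_sim s.1.2⟩, ⟨s.1, s.2, rfl⟩, key s⟩
  · rintro _ ⟨g, ⟨s, hs, hsg⟩, rfl⟩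
    refine ⟨(QuotientGroup.mk ⟨s, hs⟩ : Cfsg.POmega F Q), ?_⟩
    rw [← key ⟨s, hs⟩]
    exact congrArg (simHom Q) (Subtype.ext hsg)

variable [Fintype F] (hQ : IsNondegenerateQuadraticForm Q)
include hQ

/-- a semilinear map commuting with `Omega` fixes every singular line -/
theorem semi_fix_singular (hn : 5 ≤ Fintype.card ι) {T : (ι → F) → ι → F} {σ : F ≃+* F}
    (hadd : ∀ x y, T (x + y) = T x + T y) (hsmul : ∀ (c : F) x, T (c • x) = σ c • T x)
    (hcomm : ∀ (s : Cfsg.Omega F Q) x, T ((omv s : Matrix ι ι F) *ᵥ x) = (omv s : Matrix ι ι F) *ᵥ T x)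
    {u : ι → F} (hu0 : u ≠ 0) (hu : Q u = 0) : ∃ c : F, T u = c • u := by
  obtain ⟨u', -, hu', huu'⟩ := exists_qpartner hQ (ndOn_top hQ) Submodule.mem_top hu0 hu
  have hdim := pair_finrank hQ (P := ⊤) (e := u) (f := u') Submodule.mem_top Submodule.mem_top hu hu' huu'
  rw [finrank_top, Module.finrank_fintype_fun_eq_card] at hdim
  have hnd := pair_nd hQ (P := ⊤) (e := u) (f := u') Submodule.mem_top Submodule.mem_top hu hu' huu' (ndOn_top hQ)
  obtain ⟨P, hP⟩ : ∃ P, P = pairPerp hQ ⊤ u u' := ⟨_, rfl⟩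
  rw [← hP] at hdim hnd
  have hPm : ∀ x ∈ P, pol Q x u = 0 ∧ pol Q x u' = 0 := fun x hx => ((mem_pairPerp hQ).1 (hP ▸ hx)).2
  obtain ⟨w, hw, hw0, hQw⟩ := exists_qsingular hQ hnd (by omega)
  obtain ⟨a, ha, hQa, hwa⟩ := exists_qpartner hQ hnd hw hw0 hQw
  obtain ⟨t, ht, ht0⟩ : ∃ t ∈ pairPerp hQ P w a, t ≠ 0 := by
    refine Submodule.exists_mem_ne_zero_of_ne_bot fun h => ?_
    have h1 := pair_finrank hQ hw ha hQw hQa hwa
    rw [h, finrank_bot] at h1
    omega
  obtain ⟨htP, htw, hta⟩ := (mem_pairPerp hQ).1 ht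
  obtain ⟨y, hy⟩ : ∃ y, y = T w := ⟨_, rfl⟩
  have key : ∀ b ∈ P, pol Q w b = 1 → ∃ α β : F, T u = α • b + β • u := by
    intro b hb hwb
    have hub : pol Q u b = 0 := by rw [pcomm, (hPm b hb).1]
    obtain ⟨e, he⟩ := exists_omega_E hQ hn hu hub
    have h1 := hcomm e w
    rw [he, he, (hPm w hw).1, hwb, ← hy] at h1
    simp only [zero_smul, one_smul, mul_zero, add_zero, sub_zero] at h1
    refine ⟨-pol Q y u, pol Q y b + Q b * pol Q y u, ?_⟩
    have h2 : T (w - u) + T u = T w := by rw [← hadd, sub_add_cancel]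
    rw [h1, ← hy] at h2
    rw [show T u = y - (y + pol Q y u • b - pol Q y b • u - (Q b * pol Q y u) • u) from eq_sub_of_add_eq' h2]
    module
  obtain ⟨α, β, h1⟩ := key a ha hwa
  obtain ⟨α', β', h2⟩ := key (a + t) (P.add_mem ha htP) (by rw [padd_right hQ, hwa, pcomm w t, htw, add_zero])
  obtain ⟨p, hp⟩ : ∃ p, p = (α - α') • a - α' • t := ⟨_, rfl⟩
  have h3 : p = (β' - β) • u := by
    have h4 := h1.symm.trans h2
    rw [hp]
    linear_combination (norm := module) h4
  obtain ⟨s, hs, hts⟩ := ((pair_nd hQ hw ha hQw hQa hwa hnd) t ht ht0).2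
  obtain ⟨hsP, hsw, hsa⟩ := (mem_pairPerp hQ).1 hs
  have h5 := congrArg (fun x => pol Q x s) h3
  simp only [hp, psub_left hQ, psmul_left hQ, pcomm a s, hsa, pcomm u s, (hPm s hsP).1, mul_zero, zero_sub,
    neg_eq_zero, mul_eq_zero] at h5
  have hα' : α' = 0 := h5.resolve_right hts
  exact ⟨β', by rw [h2, hα', zero_smul, zero_add]⟩

/-- a semilinear map fixing every singular line is linear and scalar -/
theorem semi_scalar_of_fix (hn : 5 ≤ Fintype.card ι) {T : (ι → F) → ι → F} {σ : F ≃+* F}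
    (hadd : ∀ x y, T (x + y) = T x + T y) (hsmul : ∀ (c : F) x, T (c • x) = σ c • T x)
    (hinj : ∀ x, T x = 0 → x = 0)
    (hfix : ∀ u, u ≠ 0 → Q u = 0 → ∃ c : F, T u = c • u) :
    (∀ a, σ a = a) ∧ ∃ c : F, ∀ x, T x = c • x := by
  obtain ⟨e, -, he0, hQe⟩ := exists_qsingular hQ (ndOn_top hQ) (by
    rw [finrank_top, Module.finrank_fintype_fun_eq_card]; omega)
  obtain ⟨f, -, hQf, hef⟩ := exists_qpartner hQ (ndOn_top hQ) Submodule.mem_top he0 hQe
  obtain ⟨P, hP⟩ : ∃ P, P = pairPerp hQ ⊤ e f := ⟨_, rfl⟩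
  have hdim := pair_finrank hQ (P := ⊤) (e := e) (f := f) Submodule.mem_top Submodule.mem_top hQe hQf hef
  rw [finrank_top, Module.finrank_fintype_fun_eq_card, ← hP] at hdim
  have hnd : NdOn Q P := hP ▸ pair_nd hQ (P := ⊤) Submodule.mem_top Submodule.mem_top hQe hQf hef (ndOn_top hQ)
  obtain ⟨c, hc⟩ := hfix e he0 hQe
  have hf0 : f ≠ 0 := fun h => by rw [h, pzero_right hQ] at hef; exact zero_ne_one hef
  obtain ⟨d, hd⟩ := hfix f hf0 hQf
  have hkey : ∀ {x : ι → F} {r : ι → F} {k : F}, r ≠ 0 → T r = k • r → x ∈ P → Q x = 0 → x ≠ 0 →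
      (r = e ∨ r = f) → T x = k • x := by
    intro x r k hr0 hk hx hQx hx0 hr
    obtain ⟨l, hl⟩ := hfix x hx0 hQx
    have hxe := ((mem_pairPerp hQ).1 (hP ▸ hx)).2
    have hQr : Q r = 0 := by rcases hr with rfl | rfl <;> assumption
    have hrx : pol Q x r = 0 := by rcases hr with rfl | rfl <;> [exact hxe.1; exact hxe.2]
    obtain ⟨s, hs, hne⟩ : ∃ s, (pol Q r s = 1) ∧ pol Q x s = 0 := by
      rcases hr with rfl | rfl
      · exact ⟨f, hef, hxe.2⟩
      · exact ⟨e, by rw [pcomm]; exact hef, hxe.1⟩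
    obtain ⟨μ, hμ⟩ := hfix (r + x) (fun h0 => by
        have := congrArg (fun z => pol Q z s) h0
        simp only [padd_left hQ, hs, hne, pzero_left hQ, add_zero] at this
        exact one_ne_zero this) (by rw [qadd hQ, hQr, hQx, pcomm r x, hrx]; ring)
    rw [hadd, hk, hl] at hμ
    have hμk : k = μ := by
      have := congrArg (fun z => pol Q z s) hμ
      simp only [padd_left hQ, psmul_left hQ, hs, hne, mul_zero, add_zero, mul_one] at this
      exact this
    have h3 : (l - μ) • x = 0 := by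
      rw [hμk] at hμ
      linear_combination (norm := module) hμ
    rw [hl, hμk]
    rcases smul_eq_zero.1 h3 with h | h
    · rw [sub_eq_zero.1 h]
    · exact absurd h hx0
  obtain ⟨x, hx, hx0, hQx⟩ := exists_qsingular hQ hnd (by omega)
  have h1 := hkey he0 hc hx hQx hx0 (Or.inl rfl)
  have h2 := hkey hf0 hd hx hQx hx0 (Or.inr rfl)
  have hcd : c = d := smul_left_injective F hx0 (h1.symm.trans h2)
  have hc0 : c ≠ 0 := fun h => he0 (hinj e (by rw [hc, h, zero_smul]))
  have hσ : ∀ a, σ a = a := fun a => by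
    by_cases ha : a = 0
    · rw [ha, map_zero]
    have h3 := hkey he0 hc (P.smul_mem a hx) (by rw [qsmul hQ, hQx, mul_zero]) (smul_ne_zero ha hx0) (Or.inl rfl)
    rw [hsmul, h1, smul_smul, smul_smul] at h3
    have h4 := smul_left_injective F hx0 h3
    rw [mul_comm] at h4
    exact mul_left_cancel₀ hc0 h4
  refine ⟨hσ, c, fun y => ?_⟩
  obtain ⟨L, hL⟩ : ∃ L : (ι → F) →ₗ[F] (ι → F), ∀ z, L z = T z :=
    ⟨{ toFun := T, map_add' := hadd, map_smul' := fun a z => by rw [hsmul, hσ]; rfl }, fun _ => rfl⟩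
  have hker : (⊤ : Submodule F (ι → F)) ≤ LinearMap.ker (L - c • LinearMap.id) := by
    intro z _
    have hz := pair_proj hQ (P := ⊤) Submodule.mem_top Submodule.mem_top hQe hQf hef (Submodule.mem_top (x := z))
    rw [← hP] at hz
    have hPle : P ≤ LinearMap.ker (L - c • LinearMap.id) :=
      le_of_singular_mem hQ hnd (by omega) fun v hv hQv => by
        rw [LinearMap.mem_ker, LinearMap.sub_apply, LinearMap.smul_apply, LinearMap.id_apply, hL]
        by_cases hv0 : v = 0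
        · rw [hv0, show T 0 = 0 by have := hsmul 0 0; simpa using this, smul_zero, sub_zero]
        · rw [hkey he0 hc hv hQv hv0 (Or.inl rfl), sub_self]
    have hme : e ∈ LinearMap.ker (L - c • LinearMap.id) := by
      rw [LinearMap.mem_ker, LinearMap.sub_apply, LinearMap.smul_apply, LinearMap.id_apply, hL, hc, sub_self]
    have hmf : f ∈ LinearMap.ker (L - c • LinearMap.id) := by
      rw [LinearMap.mem_ker, LinearMap.sub_apply, LinearMap.smul_apply, LinearMap.id_apply, hL, hd, hcd, sub_self]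
    have hz' : z = (z - pol Q z f • e - pol Q z e • f) + pol Q z f • e + pol Q z e • f := by abel
    rw [hz']
    exact Submodule.add_mem _ (Submodule.add_mem _ (hPle hz) (Submodule.smul_mem _ _ hme)) (Submodule.smul_mem _ _ hmf)
  have := hker (Submodule.mem_top (x := y))
  rw [LinearMap.mem_ker, LinearMap.sub_apply, LinearMap.smul_apply, LinearMap.id_apply, hL, sub_eq_zero] at this
  exact this

/-- only scalars act trivially -/
theorem ind_eq_one (hn : 5 ≤ Fintype.card ι) {g : GL ι F} {σ : F ≃+* F} (h : Cfsg.IsSemisimilarityPair Q g σ)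
    (h1 : ind h = 1) : σ = RingEquiv.refl F ∧ ∃ c : F, (g : Matrix ι ι F) = c • 1 := by
  let δ : ↥(Cfsg.Omega F Q) →* Subgroup.center (Cfsg.Omega F Q) :=
    { toFun := fun s => ⟨s⁻¹ * omegaAut h s, QuotientGroup.eq.1 (by
        rw [← ind_mk h s, h1]; rfl)⟩
      map_one' := Subtype.ext (by simp)
      map_mul' := fun a b => Subtype.ext (by
        have hz : a⁻¹ * omegaAut h a ∈ Subgroup.center (Cfsg.Omega F Q) := QuotientGroup.eq.1 (by
          rw [← ind_mk h a, h1]; rfl)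
        show (a * b)⁻¹ * omegaAut h (a * b) = a⁻¹ * omegaAut h a * (b⁻¹ * omegaAut h b)
        rw [map_mul, _root_.mul_inv_rev, ← mul_assoc (a⁻¹ * omegaAut h a), ← Subgroup.mem_center_iff.1 hz b⁻¹]
        group) }
  have hδ : ∀ s, omegaAut h s = s := fun s => by
    have hle : commutator (Cfsg.Omega F Q) ≤ δ.ker := by
      rw [commutator_def, Subgroup.commutator_le]
      intro a _ b _
      rw [MonoidHom.mem_ker, map_commutatorElement, commutatorElement_eq_one_iff_mul_comm]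
      exact Subtype.ext (Subgroup.mem_center_iff.1 (δ b).2 _)
    rw [omega_perfect hQ hn] at hle
    exact (eq_of_inv_mul_eq_one (congrArg Subtype.val (hle (Subgroup.mem_top s) : δ s = 1))).symm
  have hcomm : ∀ (s : Cfsg.Omega F Q) x, semi g σ ((omv s : Matrix ι ι F) *ᵥ x) =
      (omv s : Matrix ι ι F) *ᵥ semi g σ x := fun s x => by
    have e : semiConj g σ s.1.1 = s.1.1 := congrArg (fun z : Cfsg.Omega F Q => z.1.1) (hδ s)
    have := semiConj_semi g σ s.1.1 x
    rw [e] at this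
    exact this.symm
  obtain ⟨hσ, c, hc⟩ := semi_scalar_of_fix hQ hn (semi_add g σ) (semi_smul g σ)
    (fun x hx => by
      unfold semi at hx
      have h2 : (fun i => σ (x i)) = 0 := Matrix.mulVec_injective_iff_isUnit.2 g.isUnit (by rw [hx, mulVec_zero])
      funext i
      exact σ.injective (by rw [congrFun h2 i]; simp))
    (fun u hu0 hu => semi_fix_singular hQ hn (semi_add g σ) (semi_smul g σ) hcomm hu0 hu)
  refine ⟨RingEquiv.ext hσ, c, Matrix.ext_iff_mulVec.2 fun x => ?_⟩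
  have := hc x
  rw [show semi g σ x = (g : Matrix ι ι F) *ᵥ x by unfold semi; simp only [hσ]] at this
  rw [this, smul_mulVec, one_mulVec]

omit [Fintype F] in
theorem scalar_mem_sim (c : Fˣ) :
    (Units.map (Matrix.scalar ι).toMonoidHom c : GL ι F) ∈ Cfsg.Geo.quadSimilarityGroup (F := F) Q :=
  ⟨c * c, fun v => by
    show Q ((Matrix.scalar ι (c : F)) *ᵥ v) = _
    rw [Matrix.scalar_apply, show Matrix.diagonal (fun _ : ι => (c : F)) *ᵥ v = (c : F) • v from
      funext fun i => by rw [Matrix.mulVec_diagonal]; rfl, qsmul hQ, Units.val_mul, sq]⟩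

/-- the kernel of the action of similarities -/
theorem simHom_ker (hn : 5 ≤ Fintype.card ι) (g : ↥(Cfsg.Geo.quadSimilarityGroup (F := F) Q)) :
    simHom Q g = 1 ↔ ∃ c : F, (g.1 : Matrix ι ι F) = c • 1 := by
  refine ⟨fun h => (ind_eq_one hQ hn (sim_pair g.2) h).2, fun ⟨c, hc⟩ => ?_⟩
  refine MulEquiv.ext fun x => ?_
  obtain ⟨s, rfl⟩ := QuotientGroup.mk'_surjective _ x
  refine congrArg QuotientGroup.mk (Subtype.ext (Subtype.ext ?_))
  show semiConj g.1 (RingEquiv.refl F) s.1.1 = s.1.1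
  unfold semiConj
  rw [fieldGL_refl, mul_inv_eq_iff_eq_mul]
  refine Units.ext ?_
  rw [Units.val_mul, Units.val_mul, hc, smul_mul_assoc, one_mul, mul_smul_comm, mul_one]

end CfsgLib.Orth
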