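import Cfsg.Agent.Lib.Orth.Wall
import Cfsg.Agent.Lib.Perm.Trans.QuadSiegel

/-!
# Isometries are products of reflections; the spinor norm and parity homomorphisms

The only exception to generation by reflections is dimension four over the field with two elements.
-/

set_option autoImplicit false
set_option linter.all false

namespace CfsgLib.Orth

open scoped Matrix
open Matrix Cfsg.Geo CfsgLib.Perm.Asch CfsgLib.Perm.Trans CfsgLib.Perm.Trans.Quad

variable {ι : Type} [Fintype ι] [DecidableEq ι] {F : Type*} [Field F]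
variable {Q : (ι → F) → F}

local notation "pol" => QuadraticMap.polar

/-- the subgroup generated by the reflections -/
def reflGroup (Q : (ι → F) → F) : Subgroup (GL ι F) :=
  Subgroup.closure {g | g ∈ Cfsg.isometryGroup F Q ∧ ∃ v, Q v ≠ 0 ∧ IsRefl Q v g}

theorem reflGroup_le : reflGroup Q ≤ Cfsg.isometryGroup F Q := (Subgroup.closure_le _).2 fun g hg => hg.1

variable [Fintype F] (hQ : IsNondegenerateQuadraticForm Q)
include hQ

theorem refl_mul_self {r : GL ι F} {v : ι → F} (hrv : IsRefl Q v r) (hv : Q v ≠ 0) : r * r = 1 :=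
  gl_ext_vec fun x => by
    rw [gl_mul_mulVec, hrv, hrv, Units.val_one, one_mulVec]
    simp only [psub_left hQ, psmul_left hQ, pself hQ v]
    match_scalars
    · ring
    · field_simp; ring

/-- among the anisotropic vectors of an extension `U + ⟨v⟩` of a totally singular `U` there are three directions,
except in dimension four over two elements -/
theorem exists_three {U : Submodule F (ι → F)} {v : ι → F} (hv : Q v ≠ 0) (hts : ∀ u ∈ U, Q u = 0)
    (hd : 2 ≤ Module.finrank F U)
    (h : Fintype.card F ≠ 2 ∨ 3 ≤ Module.finrank F U ∨ ∀ u ∈ U, pol Q u v = 0) :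
    ∃ a b c : ι → F, a ∈ U ∧ b ∈ U ∧ c ∈ U ∧ a ≠ b ∧ a ≠ c ∧ b ≠ c ∧ Q (v + a) ≠ 0 ∧ Q (v + b) ≠ 0 ∧ Q (v + c) ≠ 0 := by
  have hval : ∀ u ∈ U, Q (v + u) = Q v + pol Q u v := fun u hu => by rw [qadd hQ, hts u hu, pcomm v u, add_zero]
  by_cases hL : ∀ u ∈ U, pol Q u v = 0
  · obtain ⟨a, ha, ha0⟩ := Submodule.exists_mem_ne_zero_of_ne_bot (p := U) (fun hbot => by
      rw [hbot, finrank_bot] at hd; omega)
    obtain ⟨b, hb, hba⟩ : ∃ b ∈ U, b ∉ Submodule.span F {a} := by
      by_contra hcon
      push Not at hcon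
      have := Submodule.finrank_mono (show U ≤ Submodule.span F {a} from hcon)
      rw [finrank_span_singleton ha0] at this
      omega
    refine ⟨0, a, b, U.zero_mem, ha, hb, ha0.symm, fun e => hba (e ▸ Submodule.zero_mem _),
      fun e => hba (e ▸ Submodule.mem_span_singleton_self a), ?_, ?_, ?_⟩
    all_goals rw [hval _ (by first | exact U.zero_mem | exact ha | exact hb), hL _ (by first | exact U.zero_mem | exact ha | exact hb), add_zero]
    all_goals exact hv
  · push Not at hL
    obtain ⟨u, hu, huv⟩ := hL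
    obtain ⟨K, hK⟩ : ∃ K : Submodule F (ι → F), K = U ⊓ LinearMap.ker (pfl hQ v) := ⟨_, rfl⟩
    have hKd : Module.finrank F U ≤ Module.finrank F K + 1 := hK ▸ finrank_inf_pfl hQ U v
    have hKv : ∀ z ∈ K, z ∈ U ∧ Q (v + z) = Q v := fun z hz => by
      rw [hK] at hz
      exact ⟨hz.1, by rw [hval z hz.1, show pol Q z v = 0 from hz.2, add_zero]⟩
    obtain ⟨z, hz, hz0⟩ := Submodule.exists_mem_ne_zero_of_ne_bot (p := K) (fun hbot => by
      rw [hbot, finrank_bot] at hKd; omega)
    obtain ⟨hzU, hzv⟩ := hKv z hz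
    by_cases h3 : Fintype.card F = 2
    · have hK2 : 2 ≤ Module.finrank F K := by
        rcases h with h | h | h
        · exact absurd h3 h
        · omega
        · exact absurd (h u hu) huv
      obtain ⟨z', hz', hzz⟩ : ∃ z' ∈ K, z' ∉ Submodule.span F {z} := by
        by_contra hcon
        push Not at hcon
        have := Submodule.finrank_mono (show K ≤ Submodule.span F {z} from hcon)
        rw [finrank_span_singleton hz0] at this
        omega
      obtain ⟨hzU', hzv'⟩ := hKv z' hz'
      exact ⟨0, z, z', U.zero_mem, hzU, hzU', hz0.symm, fun e => hzz (e ▸ Submodule.zero_mem _),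
        fun e => hzz (e ▸ Submodule.mem_span_singleton_self z), by rw [add_zero]; exact hv, hzv.symm ▸ hv,
        hzv'.symm ▸ hv⟩
    · obtain ⟨s, hs0, hs1⟩ : ∃ s : F, s ≠ 0 ∧ s ≠ -Q v := by
        classical
        have hlt : ({0, -Q v} : Finset F).card < (Finset.univ : Finset F).card := by
          rw [Finset.card_univ]
          have := Fintype.one_lt_card (α := F)
          have h2 : ({0, -Q v} : Finset F).card ≤ 2 := Finset.card_le_two
          omega
        obtain ⟨s, -, hs⟩ := Finset.exists_mem_notMem_of_card_lt_card hlt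
        exact ⟨s, fun e => hs (by simp [e]), fun e => hs (by simp [e])⟩
      refine ⟨0, z, (s * (pol Q u v)⁻¹) • u, U.zero_mem, hzU, U.smul_mem _ hu, hz0.symm, fun e => ?_, fun e => ?_,
        by rw [add_zero]; exact hv, hzv.symm ▸ hv, ?_⟩
      · have := congrArg (fun x => pol Q x v) e
        simp only [pzero_left hQ, psmul_left hQ] at this
        exact hs0 (by field_simp at this; exact this.symm)
      · have h1 : pol Q z v = 0 := (hK ▸ hz : z ∈ U ⊓ LinearMap.ker (pfl hQ v)).2
        rw [e, psmul_left hQ] at h1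
        exact hs0 (by field_simp at h1; exact h1)
      · rw [hval _ (U.smul_mem _ hu), psmul_left hQ]
        field_simp
        exact fun e => hs1 (by linear_combination e)

/-- two totally singular hyperplanes of `U + ⟨v⟩` other than `U` coincide -/
theorem ts_unique {U H : Submodule F (ι → F)} {v : ι → F} (hv : Q v ≠ 0) (hts : ∀ u ∈ U, Q u = 0)
    (hHts : ∀ u ∈ H, Q u = 0) (hHle : H ≤ U ⊔ Submodule.span F {v})
    (hHd : Module.finrank F H = Module.finrank F U) (hHU : H ≠ U) {y : ι → F} (hy : y ∈ U ⊔ Submodule.span F {v})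
    (hQy : Q y = 0) (hyU : y ∉ U) : y ∈ H := by
  have hval : ∀ (t : F), ∀ x ∈ U, Q (x + t • v) = t * (t * Q v + pol Q x v) := fun t x hx => by
    rw [qadd hQ, hts x hx, qsmul hQ, psmul_right hQ]; ring
  obtain ⟨h0, hh0, hh0U⟩ : ∃ h0 ∈ H, h0 ∉ U := by
    by_contra hcon
    push Not at hcon
    exact hHU (Submodule.eq_of_le_of_finrank_le hcon (le_of_eq hHd.symm))
  obtain ⟨x0, hx0, w0, hw0, rfl⟩ := Submodule.mem_sup.1 (hHle hh0)
  obtain ⟨t, rfl⟩ := Submodule.mem_span_singleton.1 hw0
  obtain ⟨x, hx, w, hw, rfl⟩ := Submodule.mem_sup.1 hy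
  obtain ⟨s, rfl⟩ := Submodule.mem_span_singleton.1 hw
  have ht : t ≠ 0 := fun e => hh0U (by rw [e, zero_smul, add_zero]; exact hx0)
  have hs : s ≠ 0 := fun e => hyU (by rw [e, zero_smul, add_zero]; exact hx)
  have e0 : pol Q x0 v = -(t * Q v) := by
    have h := hHts _ hh0
    rw [hval t x0 hx0] at h
    exact eq_neg_of_add_eq_zero_right ((mul_eq_zero.1 h).resolve_left ht)
  have e1 : pol Q x v = -(s * Q v) := by
    rw [hval s x hx] at hQy
    exact eq_neg_of_add_eq_zero_right ((mul_eq_zero.1 hQy).resolve_left hs)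
  have hz : x - (s / t) • x0 ∈ H := by
    have hle : U ⊓ LinearMap.ker (pfl hQ v) ≤ H := by
      have h1 : H ⊓ U ≤ U ⊓ LinearMap.ker (pfl hQ v) := fun z hz => ⟨hz.2, by
        have hp : Q (z + (x0 + t • v)) = 0 := hHts _ (H.add_mem hz.1 hh0)
        rw [← add_assoc, hval t _ (U.add_mem hz.2 hx0), padd_left hQ, e0] at hp
        show pol Q z v = 0
        rcases mul_eq_zero.1 hp with h | h
        · exact absurd h ht
        · linear_combination h⟩
      have h2 := Submodule.finrank_sup_add_finrank_inf_eq H U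
      have h3 : Module.finrank F ↥(H ⊔ U) ≤ Module.finrank F ↥(U ⊔ Submodule.span F {v}) :=
        Submodule.finrank_mono (sup_le hHle le_sup_left)
      have h4 : Module.finrank F ↥(U ⊔ Submodule.span F {v}) ≤ Module.finrank F U + 1 := by
        have h5 := Submodule.finrank_add_le_finrank_add_finrank U (Submodule.span F {v})
        have h6 : Module.finrank F ↥(Submodule.span F {v}) = 1 :=
          finrank_span_singleton (fun e => hv (by rw [e, qzero hQ]))
        omega
      have h7 : Module.finrank F ↥(U ⊓ LinearMap.ker (pfl hQ v)) < Module.finrank F U :=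
        Submodule.finrank_lt_finrank_of_lt (lt_of_le_of_ne inf_le_left fun e => by
          have : pol Q x v = 0 := (e.symm ▸ hx : x ∈ U ⊓ LinearMap.ker (pfl hQ v)).2
          rw [e1, neg_eq_zero] at this
          exact mul_ne_zero hs hv this)
      rw [← Submodule.eq_of_le_of_finrank_le h1 (by omega)]
      exact inf_le_left
    refine hle ⟨U.sub_mem hx (U.smul_mem _ hx0), ?_⟩
    show pol Q (x - (s / t) • x0) v = 0
    rw [psub_left hQ, psmul_left hQ, e0, e1]
    field_simp
    ring
  have key : x + s • v = (x - (s / t) • x0) + (s / t) • (x0 + t • v) := by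
    rw [smul_add, smul_smul, div_mul_cancel₀ s ht]; abel
  rw [key]
  exact H.add_mem hz (H.smul_mem _ hh0)

/-- every isometry is a product of reflections, except in dimension four over two elements -/
theorem iso_le_reflGroup (hex : Fintype.card F ≠ 2 ∨ Fintype.card ι ≠ 4) :
    Cfsg.isometryGroup F Q ≤ reflGroup Q := by
  have hmain : ∀ k, ∀ g : GL ι F, g ∈ Cfsg.isometryGroup F Q → wrk g = k → g ∈ reflGroup Q := by
    intro k
    induction k using Nat.strong_induction_on with
    | _ k ih =>
    intro g hg hk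
    rcases Nat.eq_zero_or_pos k with h0 | hpos
    · rw [eq_one_of_wrk_zero hQ hg (hk.trans h0)]; exact one_mem _
    have hdrop : ∀ g : GL ι F, g ∈ Cfsg.isometryGroup F Q → wrk g = k → (∃ v ∈ moved g, Q v ≠ 0) →
        g ∈ reflGroup Q := by
      rintro g hg hk ⟨v, hvm, hv⟩
      obtain ⟨r, hr, hrv⟩ := exists_refl hQ hv
      obtain ⟨h1, -, -⟩ := wall_step hQ hg hr hrv hv hvm
      have h2 := ih (wrk (r * g)) (by omega) (r * g) (mul_mem hr hg) rfl
      rw [show g = r * (r * g) by rw [← mul_assoc, refl_mul_self hQ hrv hv, one_mul]]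
      exact mul_mem (Subgroup.subset_closure ⟨hr, v, hv, hrv⟩) h2
    by_cases hns : ∃ v ∈ moved g, Q v ≠ 0
    · exact hdrop g hg hk hns
    push Not at hns
    have hd : 2 ≤ Module.finrank F (moved g) := by
      show 2 ≤ wrk g
      by_contra hlt
      obtain ⟨w, hli, hsp⟩ := exists_frame g
      refine wallMat_det_ne hQ hg hli hsp ?_
      have hk1 : wrk g = 1 := by omega
      haveI : Subsingleton (Fin (wrk g)) := by rw [hk1]; infer_instance
      obtain ⟨i⟩ : Nonempty (Fin (wrk g)) := by rw [hk1]; infer_instance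
      rw [Matrix.det_eq_elem_of_subsingleton _ i]
      show pol Q (w i) (disp g (w i)) = 0
      have h1 := hns _ ⟨w i, rfl⟩
      rw [disp_apply, qsub hQ, mem_iso.1 hg] at h1
      rw [disp_apply, psub_right hQ, pself hQ]
      linear_combination h1
    obtain ⟨v, hv, hch⟩ : ∃ v, Q v ≠ 0 ∧
        (Fintype.card F ≠ 2 ∨ 3 ≤ Module.finrank F (moved g) ∨ ∀ u ∈ moved g, pol Q u v = 0) := by
      by_cases hq : Fintype.card F = 2 ∧ Module.finrank F (moved g) = 2
      · obtain ⟨v, hvf, hv⟩ : ∃ v ∈ fixd g, Q v ≠ 0 := by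
          by_contra hcon
          push Not at hcon
          have hle : fixd g ≤ moved g := fun k hk => (mem_moved_iff hQ hg).2 fun k' hk' => by
            rw [QuadraticMap.polar, hcon _ ((fixd g).add_mem hk' hk), hcon _ hk', hcon _ hk]; ring
          have hle' : moved g ≤ fixd g := by
            rintro _ ⟨x, rfl⟩
            refine LinearMap.mem_ker.2 ?_
            by_contra hne
            obtain ⟨-, z, hz⟩ := hQ.nondegenerate _ hne
            apply hz
            have hD : ∀ a b, pol Q (disp g a) (disp g b) = 0 := fun a b => by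
              rw [QuadraticMap.polar, hns _ ((moved g).add_mem ⟨a, rfl⟩ ⟨b, rfl⟩), hns _ ⟨a, rfl⟩, hns _ ⟨b, rfl⟩]
              ring
            have hskew : ∀ a b, pol Q a (disp g b) + pol Q (disp g a) b = 0 := fun a b => by
              have h := hD a b
              simp only [disp_apply, psub_left hQ, psub_right hQ, iso_pol hg] at h ⊢
              linear_combination h
            have e := hskew (disp g x) z
            rw [hD, zero_add] at e
            exact e
          have h1 : Module.finrank F ↥(moved g) + Module.finrank F ↥(fixd g) = Module.finrank F (ι → F) :=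
            LinearMap.finrank_range_add_finrank_ker (disp g)
          rw [Module.finrank_fintype_fun_eq_card, le_antisymm hle hle'] at h1
          rcases hex with h | h <;> omega
        exact ⟨v, hv, Or.inr (Or.inr fun u hu => by rw [pcomm]; exact (mem_moved_iff hQ hg).1 hu v hvf)⟩
      · obtain ⟨v, -, hv⟩ := exists_nonsingular hQ (ndOn_top hQ) (fun e => by
          have h1 := Submodule.finrank_le (moved g)
          rw [← finrank_top F (ι → F), e, finrank_bot] at h1
          omega)
        exact ⟨v, hv, by omega⟩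
    obtain ⟨a, b, c, ha, hb, hc, hab, hac, hbc, hQa, hQb, hQc⟩ := exists_three hQ hv hns hd hch
    obtain ⟨r, hr, hrv⟩ := exists_refl hQ hv
    have hh : r * g ∈ Cfsg.isometryGroup F Q := mul_mem hr hg
    have hrr := refl_mul_self hQ hrv hv
    obtain ⟨hrk, hmv⟩ : wrk (r * g) = k + 1 ∧ moved (r * g) = moved g ⊔ Submodule.span F {v} := by
      have hvg : v ∉ moved g := fun h => hv (hns v h)
      have hvh : v ∈ moved (r * g) := by
        obtain ⟨y, hy, hyv⟩ : ∃ y ∈ fixd g, pol Q y v ≠ 0 := by
          by_contra hcon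
          push Not at hcon
          exact hvg ((mem_moved_iff hQ hg).2 hcon)
        have hgy : (g : Matrix ι ι F) *ᵥ y = y := (sub_eq_zero.1 (LinearMap.mem_ker.1 hy)).symm
        refine ⟨((Q v)⁻¹ * pol Q y v)⁻¹ • y, ?_⟩
        rw [map_smul, disp_apply, gl_mul_mulVec, hgy, hrv, sub_sub_cancel, smul_smul,
          inv_mul_cancel₀ (mul_ne_zero (inv_ne_zero hv) hyv), one_smul]
      obtain ⟨h1, -, h3⟩ := wall_step hQ hh hr hrv hv hvh
      rw [← mul_assoc, hrr, one_mul] at h1 h3
      refine ⟨by omega, (Submodule.eq_of_le_of_finrank_le (sup_le h3 ?_) ?_).symm⟩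
      · exact (Submodule.span_singleton_le_iff_mem _ _).2 hvh
      · have hlt : Module.finrank F (moved g) < Module.finrank F ↥(moved g ⊔ Submodule.span F {v}) :=
          Submodule.finrank_lt_finrank_of_lt (lt_of_le_of_ne le_sup_left fun e =>
            hvg (e.symm ▸ Submodule.mem_sup_right (Submodule.mem_span_singleton_self v)))
        change wrk (r * g) ≤ _
        change wrk g < _ at hlt
        omega
    have hstep : ∀ u ∈ moved g, Q (v + u) ≠ 0 → ∃ r' : GL ι F, r' ∈ Cfsg.isometryGroup F Q ∧ IsRefl Q (v + u) r' ∧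
        wrk (r' * (r * g)) = k ∧ moved (r' * (r * g)) ≤ moved g ⊔ Submodule.span F {v} ∧
        ∃ w, disp (r * g) w = v + u ∧ w ∈ fixd (r' * (r * g)) ∧ fixd (r * g) ≤ fixd (r' * (r * g)) := by
      intro u hu hQu
      obtain ⟨r', hr', hrv'⟩ := exists_refl hQ hQu
      have hm : v + u ∈ moved (r * g) := hmv ▸ Submodule.add_mem _ (Submodule.mem_sup_right
        (Submodule.mem_span_singleton_self v)) (Submodule.mem_sup_left hu)
      obtain ⟨h1, -, h3⟩ := wall_step hQ hh hr' hrv' hQu hm
      obtain ⟨w, hw⟩ := hm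
      refine ⟨r', hr', hrv', by omega, hmv ▸ h3, w, hw, LinearMap.mem_ker.2 ?_, fun y hy => LinearMap.mem_ker.2 ?_⟩
      · have hgw : ((r * g : GL ι F) : Matrix ι ι F) *ᵥ w = w - (v + u) := by rw [← hw, disp_apply]; abel
        have hwv : pol Q w (v + u) = Q (v + u) := by
          have h := mem_iso.1 hh w
          rw [hgw, qsub hQ] at h
          linear_combination -h
        rw [disp_apply, gl_mul_mulVec, hrv', hgw, psub_left hQ, hwv, pself hQ,
          show (Q (v + u))⁻¹ * (Q (v + u) - 2 * Q (v + u)) = -1 by field_simp; ring, neg_one_smul]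
        abel
      · have hgy : ((r * g : GL ι F) : Matrix ι ι F) *ᵥ y = y := (sub_eq_zero.1 (LinearMap.mem_ker.1 hy)).symm
        rw [disp_apply, gl_mul_mulVec, hgy, hrv', (mem_moved_iff hQ hh).1 ⟨w, hw⟩ y hy, mul_zero, zero_smul, sub_zero,
          sub_self]
    by_contra hng
    have hallts : ∀ u ∈ moved g, ∀ r' : GL ι F, r' ∈ Cfsg.isometryGroup F Q → IsRefl Q (v + u) r' → Q (v + u) ≠ 0 →
        wrk (r' * (r * g)) = k → ∀ y ∈ moved (r' * (r * g)), Q y = 0 := by
      intro u _ r' hr' hrv' hQu hk' y hy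
      by_contra hy0
      refine hng ?_
      have h1 := hdrop (r' * (r * g)) (mul_mem hr' hh) hk' ⟨y, hy, hy0⟩
      rw [show g = r * (r' * (r' * (r * g))) by
        rw [← mul_assoc r' r', refl_mul_self hQ hrv' hQu, one_mul, ← mul_assoc, hrr, one_mul]]
      exact mul_mem (Subgroup.subset_closure ⟨hr, v, hv, hrv⟩)
        (mul_mem (Subgroup.subset_closure ⟨hr', _, hQu, hrv'⟩) h1)
    have hinj : ∀ u ∈ moved g, ∀ u' ∈ moved g, ∀ h h' : GL ι F, h ∈ Cfsg.isometryGroup F Q →
        h' ∈ Cfsg.isometryGroup F Q → moved h = moved h' → wrk h = k → wrk (r * g) = k + 1 →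
        (∃ w, disp (r * g) w = v + u ∧ w ∈ fixd h ∧ fixd (r * g) ≤ fixd h) →
        (∃ w, disp (r * g) w = v + u' ∧ w ∈ fixd h' ∧ fixd (r * g) ≤ fixd h') → u = u' := by
      rintro u hu u' hu' h h' hh1 hh2 he hk' - ⟨w, hw, hwf, hle⟩ ⟨w', hw', hwf', -⟩
      have hff : w' ∈ fixd h := by
        refine LinearMap.mem_ker.2 ?_
        by_contra hne
        obtain ⟨⟨z, hz⟩, -⟩ := hQ.nondegenerate _ hne
        have hmem : ∀ y, pol Q w' (disp h y) = 0 := fun y =>
          (mem_moved_iff hQ hh2).1 (he ▸ ⟨y, rfl⟩) w' hwf'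
        apply hz
        rw [disp_apply, psub_right hQ]
        have hi : ((h : GL ι F) : Matrix ι ι F) *ᵥ (((h⁻¹ : GL ι F) : Matrix ι ι F) *ᵥ z) = z := gl_mulVec_inv h z
        have e := hmem (((h⁻¹ : GL ι F) : Matrix ι ι F) *ᵥ z)
        rw [disp_apply, psub_right hQ, hi] at e
        conv_lhs => arg 2; rw [← hi]
        rw [iso_pol hh1]
        rw [pcomm z, pcomm _ w']
        linear_combination -e
      have hcod : ∀ y ∈ fixd h, disp (r * g) y ∈ Submodule.span F {v + u} := by
        intro y hy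
        have hfd : fixd h = fixd (r * g) ⊔ Submodule.span F {w} := by
          refine (Submodule.eq_of_le_of_finrank_le (sup_le hle ((Submodule.span_singleton_le_iff_mem _ _).2 hwf)) ?_).symm
          have h1 : Module.finrank F ↥(moved h) + Module.finrank F ↥(fixd h) = Module.finrank F (ι → F) :=
            LinearMap.finrank_range_add_finrank_ker (disp h)
          have h2 : Module.finrank F ↥(moved (r * g)) + Module.finrank F ↥(fixd (r * g)) = Module.finrank F (ι → F) :=
            LinearMap.finrank_range_add_finrank_ker (disp (r * g))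
          have h3 : Module.finrank F (fixd (r * g)) < Module.finrank F ↥(fixd (r * g) ⊔ Submodule.span F {w}) :=
            Submodule.finrank_lt_finrank_of_lt (lt_of_le_of_ne le_sup_left fun e => by
              have hw1 : w ∈ fixd (r * g) := e.symm ▸ Submodule.mem_sup_right (Submodule.mem_span_singleton_self w)
              rw [LinearMap.mem_ker, hw] at hw1
              exact hv (by rw [eq_neg_of_add_eq_zero_left hw1, qneg hQ, hns u hu]))
          change wrk h + _ = _ at h1
          change wrk (r * g) + _ = _ at h2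
          omega
        rw [hfd] at hy
        obtain ⟨y1, hy1, y2, hy2, rfl⟩ := Submodule.mem_sup.1 hy
        obtain ⟨s, rfl⟩ := Submodule.mem_span_singleton.1 hy2
        rw [map_add, LinearMap.mem_ker.1 hy1, map_smul, hw, zero_add]
        exact Submodule.smul_mem _ _ (Submodule.mem_span_singleton_self _)
      obtain ⟨s, hs⟩ := Submodule.mem_span_singleton.1 (hcod w' hff)
      rw [hw'] at hs
      have hvU : v ∉ moved g := fun hm => hv (hns v hm)
      have hs1 : (s - 1) • v = u' - s • u := by linear_combination (norm := module) hs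
      have hs2 : s = 1 := by
        by_contra hne
        have hm : (s - 1) • v ∈ moved g := hs1 ▸ (moved g).sub_mem hu' ((moved g).smul_mem _ hu)
        exact hvU ((Submodule.smul_mem_iff _ (sub_ne_zero.2 hne)).1 hm)
      rw [hs2, one_smul] at hs
      exact add_left_cancel hs
    obtain ⟨r1, hr1, hv1, hk1, hm1, hw1⟩ := hstep a ha hQa
    obtain ⟨r2, hr2, hv2, hk2, hm2, hw2⟩ := hstep b hb hQb
    obtain ⟨r3, hr3, hv3, hk3, hm3, hw3⟩ := hstep c hc hQc
    have t1 := hallts a ha r1 hr1 hv1 hQa hk1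
    have t2 := hallts b hb r2 hr2 hv2 hQb hk2
    have t3 := hallts c hc r3 hr3 hv3 hQc hk3
    have hfr : ∀ h : GL ι F, wrk h = k → Module.finrank F (moved h) = Module.finrank F (moved g) :=
      fun h hh' => hh'.trans hk.symm
    have huni : ∀ h h' : GL ι F, wrk h = k → wrk h' = k → (∀ y ∈ moved h, Q y = 0) → (∀ y ∈ moved h', Q y = 0) →
        moved h ≤ moved g ⊔ Submodule.span F {v} → moved h' ≤ moved g ⊔ Submodule.span F {v} →
        moved h ≠ moved g → moved h' ≠ moved g → moved h = moved h' := by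
      intro h h' k1 k2 q1 q2 l1 l2 n1 n2
      refine (Submodule.eq_of_le_of_finrank_le (fun y hy => ?_) (le_of_eq ((hfr h k1).trans (hfr h' k2).symm))).symm
      by_cases hyU : y ∈ moved g
      · obtain ⟨y0, hy0, hy0U⟩ : ∃ y0 ∈ moved h', y0 ∉ moved g := by
          by_contra hcon
          push Not at hcon
          exact n2 (Submodule.eq_of_le_of_finrank_le hcon (le_of_eq (hfr h' k2).symm))
        have m1 := ts_unique hQ hv hns q1 l1 (hfr h k1) n1 (l2 hy0) (q2 _ hy0) hy0U
        have m2 := ts_unique hQ hv hns q1 l1 (hfr h k1) n1 (l2 ((moved h').add_mem hy hy0))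
          (q2 _ ((moved h').add_mem hy hy0)) (fun hm => hy0U (by
            have := (moved g).sub_mem hm hyU
            rwa [add_sub_cancel_left] at this))
        have := (moved h).sub_mem m2 m1
        rwa [add_sub_cancel_right] at this
      · exact ts_unique hQ hv hns q1 l1 (hfr h k1) n1 (l2 hy) (q2 _ hy) hyU
    by_cases n1 : moved (r1 * (r * g)) = moved g
    · by_cases n2 : moved (r2 * (r * g)) = moved g
      · exact hab (hinj a ha b hb _ _ (mul_mem hr1 hh) (mul_mem hr2 hh) (n1.trans n2.symm) hk1 hrk hw1 hw2)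
      · by_cases n3 : moved (r3 * (r * g)) = moved g
        · exact hac (hinj a ha c hc _ _ (mul_mem hr1 hh) (mul_mem hr3 hh) (n1.trans n3.symm) hk1 hrk hw1 hw3)
        · exact hbc (hinj b hb c hc _ _ (mul_mem hr2 hh) (mul_mem hr3 hh) (huni _ _ hk2 hk3 t2 t3 hm2 hm3 n2 n3) hk2 hrk hw2 hw3)
    · by_cases n2 : moved (r2 * (r * g)) = moved g
      · by_cases n3 : moved (r3 * (r * g)) = moved g
        · exact hbc (hinj b hb c hc _ _ (mul_mem hr2 hh) (mul_mem hr3 hh) (n2.trans n3.symm) hk2 hrk hw2 hw3)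
        · exact hac (hinj a ha c hc _ _ (mul_mem hr1 hh) (mul_mem hr3 hh) (huni _ _ hk1 hk3 t1 t3 hm1 hm3 n1 n3) hk1 hrk hw1 hw3)
      · exact hab (hinj a ha b hb _ _ (mul_mem hr1 hh) (mul_mem hr2 hh) (huni _ _ hk1 hk2 t1 t2 hm1 hm2 n1 n2) hk1 hrk hw1 hw2)
  exact fun g hg => hmain _ g hg rfl

/-- multiplicativity of the spinor norm and of the parity of the rank -/
theorem spn_mul {a b : GL ι F} (ha : a ∈ reflGroup Q) (hb : b ∈ Cfsg.isometryGroup F Q) :
    spn Q (a * b) = spn Q a * spn Q b ∧ (Even (wrk (a * b)) ↔ (Even (wrk a) ↔ Even (wrk b))) := by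
  revert b
  induction ha using Subgroup.closure_induction with
  | mem r hr =>
    obtain ⟨hr, v, hv, hrv⟩ := hr
    intro b hb
    obtain ⟨h1, h2⟩ := refl_step hQ hb hr hrv hv
    obtain ⟨e1, e2⟩ := refl_spn hQ hr hrv hv
    refine ⟨by rw [h2, e2], ?_⟩
    rw [e1, Nat.even_iff, Nat.even_iff, Nat.even_iff]
    omega
  | one =>
    intro b hb
    obtain ⟨e1, e2⟩ := spn_one hQ (ι := ι)
    rw [one_mul, e1, e2, one_mul]
    simp
  | mul x y hx hy ihx ihy =>
    intro b hb
    have hxi := reflGroup_le hx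
    have hyi := reflGroup_le hy
    obtain ⟨p1, q1⟩ := ihy hb
    obtain ⟨p2, q2⟩ := ihx (mul_mem hyi hb)
    obtain ⟨p3, q3⟩ := ihx hyi
    rw [mul_assoc]
    refine ⟨by rw [p2, p1, p3, mul_assoc], ?_⟩
    rw [q2, q1, q3]
    tauto
  | inv x hx ih =>
    intro b hb
    have hxi := reflGroup_le hx
    obtain ⟨p1, q1⟩ := ih (mul_mem (inv_mem hxi) hb)
    obtain ⟨p2, q2⟩ := ih (inv_mem hxi)
    obtain ⟨e1, e2⟩ := spn_one hQ (ι := ι)
    rw [mul_inv_cancel_left] at p1 q1
    rw [mul_inv_cancel] at p2 q2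
    rw [e2] at p2
    rw [e1] at q2
    have he : spn Q x⁻¹ = (spn Q x)⁻¹ := eq_inv_of_mul_eq_one_right p2.symm
    refine ⟨by rw [he, p1, inv_mul_cancel_left], ?_⟩
    have h0 : (Even (wrk x) ↔ Even (wrk x⁻¹)) := q2.1 ⟨0, rfl⟩
    tauto

end CfsgLib.Orth
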