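import Cfsg.Agent.Lib.Orth.SameClass

/-!
# The subgroup generated by the reflections of one square class
-/

set_option autoImplicit false
set_option linter.all false

namespace CfsgLib.Orth

open scoped Matrix
open Matrix Cfsg.Geo CfsgLib.Perm.Asch CfsgLib.Perm.Trans CfsgLib.Perm.Trans.Quad

variable {ι : Type} [Fintype ι] [DecidableEq ι] {F : Type*} [Field F] [Fintype F]
variable {Q : (ι → F) → F}

local notation "pol" => QuadraticMap.polar

/-- the reflections of one square class generate -/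
def classGroup (Q : (ι → F) → F) (κ : SqClass F) : Subgroup (GL ι F) :=
  Subgroup.closure {g | g ∈ Cfsg.isometryGroup F Q ∧ ∃ v, Q v ≠ 0 ∧ sqc (Q v) = κ ∧ IsRefl Q v g}

theorem classGroup_le (κ : SqClass F) : classGroup Q κ ≤ Cfsg.isometryGroup F Q :=
  (Subgroup.closure_le _).2 fun g hg => hg.1

variable (hQ : IsNondegenerateQuadraticForm Q)
include hQ

theorem classGroup_conj_refl {κ : SqClass F} {r : GL ι F} (hr : r ∈ Cfsg.isometryGroup F Q) {v : ι → F} (hv : Q v ≠ 0)
    (hc : sqc (Q v) = κ) (hrv : IsRefl Q v r) {k : GL ι F} (hk : k ∈ Cfsg.isometryGroup F Q) :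
    k * r * k⁻¹ ∈ classGroup Q κ :=
  Subgroup.subset_closure ⟨mul_mem (mul_mem hk hr) (inv_mem hk), _, by rw [mem_iso.1 hk]; exact hv,
    by rw [mem_iso.1 hk]; exact hc, hrv.conj hk⟩

theorem plane_vector (h2 : (2 : F) ≠ 0) {u w : ι → F} (hu : Q u ≠ 0) (hnd : pol Q u w * pol Q u w ≠ 4 * (Q u * Q w))
    (c : F) : ∃ k ∈ Submodule.span F ({u, w} : Set (ι → F)), Q k = c := by
  obtain ⟨s, hs⟩ : ∃ s, s = pol Q u w / (2 * Q u) := ⟨_, rfl⟩
  obtain ⟨z, hz⟩ : ∃ z, z = w - s • u := ⟨_, rfl⟩
  have h2u : (2 : F) * Q u ≠ 0 := mul_ne_zero h2 hu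
  have huz : pol Q u z = 0 := by
    rw [hz, psub_right hQ, psmul_right hQ, pself hQ, hs, div_mul_cancel₀ _ h2u, sub_self]
  have hQz : Q z ≠ 0 := by
    intro e
    apply hnd
    rw [hz, qsub hQ, qsmul hQ, psmul_right hQ, pcomm w u, hs] at e
    field_simp at e
    linear_combination -e
  open Polynomial in
  obtain ⟨a, b, hab⟩ := FiniteField.exists_root_sum_quadratic (R := F)
    (f := C (Q u) * X ^ 2 + C 0 * X + C (-c)) (g := C (Q z) * X ^ 2 + C 0 * X + C 0)
    (Polynomial.degree_quadratic hu) (Polynomial.degree_quadratic hQz) (FiniteField.odd_card_of_char_ne_two (fun h => h2 (by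
      haveI := ringChar.of_eq h; exact CharTwo.two_eq_zero)))
  refine ⟨a • u + b • z, ?_, ?_⟩
  · refine Submodule.add_mem _ (Submodule.smul_mem _ _ (Submodule.subset_span (Or.inl rfl))) (Submodule.smul_mem _ _ ?_)
    rw [hz]
    exact Submodule.sub_mem _ (Submodule.subset_span (Or.inr rfl)) (Submodule.smul_mem _ _ (Submodule.subset_span (Or.inl rfl)))
  · simp only [Polynomial.eval_add, Polynomial.eval_mul, Polynomial.eval_C, Polynomial.eval_pow, Polynomial.eval_X] at hab
    rw [qadd hQ, qsmul hQ, qsmul hQ, psmul_left hQ, psmul_right hQ, huz]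
    linear_combination hab

/-- rotations in a plane commute: three coplanar reflections multiply to an involution -/
theorem three_refl_sq (h2 : (2 : F) ≠ 0) {a b c : GL ι F} (ha : a ∈ Cfsg.isometryGroup F Q)
    (hb : b ∈ Cfsg.isometryGroup F Q) (hc : c ∈ Cfsg.isometryGroup F Q) {u v w : ι → F} (hu : Q u ≠ 0) (hv : Q v ≠ 0)
    (hw : Q w ≠ 0) (hau : IsRefl Q u a) (hbv : IsRefl Q v b) (hcw : IsRefl Q w c) {p₀ q₀ : ι → F}
    (hu' : u ∈ Submodule.span F ({p₀, q₀} : Set (ι → F))) (hv' : v ∈ Submodule.span F ({p₀, q₀} : Set (ι → F)))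
    (hw' : w ∈ Submodule.span F ({p₀, q₀} : Set (ι → F))) : (a * b * c) * (a * b * c) = 1 := by
  have hex : Fintype.card F ≠ 2 ∨ Fintype.card ι ≠ 4 := hex_of_two h2
  have hg : a * b * c ∈ Cfsg.isometryGroup F Q := mul_mem (mul_mem ha hb) hc
  have hle : moved (a * b * c) ≤ Submodule.span F ({p₀, q₀} : Set (ι → F)) := by
    rintro _ ⟨x, rfl⟩
    rw [disp_apply, gl_mul_mulVec, gl_mul_mulVec, hau, hbv, hcw]
    have e : ∀ (p q s : F), x - ((x - p • w) - q • v - s • u) = p • w + q • v + s • u := fun p q s => by abel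
    rw [e]
    exact Submodule.add_mem _ (Submodule.add_mem _ (Submodule.smul_mem _ _ hw') (Submodule.smul_mem _ _ hv'))
      (Submodule.smul_mem _ _ hu')
  have h1 : wrk (a * b * c) ≤ 2 := by
    classical
    refine (Submodule.finrank_mono hle).trans ?_
    have h := finrank_span_finset_le_card (R := F) ({p₀, q₀} : Finset (ι → F))
    rw [Finset.coe_pair] at h
    exact h.trans Finset.card_le_two
  have hp : ¬ Even (wrk (a * b * c)) := by
    rw [(spn_mul hQ (mul_mem (iso_le_reflGroup hQ hex ha) (iso_le_reflGroup hQ hex hb)) hc).2,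
      (spn_mul hQ (iso_le_reflGroup hQ hex ha) hb).2, (refl_spn hQ ha hau hu).1, (refl_spn hQ hb hbv hv).1,
      (refl_spn hQ hc hcw hw).1]
    simp
  have hk : wrk (a * b * c) = 1 := by
    rw [Nat.even_iff] at hp
    omega
  obtain ⟨z, hz, hQz⟩ : ∃ z ∈ moved (a * b * c), Q z ≠ 0 := by
    by_contra hcon
    push Not at hcon
    obtain ⟨f, hli, hsp⟩ := exists_frame (a * b * c)
    refine wallMat_det_ne hQ hg hli hsp ?_
    haveI : Subsingleton (Fin (wrk (a * b * c))) := by rw [hk]; infer_instance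
    obtain ⟨i⟩ : Nonempty (Fin (wrk (a * b * c))) := by rw [hk]; infer_instance
    rw [Matrix.det_eq_elem_of_subsingleton _ i]
    show pol Q (f i) (disp (a * b * c) (f i)) = 0
    have e := hcon _ ⟨f i, rfl⟩
    rw [disp_apply, qsub hQ, mem_iso.1 hg] at e
    rw [disp_apply, psub_right hQ, pself hQ]
    linear_combination e
  obtain ⟨r, hr, hrz⟩ := exists_refl hQ hQz
  obtain ⟨e1, -, -⟩ := wall_step hQ hg hr hrz hQz hz
  have hrr := refl_mul_self hQ hrz hQz
  have e2 : r * (a * b * c) = 1 := eq_one_of_wrk_zero hQ (mul_mem hr hg) (by omega)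
  rw [show a * b * c = r by rw [← inv_eq_of_mul_eq_one_right e2, inv_eq_of_mul_eq_one_left hrr]]
  exact hrr

/-- pairs spanning a non-degenerate plane -/
theorem pair_mem_of_nd (h2 : (2 : F) ≠ 0) {κ : SqClass F} {c : F} (hc0 : c ≠ 0) (hc : sqc c = κ) {r s : GL ι F}
    (hr : r ∈ Cfsg.isometryGroup F Q) (hs : s ∈ Cfsg.isometryGroup F Q) {u v : ι → F} (hu : Q u ≠ 0) (hv : Q v ≠ 0)
    (hru : IsRefl Q u r) (hsv : IsRefl Q v s) (huv : sqc (Q u) = sqc (Q v))
    (hnd : pol Q u v * pol Q u v ≠ 4 * (Q u * Q v)) : r * s ∈ classGroup Q κ := by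
  obtain ⟨w, hw, hwP, hwt⟩ := exists_bisector hQ h2 hu huv hv hr hs hru hsv
  obtain ⟨t, ht, htw⟩ := exists_refl hQ hw
  obtain ⟨hst, htt⟩ := hwt t ht htw
  obtain ⟨k, hk, hQk⟩ := plane_vector hQ h2 hu hnd c
  obtain ⟨y, hy, hyk⟩ := exists_refl hQ (show Q k ≠ 0 by rw [hQk]; exact hc0)
  have hk0 : Q k ≠ 0 := by rw [hQk]; exact hc0
  have hrr := refl_mul_self hQ hru hu
  have hyy := refl_mul_self hQ hyk hk0
  have hmemy : ∀ {g : GL ι F}, g ∈ Cfsg.isometryGroup F Q → g * y * g⁻¹ ∈ classGroup Q κ := fun {g} hg =>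
    classGroup_conj_refl hQ hy hk0 (by rw [hQk, hc]) hyk hg
  -- commutation of rotations, from three coplanar reflections
  have hab : (y * r * t) * (y * r * t) = 1 :=
    three_refl_sq hQ h2 hy hr ht hk0 hu hw hyk hru htw hk (Submodule.subset_span (Or.inl rfl)) hwP
  have hcomm : y * r * t = t * r * y := by
    have h := inv_eq_of_mul_eq_one_left hab
    rw [_root_.mul_inv_rev, _root_.mul_inv_rev, inv_eq_of_mul_eq_one_left hrr, inv_eq_of_mul_eq_one_left hyy,
      inv_eq_of_mul_eq_one_left htt, ← mul_assoc] at h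
    exact h.symm
  have htr : t * r = y * r * t * y := by
    rw [hcomm, show t * r * y * y = t * r * (y * y) by group, hyy, mul_one]
  have e : r * s = (r * y * r⁻¹ * y) * (y * (t * y * t⁻¹)) := by
    rw [hst, inv_eq_of_mul_eq_one_left hrr, inv_eq_of_mul_eq_one_left htt,
      show r * y * r * y * (y * (t * y * t)) = r * y * r * (y * y) * t * y * t by group, hyy, mul_one,
      show r * (t * r * t) = r * (t * r) * t by group, htr]
    group
  rw [e]
  refine mul_mem (mul_mem (hmemy hr) ?_) (mul_mem ?_ (hmemy ht))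
  · exact Subgroup.subset_closure ⟨hy, k, hk0, by rw [hQk, hc], hyk⟩
  · exact Subgroup.subset_closure ⟨hy, k, hk0, by rw [hQk, hc], hyk⟩

/-- pairs of reflections of the same class -/
theorem pair_mem (h2 : (2 : F) ≠ 0) (heven : Even (Fintype.card ι)) (h43 : ¬ (Fintype.card ι = 4 ∧ Fintype.card F = 3))
    {κ : SqClass F} {c : F} (hc0 : c ≠ 0) (hc : sqc c = κ) {r s : GL ι F}
    (hr : r ∈ Cfsg.isometryGroup F Q) (hs : s ∈ Cfsg.isometryGroup F Q) {u v : ι → F} (hu : Q u ≠ 0) (hv : Q v ≠ 0)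
    (hru : IsRefl Q u r) (hsv : IsRefl Q v s) (huv : sqc (Q u) = sqc (Q v)) : r * s ∈ classGroup Q κ := by
  by_cases hnd : pol Q u v * pol Q u v ≠ 4 * (Q u * Q v)
  · exact pair_mem_of_nd hQ h2 hc0 hc hr hs hu hv hru hsv huv hnd
  push Not at hnd
  have hB : pol Q u v ≠ 0 := fun e => mul_ne_zero (mul_ne_zero h2 h2) (mul_ne_zero hu hv) (by
    rw [e, zero_mul] at hnd; linear_combination -hnd)
  obtain ⟨α, hα⟩ : ∃ α, α = 2 * Q u / pol Q u v := ⟨_, rfl⟩
  have hα0 : α ≠ 0 := hα ▸ div_ne_zero (mul_ne_zero h2 hu) hB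
  obtain ⟨v', hv'⟩ : ∃ v', v' = α • v := ⟨_, rfl⟩
  have hBv : pol Q u v' = 2 * Q u := by rw [hv', psmul_right hQ, hα, div_mul_cancel₀ _ hB]
  have hQv : Q v' = Q u := by
    rw [hv', qsmul hQ, hα]
    field_simp
    linear_combination -hnd
  have hsv' : IsRefl Q v' s := hv' ▸ hsv.smul hQ hα0
  obtain ⟨e, he⟩ : ∃ e, e = v' - u := ⟨_, rfl⟩
  have hQe : Q e = 0 := by rw [he, qsub hQ, pcomm, hBv, hQv]; ring
  have hue : pol Q u e = 0 := by rw [he, psub_right hQ, hBv, pself hQ, sub_self]
  by_cases he0 : e = 0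
  · have hvu : v' = u := by rw [he, sub_eq_zero] at he0; exact he0
    rw [hvu] at hsv'
    rw [← hru.unique hsv', refl_mul_self hQ hru hu]
    exact one_mem _
  obtain ⟨P, hP⟩ : ∃ P, P = qperp hQ (Submodule.span F {u}) := ⟨_, rfl⟩
  have hPmem : ∀ x, x ∈ P ↔ pol Q x u = 0 := fun x => by
    rw [hP, mem_qperp_span hQ]; simp
  have hPnd : NdOn Q P := by
    intro x hx hx0
    obtain ⟨-, y, hy⟩ := hQ.nondegenerate x hx0
    obtain ⟨z, hz⟩ : ∃ z, z = y - (pol Q y u / (2 * Q u)) • u := ⟨_, rfl⟩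
    have hzP : z ∈ P := (hPmem z).2 (by
      rw [hz, psub_left hQ, psmul_left hQ, pself hQ, div_mul_cancel₀ _ (mul_ne_zero h2 hu), sub_self])
    have hxz : pol Q x z ≠ 0 := by
      rw [hz, psub_right hQ, psmul_right hQ, (hPmem x).1 hx, mul_zero, sub_zero]; exact hy
    exact ⟨⟨z, hzP, by rw [pcomm]; exact hxz⟩, ⟨z, hzP, hxz⟩⟩
  have heP : e ∈ P := (hPmem e).2 (by rw [pcomm]; exact hue)
  obtain ⟨f, hf, hQf, hef⟩ := exists_qpartner hQ hPnd heP he0 hQe
  obtain ⟨d, hdP, hQd, hde1, hde2⟩ : ∃ d ∈ P, Q d = Q u ∧ pol Q d e ≠ 2 * Q u ∧ pol Q d e ≠ -(2 * Q u) := by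
    by_cases hq : Fintype.card F = 3
    · have hn4 : Fintype.card ι ≠ 4 := fun h => h43 ⟨h, hq⟩
      have hd1 : Fintype.card ι ≤ Module.finrank F P + 1 := by
        have h1 := finrank_qperp hQ (Submodule.span F {u})
        have h2' : Module.finrank F ↥(Submodule.span F {u}) = 1 :=
          finrank_span_singleton (fun h => hu (by rw [h, qzero hQ]))
        rw [hP]; omega
      have hd2 : 2 ≤ Module.finrank F P := by
        have hli : LinearIndependent F ![e, f] := (LinearIndependent.pair_iff' he0).2 fun a ha => by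
          have : pol Q e (a • e) = pol Q e f := by rw [ha]
          rw [psmul_right hQ, pself hQ, hQe, hef, mul_zero, mul_zero] at this
          exact zero_ne_one this
        have h := Submodule.finrank_mono (Submodule.span_le.2 (show Set.range ![e, f] ⊆ (P : Set (ι → F)) by
          rintro _ ⟨i, rfl⟩
          fin_cases i
          · exact heP
          · exact hf))
        rwa [finrank_span_eq_card hli, Fintype.card_fin] at h
      have hd3 : Module.finrank F P + 1 ≤ Fintype.card ι := by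
        have h1 := finrank_qperp_le hQ (Submodule.span F {u})
        have h2' : Module.finrank F ↥(Submodule.span F {u}) = 1 :=
          finrank_span_singleton (fun h => hu (by rw [h, qzero hQ]))
        rw [hP]; omega
      have hd4 : 3 ≤ Module.finrank F (pairPerp hQ P e f) := by
        have h3 := pair_finrank hQ heP hf hQe hQf hef
        obtain ⟨k, hk⟩ := heven
        omega
      obtain ⟨z, hz, hQz⟩ := exists_qvalue hQ (pair_nd hQ heP hf hQe hQf hef hPnd) hd4 (Q u)
      obtain ⟨hzP, hze, -⟩ := (mem_pairPerp hQ).1 hz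
      refine ⟨z, hzP, hQz, ?_, ?_⟩ <;> rw [hze]
      · exact (mul_ne_zero h2 hu).symm
      · exact (neg_ne_zero.2 (mul_ne_zero h2 hu)).symm
    · obtain ⟨b, hb0, hb1, hb2⟩ : ∃ b : F, b ≠ 0 ∧ b ≠ 2 * Q u ∧ b ≠ -(2 * Q u) := by
        classical
        have hlt : ({0, 2 * Q u, -(2 * Q u)} : Finset F).card < (Finset.univ : Finset F).card := by
          rw [Finset.card_univ]
          have h1 := Fintype.one_lt_card (α := F)
          have hne2 : Fintype.card F ≠ 2 := fun h => h2 (by
            have := FiniteField.cast_card_eq_zero F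
            rwa [h, Nat.cast_ofNat] at this)
          have h3 : ({0, 2 * Q u, -(2 * Q u)} : Finset F).card ≤ 3 := Finset.card_le_three
          omega
        obtain ⟨b, -, hb⟩ := Finset.exists_mem_notMem_of_card_lt_card hlt
        exact ⟨b, fun h => hb (by simp [h]), fun h => hb (by simp [h]), fun h => hb (by simp [h])⟩
      refine ⟨(Q u / b) • e + b • f, P.add_mem (P.smul_mem _ heP) (P.smul_mem _ hf), ?_, ?_, ?_⟩
      · rw [qadd hQ, qsmul hQ, qsmul hQ, psmul_left hQ, psmul_right hQ, hQe, hQf, hef]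
        field_simp
        ring
      all_goals
        rw [padd_left hQ, psmul_left hQ, psmul_left hQ, pself hQ, hQe, pcomm f e, hef, mul_zero, mul_zero, zero_add,
          mul_one]
      · exact hb1
      · exact hb2
  have hd0 : Q d ≠ 0 := hQd ▸ hu
  obtain ⟨t, ht, htd⟩ := exists_refl hQ hd0
  have hdu : pol Q d u = 0 := (hPmem d).1 hdP
  have h1 : r * t ∈ classGroup Q κ := pair_mem_of_nd hQ h2 hc0 hc hr ht hu hd0 hru htd (by rw [hQd]) (by
    rw [pcomm, hdu, zero_mul, hQd]
    exact (mul_ne_zero (fun h => mul_ne_zero h2 h2 (by linear_combination h)) (mul_ne_zero hu hu)).symm)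
  have h2' : t * s ∈ classGroup Q κ := pair_mem_of_nd hQ h2 hc0 hc ht hs hd0 (hQv.symm ▸ hu) htd hsv'
    (by rw [hQd, hQv]) (by
    have hdv : pol Q d v' = pol Q d e := by rw [he, psub_right hQ, hdu, sub_zero]
    rw [hdv, hQd, hQv]
    intro h
    have : (pol Q d e - 2 * Q u) * (pol Q d e + 2 * Q u) = 0 := by linear_combination h
    rcases mul_eq_zero.1 this with h' | h'
    · exact hde1 (sub_eq_zero.1 h')
    · exact hde2 (eq_neg_of_add_eq_zero_left h'))
  have := mul_mem h1 h2'
  rwa [show r * t * (t * s) = r * (t * t) * s by group, refl_mul_self hQ htd hd0, mul_one] at this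

/-- the subgroup generated by one class of reflections has index two -/
theorem classGroup_index (h2 : (2 : F) ≠ 0) (hn : 2 ≤ Fintype.card ι) (heven : Even (Fintype.card ι))
    (h43 : ¬ (Fintype.card ι = 4 ∧ Fintype.card F = 3)) {c : F} (hc0 : c ≠ 0) :
    ((classGroup Q (sqc c)).subgroupOf (Cfsg.isometryGroup F Q)).index = 2 := by
  have hex : Fintype.card F ≠ 2 ∨ Fintype.card ι ≠ 4 := hex_of_two h2
  obtain ⟨H, hH⟩ : ∃ H, H = classGroup Q (sqc c) := ⟨_, rfl⟩
  obtain ⟨ψ, hψ⟩ : ∃ ψ : ↥(Cfsg.isometryGroup F Q) →* SqClass F,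
      ∀ g, ψ g = spn Q g.1 * sqc c ^ wrk g.1 := by
    refine ⟨{ toFun := fun g => spn Q g.1 * sqc c ^ wrk g.1, map_one' := ?_, map_mul' := fun a b => ?_ }, fun _ => rfl⟩
    · show spn Q (1 : GL ι F) * sqc c ^ wrk (1 : GL ι F) = 1
      rw [(spn_one hQ).1, (spn_one hQ).2, pow_zero, mul_one]
    · obtain ⟨p, q⟩ := spn_mul hQ (iso_le_reflGroup hQ hex a.2) b.2
      show spn Q (a.1 * b.1) * sqc c ^ wrk (a.1 * b.1) = _
      have hper : ∀ m : ℕ, sqc c ^ m = sqc c ^ (m % 2) := fun m => by
        conv_lhs => rw [← Nat.div_add_mod m 2, pow_add, pow_mul, pow_two, sqc_mul_self hc0, one_pow, one_mul]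
      have he : sqc c ^ wrk (a.1 * b.1) = sqc c ^ wrk a.1 * sqc c ^ wrk b.1 := by
        rw [← pow_add, hper, hper (wrk a.1 + wrk b.1)]
        rw [Nat.even_iff, Nat.even_iff, Nat.even_iff] at q
        congr 1
        omega
      rw [p, he, mul_mul_mul_comm]
  obtain ⟨δ, hδ⟩ := FiniteField.exists_nonsquare (F := F) (fun e => h2 (by
    haveI := ringChar.of_eq e; exact CharTwo.two_eq_zero))
  have hd0 : δ ≠ 0 := fun e => hδ (e ▸ IsSquare.zero)
  have hδ1 : sqc δ ≠ 1 := fun e => hδ ((sqc_eq_one_iff hd0).1 e)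
  obtain ⟨vd, hvd⟩ := exists_value hQ h2 hn (c * δ)
  have hvd0 : Q vd ≠ 0 := hvd ▸ mul_ne_zero hc0 hd0
  obtain ⟨rd, hrd, hrvd⟩ := exists_refl hQ hvd0
  have hψrd : ψ ⟨rd, hrd⟩ = sqc δ := by
    obtain ⟨e1, e2⟩ := refl_spn hQ hrd hrvd hvd0
    rw [hψ, e1, e2, pow_one, hvd, sqc_mul hc0 hd0, mul_comm (sqc c), mul_assoc, sqc_mul_self hc0, mul_one]
  have hrr := refl_mul_self hQ hrvd hvd0
  have hle : ∀ g : ↥(Cfsg.isometryGroup F Q), g.1 ∈ H → ψ g = 1 := by
    rintro ⟨g, hg⟩ hgH
    change g ∈ H at hgH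
    rw [hH] at hgH
    induction hgH using Subgroup.closure_induction with
    | mem r hr =>
      obtain ⟨hri, v, hv, hvc, hrv⟩ := hr
      obtain ⟨e1, e2⟩ := refl_spn hQ hri hrv hv
      rw [hψ]
      show spn Q r * sqc c ^ wrk r = 1
      rw [e1, e2, pow_one, hvc, sqc_mul_self hc0]
    | one => exact map_one ψ
    | mul a b ha hb iha ihb =>
      have := map_mul ψ ⟨a, classGroup_le _ ha⟩ ⟨b, classGroup_le _ hb⟩
      rw [iha (classGroup_le _ ha), ihb (classGroup_le _ hb), one_mul] at this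
      exact this
    | inv a ha iha =>
      have := map_inv ψ ⟨a, classGroup_le _ ha⟩
      rw [iha (classGroup_le _ ha), inv_one] at this
      exact this
  have hconj : ∀ x ∈ H, rd * x * rd ∈ H := by
    intro x hx
    rw [hH] at hx ⊢
    induction hx using Subgroup.closure_induction with
    | mem r hr =>
      obtain ⟨hri, v, hv, hvc, hrv⟩ := hr
      have := classGroup_conj_refl hQ hri hv hvc hrv hrd
      rwa [inv_eq_of_mul_eq_one_left hrr] at this
    | one => rw [mul_one, hrr]; exact one_mem _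
    | mul a b _ _ iha ihb =>
      have := mul_mem iha ihb
      rwa [show rd * a * rd * (rd * b * rd) = rd * a * (rd * rd) * b * rd by group, hrr, mul_one,
        show rd * a * b * rd = rd * (a * b) * rd by group] at this
    | inv a _ iha =>
      have := inv_mem iha
      rwa [_root_.mul_inv_rev, _root_.mul_inv_rev, inv_eq_of_mul_eq_one_left hrr, ← mul_assoc] at this
  have hall : ∀ g : GL ι F, g ∈ reflGroup Q → g ∈ H ∨ rd * g ∈ H := by
    intro g hg
    induction hg using Subgroup.closure_induction_left with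
    | one => exact Or.inl (one_mem _)
    | mul_left r hr z hz ih =>
      obtain ⟨hri, v, hv, hrv⟩ := hr
      by_cases hvc : sqc (Q v) = sqc c
      · have hrH : r ∈ H := hH ▸ Subgroup.subset_closure ⟨hri, v, hv, hvc, hrv⟩
        rcases ih with h | h
        · exact Or.inl (mul_mem hrH h)
        · refine Or.inr ?_
          have := mul_mem (hconj r hrH) h
          rwa [show rd * r * rd * (rd * z) = rd * r * (rd * rd) * z by group, hrr, mul_one, mul_assoc] at this
      · have hvd' : sqc (Q v) = sqc (Q vd) := by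
          rw [hvd, sqc_mul hc0 hd0]
          rcases sqc_dichotomy hδ hv with h | h <;> rcases sqc_dichotomy hδ hc0 with h' | h' <;>
            rw [h, h'] at hvc ⊢
          · exact absurd rfl hvc
          · exact (sqc_mul_self hd0).symm
          · rw [one_mul]
          · exact absurd rfl hvc
        have hp : rd * r ∈ H := hH ▸ pair_mem hQ h2 heven h43 hc0 rfl hrd hri hvd0 hv hrvd hrv hvd'.symm
        have hp' : r * rd ∈ H := hH ▸ pair_mem hQ h2 heven h43 hc0 rfl hri hrd hv hvd0 hrv hrvd hvd'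
        rcases ih with h | h
        · exact Or.inr (mul_assoc rd r z ▸ mul_mem hp h)
        · refine Or.inl ?_
          have := mul_mem hp' h
          rwa [show r * rd * (rd * z) = r * (rd * rd) * z by group, hrr, mul_one] at this
    | inv_mul_cancel r hr z hz ih =>
      obtain ⟨hri, v, hv, hrv⟩ := hr
      rw [inv_eq_of_mul_eq_one_left (refl_mul_self hQ hrv hv)]
      by_cases hvc : sqc (Q v) = sqc c
      · have hrH : r ∈ H := hH ▸ Subgroup.subset_closure ⟨hri, v, hv, hvc, hrv⟩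
        rcases ih with h | h
        · exact Or.inl (mul_mem hrH h)
        · refine Or.inr ?_
          have := mul_mem (hconj r hrH) h
          rwa [show rd * r * rd * (rd * z) = rd * r * (rd * rd) * z by group, hrr, mul_one, mul_assoc] at this
      · have hvd' : sqc (Q v) = sqc (Q vd) := by
          rw [hvd, sqc_mul hc0 hd0]
          rcases sqc_dichotomy hδ hv with h | h <;> rcases sqc_dichotomy hδ hc0 with h' | h' <;>
            rw [h, h'] at hvc ⊢
          · exact absurd rfl hvc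
          · exact (sqc_mul_self hd0).symm
          · rw [one_mul]
          · exact absurd rfl hvc
        have hp : rd * r ∈ H := hH ▸ pair_mem hQ h2 heven h43 hc0 rfl hrd hri hvd0 hv hrvd hrv hvd'.symm
        have hp' : r * rd ∈ H := hH ▸ pair_mem hQ h2 heven h43 hc0 rfl hri hrd hv hvd0 hrv hrvd hvd'
        rcases ih with h | h
        · exact Or.inr (mul_assoc rd r z ▸ mul_mem hp h)
        · refine Or.inl ?_
          have := mul_mem hp' h
          rwa [show r * rd * (rd * z) = r * (rd * rd) * z by group, hrr, mul_one] at this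
  have hker : H.subgroupOf (Cfsg.isometryGroup F Q) = ψ.ker := by
    refine le_antisymm (fun g hg => hle g hg) fun g hg => ?_
    rcases hall g.1 (iso_le_reflGroup hQ hex g.2) with h | h
    · exact h
    · exfalso
      have h1 := hle (⟨rd, hrd⟩ * g) h
      rw [map_mul, MonoidHom.mem_ker.1 hg, mul_one, hψrd] at h1
      exact hδ1 h1
  have hsurj : Function.Surjective ψ := fun x => by
    obtain ⟨u, rfl⟩ : ∃ u, sqMk F u = x := QuotientGroup.mk'_surjective _ x
    rw [show sqMk F u = sqc (u : F) by unfold sqc; rw [dif_neg u.ne_zero]; exact congrArg _ (Units.ext rfl)]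
    rcases sqc_dichotomy hδ u.ne_zero with h | h <;> rw [h]
    · exact ⟨1, map_one ψ⟩
    · exact ⟨_, hψrd⟩
  rw [← hH, hker, Subgroup.index_ker, MonoidHom.range_eq_top.2 hsurj, Subgroup.card_top, card_sqClass_odd h2]

end CfsgLib.Orth
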