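import Cfsg.Agent.Lib.Orth.PGOQuot

/-!
# `PGO/Inn` and `Inndiag/Inn` as groups
-/

set_option autoImplicit false
set_option linter.all false

namespace CfsgLib.Orth

open scoped Matrix
open Matrix Cfsg.Geo CfsgLib.Perm.Asch CfsgLib.Perm.Trans CfsgLib.Perm.Trans.Quad

variable {ι : Type} [Fintype ι] [DecidableEq ι] {F : Type*} [Field F] [Fintype F]
variable {Q : (ι → F) → F}

local notation "pol" => QuadraticMap.polar
local notation "Sim" => Cfsg.Geo.quadSimilarityGroup (F := F)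

variable (hQ : IsNondegenerateQuadraticForm Q)
include hQ

/-- `PGO / Inn` when `-1 ∈ Omega` -/
theorem pgo_mod_inn_dihedral (hn : 5 ≤ Fintype.card ι) (h2 : (2 : F) ≠ 0) {k : ℕ} (hk : Fintype.card ι = k + k)
    (hsim : ∀ c : Fˣ, ∃ g : ↥(Sim Q), simMult hQ (by omega) g = c ∧ simSign hQ (by omega) k g = 1)
    (hneg : spn Q (-1 : GL ι F) = 1) :
    ∃ φ : ↥(Cfsg.pgoAut F Q) →* DihedralGroup 4, Function.Surjective φ ∧
      φ.ker = (Cfsg.Inn (Cfsg.POmega F Q)).subgroupOf (Cfsg.pgoAut F Q) := by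
  haveI := inn_normal (Cfsg.POmega F Q)
  have hex : Fintype.card F ≠ 2 ∨ Fintype.card ι ≠ 4 := hex_of_two h2
  have hn1 : 1 ≤ Fintype.card ι := by omega
  have h8 : Nat.card (↥(Cfsg.pgoAut F Q) ⧸ (Cfsg.Inn (Cfsg.POmega F Q)).subgroupOf (Cfsg.pgoAut F Q)) = 8 := by
    show Subgroup.index _ = 8
    rw [← Subgroup.relIndex, ← Subgroup.relIndex_mul_relIndex _ (Cfsg.psoAut F Q) _ (inn_le_psoAut hQ hn h2)
      (psoAut_le_pgoAut hQ), relIndex_inn_pso hQ hn h2 hk hneg, relIndex_pso_pgo hQ hn h2 hk hsim]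
  refine exists_quot _ ?_
  obtain ⟨c, hc⟩ := exists_nonsquare_unit (F := F) h2
  obtain ⟨g, hg1, hg2⟩ := hsim c
  obtain ⟨v, hv⟩ := exists_value hQ h2 (by omega) (1 : F)
  have hv0 : Q v ≠ 0 := by rw [hv]; exact one_ne_zero
  obtain ⟨r, hr, hrv⟩ := exists_refl hQ hv0
  have hrr : r * r = 1 := refl_mul_self hQ hrv hv0
  have hgp : simHom Q g ∈ Cfsg.pgoAut F Q := by rw [pgoAut_eq]; exact ⟨g, rfl⟩
  have hrp : simHom Q ⟨r, iso_sim hr⟩ ∈ Cfsg.pgoAut F Q := by rw [pgoAut_eq]; exact ⟨_, rfl⟩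
  refine dihedral_of h8 (r := QuotientGroup.mk ⟨_, hrp⟩) (g := QuotientGroup.mk ⟨_, hgp⟩) ?_ ?_
  · rw [← QuotientGroup.mk_mul]
    refine (QuotientGroup.eq_one_iff _).2 ?_
    rw [Subgroup.mem_subgroupOf]
    show simHom Q ⟨r, iso_sim hr⟩ * simHom Q ⟨r, iso_sim hr⟩ ∈ _
    rw [← map_mul, show (⟨r, iso_sim hr⟩ : ↥(Sim Q)) * ⟨r, iso_sim hr⟩ = 1 from Subtype.ext hrr, map_one]
    exact one_mem _
  · intro he
    rw [← QuotientGroup.mk_mul, ← QuotientGroup.mk_mul] at he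
    have hm := QuotientGroup.eq.1 he
    rw [Subgroup.mem_subgroupOf] at hm
    have hm' : simHom Q ((g * ⟨r, iso_sim hr⟩)⁻¹ * (⟨r, iso_sim hr⟩ * g)) ∈ Cfsg.Inn (Cfsg.POmega F Q) := by
      rw [map_mul, map_inv, map_mul, map_mul]; exact hm
    have hrinv : r⁻¹ = r := inv_eq_of_mul_eq_one_right hrr
    obtain ⟨x, hx⟩ : ∃ x, x = g.1⁻¹ * r * g.1⁻¹⁻¹ := ⟨_, rfl⟩
    have hgi : ∀ y, Q (((g.1⁻¹ : GL ι F) : Matrix ι ι F) *ᵥ y) = ((c⁻¹ : Fˣ) : F) * Q y := fun y => by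
      rw [← hg1, ← map_inv]; exact simMult_spec hQ hn1 g⁻¹ y
    have hxr := refl_conj_sim hQ hgi (Units.ne_zero _) hrv
    rw [← hx] at hxr
    have hw0 : Q (((g.1⁻¹ : GL ι F) : Matrix ι ι F) *ᵥ v) ≠ 0 := by
      rw [hgi, hv, mul_one]; exact Units.ne_zero _
    have hxi : x ∈ Cfsg.isometryGroup F Q := by
      obtain ⟨s, hs, hsv⟩ := exists_refl hQ hw0
      rw [hxr.unique hsv]; exact hs
    have heq : ((g * ⟨r, iso_sim hr⟩)⁻¹ * (⟨r, iso_sim hr⟩ * g) : ↥(Sim Q)) = ⟨r * x, iso_sim (mul_mem hr hxi)⟩ := by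
      refine Subtype.ext ?_
      show (g.1 * r)⁻¹ * (r * g.1) = r * x
      rw [hx, inv_inv, _root_.mul_inv_rev, hrinv]
      group
    rw [heq, mem_inn_iff hQ hn h2 hk (mul_mem hr hxi), hneg, or_self,
      (spn_mul hQ (iso_le_reflGroup hQ hex hr) hxi).1, (refl_spn hQ hr hrv hv0).2, (refl_spn hQ hxi hxr hw0).2, hv,
      sqc_one, one_mul, hgi, hv, mul_one, sqc_eq_one_iff (Units.ne_zero _)] at hm'
    exact hc (by simpa using hm'.2)

/-- `PGO / Inn` when `-1 ∉ Omega` -/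
theorem pgo_mod_inn_klein (hn : 5 ≤ Fintype.card ι) (h2 : (2 : F) ≠ 0) {k : ℕ} (hk : Fintype.card ι = k + k)
    (hsim : ∀ c : Fˣ, ∃ g : ↥(Sim Q), simMult hQ (by omega) g = c ∧ simSign hQ (by omega) k g = 1)
    (hneg : spn Q (-1 : GL ι F) ≠ 1) :
    ∃ φ : ↥(Cfsg.pgoAut F Q) →* Multiplicative (ZMod 2 × ZMod 2),
      Function.Surjective φ ∧ φ.ker = (Cfsg.Inn (Cfsg.POmega F Q)).subgroupOf (Cfsg.pgoAut F Q) := by
  rw [← psoAut_eq_inn hQ hn h2 hk hneg]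
  exact pgo_mod_pso hQ hn h2 hk hsim

/-- `Inndiag / Inn` when `-1 ∉ Omega` -/
theorem diag_mod_inn_two (hn : 5 ≤ Fintype.card ι) (h2 : (2 : F) ≠ 0) {k : ℕ} (hk : Fintype.card ι = k + k)
    (hsim : ∀ c : Fˣ, ∃ g : ↥(Sim Q), simMult hQ (by omega) g = c ∧ simSign hQ (by omega) k g = 1)
    (hneg : spn Q (-1 : GL ι F) ≠ 1) :
    ∃ φ : ↥(diagSub hQ (by omega) k) →* Multiplicative (ZMod 2),
      Function.Surjective φ ∧ φ.ker = (Cfsg.Inn (Cfsg.POmega F Q)).subgroupOf (diagSub hQ (by omega) k) := by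
  haveI := inn_normal (Cfsg.POmega F Q)
  refine exists_quot _ (zmod2_of ?_)
  show Subgroup.index _ = 2
  rw [← Subgroup.relIndex, ← psoAut_eq_inn hQ hn h2 hk hneg, relIndex_pso_diag hQ hn h2 hk hsim]

/-- `Inndiag / Inn` when `-1 ∈ Omega`, decided by one square -/
theorem diag_mod_inn_four (hn : 5 ≤ Fintype.card ι) (h2 : (2 : F) ≠ 0) {k : ℕ} (hk : Fintype.card ι = k + k)
    (hsim : ∀ c : Fˣ, ∃ g : ↥(Sim Q), simMult hQ (by omega) g = c ∧ simSign hQ (by omega) k g = 1)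
    (hneg : spn Q (-1 : GL ι F) = 1) {g : ↥(Sim Q)} {c : Fˣ} (hc : ¬ IsSquare (c : F))
    (hg1 : simMult hQ (by omega) g = c) (hg2 : simSign hQ (by omega) k g = 1) {h : GL ι F}
    (hhi : h ∈ Cfsg.isometryGroup F Q) (hhd : (h : Matrix ι ι F).det = 1)
    (hsq : g * g = scalarSim hQ c * ⟨h, iso_sim hhi⟩) :
    (spn Q h ≠ 1 → ∃ φ : ↥(diagSub hQ (by omega) k) →* Multiplicative (ZMod 4),
      Function.Surjective φ ∧ φ.ker = (Cfsg.Inn (Cfsg.POmega F Q)).subgroupOf (diagSub hQ (by omega) k)) ∧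
    (spn Q h = 1 → ∃ φ : ↥(diagSub hQ (by omega) k) →* Multiplicative (ZMod 2 × ZMod 2),
      Function.Surjective φ ∧ φ.ker = (Cfsg.Inn (Cfsg.POmega F Q)).subgroupOf (diagSub hQ (by omega) k)) := by
  haveI := inn_normal (Cfsg.POmega F Q)
  have hn1 : 1 ≤ Fintype.card ι := by omega
  have h4 : Nat.card (↥(diagSub hQ hn1 k) ⧸ (Cfsg.Inn (Cfsg.POmega F Q)).subgroupOf (diagSub hQ hn1 k)) = 4 := by
    show Subgroup.index _ = 4
    rw [← Subgroup.relIndex, ← Subgroup.relIndex_mul_relIndex _ (Cfsg.psoAut F Q) _ (inn_le_psoAut hQ hn h2)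
      (psoAut_le_diagSub hQ hn hk), relIndex_inn_pso hQ hn h2 hk hneg, relIndex_pso_diag hQ hn h2 hk hsim]
  have hgd := (mem_diagSub_iff hQ hn hk g).2 hg2
  have hgg : simHom Q g * simHom Q g ∈ Cfsg.Inn (Cfsg.POmega F Q) ↔ spn Q h = 1 := by
    rw [← map_mul, hsq, map_mul, scalar_mem_simHom_ker hQ hn, one_mul, mem_inn_iff hQ hn h2 hk hhi, hneg, or_self]
    simp [hhd]
  constructor
  · intro hne
    refine exists_quot _ (zmod4_of_sq h4 (g := QuotientGroup.mk ⟨_, hgd⟩) fun he => ?_)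
    rw [← QuotientGroup.mk_mul] at he
    have := (QuotientGroup.eq_one_iff _).1 he
    rw [Subgroup.mem_subgroupOf] at this
    exact hne (hgg.1 this)
  · intro he1
    obtain ⟨u, hu, hud, hus⟩ := exists_rot hQ hn h2
    have hud' : simHom Q ⟨u, iso_sim hu⟩ ∈ diagSub hQ (by omega) k :=
      (mem_diagSub_iff hQ hn hk _).2 ((simSign_iso hQ _ k (g := ⟨u, iso_sim hu⟩) hu).2 hud)
    have hu_not : simHom Q ⟨u, iso_sim hu⟩ ∉ Cfsg.Inn (Cfsg.POmega F Q) := fun h' => by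
      rw [mem_inn_iff hQ hn h2 hk hu, hneg, or_self] at h'
      exact hus h'.2
    have hg_not : simHom Q g ∉ Cfsg.psoAut F Q := fun h' => by
      rw [mem_psoAut_iff hQ hn hk, hg1] at h'
      exact hc h'.1
    refine exists_quot _ (klein_of_pair h4 (g := QuotientGroup.mk ⟨_, hgd⟩) (u := QuotientGroup.mk ⟨_, hud'⟩) ?_ ?_ ?_ ?_ ?_)
    · rw [← QuotientGroup.mk_mul]
      exact (QuotientGroup.eq_one_iff _).2 (Subgroup.mem_subgroupOf.2 (hgg.2 he1))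
    · rw [← QuotientGroup.mk_mul]
      refine (QuotientGroup.eq_one_iff _).2 (Subgroup.mem_subgroupOf.2 ?_)
      show simHom Q ⟨u, iso_sim hu⟩ * simHom Q ⟨u, iso_sim hu⟩ ∈ _
      rw [← map_mul]
      refine (mem_inn_iff hQ hn h2 hk (u := u * u) (mul_mem hu hu)).2 ⟨?_, Or.inl ?_⟩
      · rw [Units.val_mul, Matrix.det_mul, hud, one_mul]
      · rw [(spn_mul hQ (iso_le_reflGroup hQ (hex_of_two h2) hu) hu).1, sq_sqclass_eq_one]
    · exact fun e => hg_not (inn_le_psoAut hQ hn h2 (Subgroup.mem_subgroupOf.1 ((QuotientGroup.eq_one_iff _).1 e)))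
    · exact fun e => hu_not (Subgroup.mem_subgroupOf.1 ((QuotientGroup.eq_one_iff _).1 e))
    · intro e
      have e' := Subgroup.mem_subgroupOf.1 (QuotientGroup.eq.1 e.symm)
      have hup : simHom Q ⟨u, iso_sim hu⟩ ∈ Cfsg.psoAut F Q := by
        rw [psoAut_eq]
        exact ⟨⟨u, iso_sim hu⟩, ⟨hu, (Units.ext hud : Matrix.GeneralLinearGroup.det u = 1)⟩, rfl⟩
      refine hg_not ?_
      have := mul_mem hup (inn_le_psoAut hQ hn h2 e')
      simpa using this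

end CfsgLib.Orth
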