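import Cfsg.Agent.Lib.Orth.ReflProducts

/-!
# Index two subgroups: products of two reflections in the same class are squares
-/

set_option autoImplicit false
set_option linter.all false

namespace CfsgLib.Orth

open scoped Matrix
open Matrix Cfsg.Geo CfsgLib.Perm.Asch CfsgLib.Perm.Trans CfsgLib.Perm.Trans.Quad

variable {ι : Type} [Fintype ι] [DecidableEq ι] {F : Type*} [Field F] [Fintype F]
variable {Q : (ι → F) → F}

local notation "pol" => QuadraticMap.polar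

variable (hQ : IsNondegenerateQuadraticForm Q)
include hQ

/-- the bisecting vector -/
theorem exists_bisector (h2 : (2 : F) ≠ 0) {u v : ι → F} (hu : Q u ≠ 0) (hc : sqc (Q u) = sqc (Q v)) (hv : Q v ≠ 0)
    {r s : GL ι F} (hr : r ∈ Cfsg.isometryGroup F Q) (hs : s ∈ Cfsg.isometryGroup F Q) (hru : IsRefl Q u r)
    (hsv : IsRefl Q v s) : ∃ w, Q w ≠ 0 ∧ w ∈ Submodule.span F ({u, v} : Set (ι → F)) ∧
      ∀ t : GL ι F, t ∈ Cfsg.isometryGroup F Q → IsRefl Q w t → s = t * r * t ∧ t * t = 1 := by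
  have hsq : IsSquare (Q u * Q v) := by
    rw [← sqc_eq_one_iff (mul_ne_zero hu hv), sqc_mul hu hv, hc, sqc_mul_self hv]
  obtain ⟨k, hk⟩ := hsq
  have hk0 : k ≠ 0 := fun e => mul_ne_zero hu hv (by rw [hk, e, mul_zero])
  obtain ⟨v', hv'⟩ : ∃ v', v' = (k / Q v) • v := ⟨_, rfl⟩
  have hval : Q v' = Q u := by
    rw [hv', qsmul hQ, div_pow, sq k, ← hk]
    field_simp
  have hsv' : IsRefl Q v' s := hv' ▸ hsv.smul hQ (div_ne_zero hk0 hv)
  have hmem : v' ∈ Submodule.span F ({u, v} : Set (ι → F)) :=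
    hv' ▸ Submodule.smul_mem _ _ (Submodule.subset_span (Or.inr rfl))
  have hmemu : u ∈ Submodule.span F ({u, v} : Set (ι → F)) := Submodule.subset_span (Or.inl rfl)
  have key : ∀ ε : F, ε = 1 ∨ ε = -1 → Q (u - ε • v') ≠ 0 → ∃ w, Q w ≠ 0 ∧
      w ∈ Submodule.span F ({u, v} : Set (ι → F)) ∧
      ∀ t : GL ι F, t ∈ Cfsg.isometryGroup F Q → IsRefl Q w t → s = t * r * t ∧ t * t = 1 := by
    intro ε hε hne
    refine ⟨_, hne, Submodule.sub_mem _ hmemu (Submodule.smul_mem _ _ hmem), fun t ht htw => ?_⟩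
    have htt := refl_mul_self hQ htw hne
    refine ⟨?_, htt⟩
    have hval' : Q u = Q (ε • v') := by
      rw [qsmul hQ, hval]; rcases hε with rfl | rfl <;> ring
    have hmv : (t : Matrix ι ι F) *ᵥ u = ε • v' := refl_moves hQ hval' hne htw
    have h := hru.conj ht
    rw [hmv, show t⁻¹ = t from inv_eq_of_mul_eq_one_left htt] at h
    refine IsRefl.unique ?_ h
    exact hsv'.smul hQ (by rcases hε with rfl | rfl <;> simp)
  by_cases hd : Q (u - v') = 0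
  · refine key (-1) (Or.inr rfl) ?_
    rw [neg_one_smul, sub_neg_eq_add, qadd hQ, hval]
    rw [qsub hQ, hval] at hd
    intro h
    exact mul_ne_zero (mul_ne_zero h2 h2) hu (by linear_combination h + hd)
  · exact key 1 (Or.inl rfl) (by rwa [one_smul])

/-- products of two reflections of the same class are squares of elements of determinant one -/
theorem refl_pair_sq (h2 : (2 : F) ≠ 0) {u v : ι → F} (hu : Q u ≠ 0) (hv : Q v ≠ 0) (hc : sqc (Q u) = sqc (Q v))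
    {r s : ↥(Cfsg.isometryGroup F Q)} (hru : IsRefl Q u r.1) (hsv : IsRefl Q v s.1) :
    ∃ x : ↥(Cfsg.isometryGroup F Q), x ∈ Cfsg.specialIsometryGroup F Q ∧ r * s = x * x := by
  obtain ⟨w, hw, -, hwt⟩ := exists_bisector hQ h2 hu hc hv r.2 s.2 hru hsv
  obtain ⟨t, ht, htw⟩ := exists_refl hQ hw
  obtain ⟨e, -⟩ := hwt t ht htw
  refine ⟨r * ⟨t, ht⟩, ?_, Subtype.ext ?_⟩
  · show Matrix.GeneralLinearGroup.det (r.1 * t) = 1
    refine Units.ext ?_
    rw [Matrix.GeneralLinearGroup.val_det_apply, Units.val_mul, Matrix.det_mul, det_refl hQ hru hu, det_refl hQ htw hw,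
      Units.val_one]
    ring
  · show r.1 * s.1 = r.1 * t * (r.1 * t)
    rw [e]
    group

/-- the unique subgroup of index two of the special isometry group -/
theorem special_index_two_eq (h2 : (2 : F) ≠ 0) (hn : 2 ≤ Fintype.card ι)
    (H : Subgroup ↥(Cfsg.specialIsometryGroup F Q)) (hH : H.index = 2) :
    ∀ g : ↥(Cfsg.specialIsometryGroup F Q), g ∈ H ↔ spn Q g.1.1 = 1 := by
  have hex : Fintype.card F ≠ 2 ∨ Fintype.card ι ≠ 4 := hex_of_two h2
  have hmem : ∀ x : ↥(Cfsg.isometryGroup F Q), x ∈ Cfsg.specialIsometryGroup F Q ↔ Even (wrk x.1) := by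
    intro x
    rw [← det_eq_one_iff hQ h2 x.2]
    show Matrix.GeneralLinearGroup.det x.1 = 1 ↔ _
    rw [Units.ext_iff, Matrix.GeneralLinearGroup.val_det_apply, Units.val_one]
  obtain ⟨δ, hδ⟩ := FiniteField.exists_nonsquare (F := F) (fun e => h2 (by
    haveI := ringChar.of_eq e; exact CharTwo.two_eq_zero))
  have hd0 : δ ≠ 0 := fun e => hδ (e ▸ IsSquare.zero)
  obtain ⟨va, hva⟩ := exists_value hQ h2 hn 1
  obtain ⟨vb, hvb⟩ := exists_value hQ h2 hn δ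
  have ha0 : Q va ≠ 0 := by rw [hva]; exact one_ne_zero
  have hb0 : Q vb ≠ 0 := by rw [hvb]; exact hd0
  obtain ⟨ra, hra, hrva⟩ := exists_refl hQ ha0
  obtain ⟨rb, hrb, hrvb⟩ := exists_refl hQ hb0
  have hpairSO : ∀ (r s : ↥(Cfsg.isometryGroup F Q)) u v, Q u ≠ 0 → Q v ≠ 0 → IsRefl Q u r.1 → IsRefl Q v s.1 →
      r * s ∈ Cfsg.specialIsometryGroup F Q := fun r s u v hu hv hr hs => by
    rw [hmem]
    show Even (wrk (r.1 * s.1))
    rw [(spn_mul hQ (iso_le_reflGroup hQ hex r.2) s.2).2, (refl_spn hQ r.2 hr hu).1, (refl_spn hQ s.2 hs hv).1]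
  have hsame : ∀ (r s : ↥(Cfsg.isometryGroup F Q)) u v (hu : Q u ≠ 0) (hv : Q v ≠ 0) (hr : IsRefl Q u r.1)
      (hs : IsRefl Q v s.1), sqc (Q u) = sqc (Q v) →
      (⟨r * s, hpairSO r s u v hu hv hr hs⟩ : ↥(Cfsg.specialIsometryGroup F Q)) ∈ H := by
    intro r s u v hu hv hr hs hc
    obtain ⟨x, hx, e⟩ := refl_pair_sq hQ h2 hu hv hc hr hs
    have := Subgroup.mul_self_mem_of_index_two hH (⟨x, hx⟩ : ↥(Cfsg.specialIsometryGroup F Q))
    convert this using 1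
    exact Subtype.ext e
  obtain ⟨Z, hZ⟩ : ∃ Z : ↥(Cfsg.specialIsometryGroup F Q), Z = ⟨⟨ra, hra⟩ * ⟨rb, hrb⟩,
      hpairSO _ _ va vb ha0 hb0 hrva hrvb⟩ := ⟨_, rfl⟩
  have hval : ∀ g : ↥(Cfsg.specialIsometryGroup F Q), spn Q g.1.1 = 1 ∨ spn Q g.1.1 = sqc δ := fun g => by
    obtain ⟨u, hu⟩ : ∃ u : Fˣ, sqMk F u = spn Q g.1.1 := QuotientGroup.mk'_surjective _ _
    rw [← hu, show sqMk F u = sqc (u : F) by
      unfold sqc; rw [dif_neg u.ne_zero]; exact congrArg _ (Units.ext rfl)]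
    exact sqc_dichotomy hδ u.ne_zero
  have hgen : ∀ (r s : ↥(Cfsg.isometryGroup F Q)) u v (hu : Q u ≠ 0) (hv : Q v ≠ 0) (hr : IsRefl Q u r.1)
      (hs : IsRefl Q v s.1),
      (sqc (Q u) = sqc (Q v) → (⟨r * s, hpairSO r s u v hu hv hr hs⟩ : ↥(Cfsg.specialIsometryGroup F Q)) ∈ H) ∧
      (sqc (Q u) ≠ sqc (Q v) →
        ((⟨r * s, hpairSO r s u v hu hv hr hs⟩ : ↥(Cfsg.specialIsometryGroup F Q)) ∈ H ↔ Z ∈ H)) := by
    intro r s u v hu hv hr hs
    refine ⟨hsame r s u v hu hv hr hs, fun hne => ?_⟩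
    rcases sqc_dichotomy hδ hu with h1 | h1 <;> rcases sqc_dichotomy hδ hv with h2' | h2'
    · exact absurd (h1.trans h2'.symm) hne
    · have e : (⟨r * s, hpairSO r s u v hu hv hr hs⟩ : ↥(Cfsg.specialIsometryGroup F Q)) =
          ⟨r * ⟨ra, hra⟩, hpairSO r _ u va hu ha0 hr hrva⟩ * Z *
            ⟨⟨rb, hrb⟩ * s, hpairSO _ s vb v hb0 hv hrvb hs⟩ := by
        refine Subtype.ext (Subtype.ext ?_)
        rw [hZ]
        show r.1 * s.1 = r.1 * ra * (ra * rb) * (rb * s.1)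
        rw [show r.1 * ra * (ra * rb) * (rb * s.1) = r.1 * (ra * ra) * (rb * rb) * s.1 by group,
          refl_mul_self hQ hrva ha0, refl_mul_self hQ hrvb hb0, mul_one, mul_one]
      rw [e, H.mul_mem_cancel_right (hsame ⟨rb, hrb⟩ s vb v hb0 hv hrvb hs (by rw [hvb, h2'])),
        H.mul_mem_cancel_left (hsame r ⟨ra, hra⟩ u va hu ha0 hr hrva (by rw [hva, sqc_one, h1]))]
    · have e : (⟨r * s, hpairSO r s u v hu hv hr hs⟩ : ↥(Cfsg.specialIsometryGroup F Q)) =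
          ⟨r * ⟨rb, hrb⟩, hpairSO r _ u vb hu hb0 hr hrvb⟩ * Z⁻¹ *
            ⟨⟨ra, hra⟩ * s, hpairSO _ s va v ha0 hv hrva hs⟩ := by
        refine Subtype.ext (Subtype.ext ?_)
        rw [hZ]
        show r.1 * s.1 = r.1 * rb * (ra * rb)⁻¹ * (ra * s.1)
        group
      rw [e, H.mul_mem_cancel_right (hsame ⟨ra, hra⟩ s va v ha0 hv hrva hs (by rw [hva, sqc_one, h2'])),
        H.mul_mem_cancel_left (hsame r ⟨rb, hrb⟩ u vb hu hb0 hr hrvb (by rw [hvb, h1])), inv_mem_iff]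
    · exact absurd (h1.trans h2'.symm) hne
  have hδ1 : sqc δ ≠ 1 := fun e => hδ ((sqc_eq_one_iff hd0).1 e)
  intro g
  obtain ⟨Qb, rfl⟩ : ∃ Qb : QuadraticForm F (ι → F), ⇑Qb = Q :=
    ⟨QuadraticMap.ofPolar Q (fun c x => by rw [qsmul hQ, sq, smul_eq_mul]) (padd_left hQ)
      (fun c x y => by rw [psmul_left hQ, smul_eq_mul]), rfl⟩
  have hQb : (QuadraticMap.polarBilin Qb).Nondegenerate :=
    ⟨fun x hx => by
      by_contra hne
      obtain ⟨-, y, hy⟩ := hQ.nondegenerate x hne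
      exact hy (hx y), fun x hx => by
      by_contra hne
      obtain ⟨⟨y, hy⟩, -⟩ := hQ.nondegenerate x hne
      exact hy (hx y)⟩
  have hclo : ∀ x : ↥(Cfsg.isometryGroup F ⇑Qb), x ∈ Cfsg.specialIsometryGroup F ⇑Qb ↔
      x ∈ Subgroup.closure {g : ↥(Cfsg.isometryGroup F ⇑Qb) | ∃ u v : ι → F, Qb u ≠ 0 ∧ Qb v ≠ 0 ∧
        ((g : GL ι F) : Matrix ι ι F) = Cfsg.reflectionMatrix ⇑Qb u * Cfsg.reflectionMatrix ⇑Qb v} := fun x => by
    rw [hmem, even_mem_closure_pairs hQb (by omega) hex]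
  have hind : ∀ P : ↥(Cfsg.specialIsometryGroup F ⇑Qb) → Prop, P 1 →
      (∀ a b, P a → P b → P (a * b)) → (∀ a, P a → P a⁻¹) →
      (∀ (r s : ↥(Cfsg.isometryGroup F ⇑Qb)) u v (hu : Qb u ≠ 0) (hv : Qb v ≠ 0) (hr : IsRefl (⇑Qb) u r.1)
        (hs : IsRefl (⇑Qb) v s.1), P ⟨r * s, hpairSO r s u v hu hv hr hs⟩) → ∀ g, P g := by
    intro P h1 hm hi hp g
    obtain ⟨x, hx⟩ := g
    have hx' := (hclo x).1 hx
    induction hx' using Subgroup.closure_induction with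
    | mem y hy =>
      obtain ⟨u, v, hu, hv, hy⟩ := hy
      obtain ⟨r, hr, hru⟩ := exists_reflIso hQb hu
      obtain ⟨s, hs, hsv⟩ := exists_reflIso hQb hv
      have e : y = r * s := Subtype.ext (Units.ext (by rw [hy, ← hr, ← hs]; rfl))
      subst e
      exact hp r s u v hu hv hru hsv
    | one => exact h1
    | mul a b ha hb iha ihb => exact hm ⟨a, (hclo a).2 ha⟩ ⟨b, (hclo b).2 hb⟩ (iha _) (ihb _)
    | inv a ha iha => exact hi ⟨a, (hclo a).2 ha⟩ (iha _)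
  have hZn : Z ∉ H := by
    intro hZH
    have htop : H = ⊤ := eq_top_iff.2 fun x _ => hind (fun x => x ∈ H) (one_mem H) (fun a b => mul_mem)
      (fun a => inv_mem) (fun r s u v hu hv hr hs => by
        by_cases hc : sqc (Qb u) = sqc (Qb v)
        · exact (hgen r s u v hu hv hr hs).1 hc
        · exact ((hgen r s u v hu hv hr hs).2 hc).2 hZH) x
    rw [htop, Subgroup.index_top] at hH
    omega
  have hspn : ∀ a b : ↥(Cfsg.specialIsometryGroup F ⇑Qb),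
      spn (⇑Qb) (a * b).1.1 = spn (⇑Qb) a.1.1 * spn (⇑Qb) b.1.1 := fun a b =>
    (spn_mul hQ (iso_le_reflGroup hQ hex a.1.2) b.1.2).1
  refine hind (fun g => g ∈ H ↔ spn (⇑Qb) g.1.1 = 1) (iff_of_true (one_mem H) (spn_one hQ).2) (fun a b ha hb => ?_)
    (fun a ha => ?_) (fun r s u v hu hv hr hs => ?_) g
  · rw [Subgroup.mul_mem_iff_of_index_two hH, ha, hb, hspn]
    rcases hval a with h1 | h1 <;> rcases hval b with h2' | h2' <;> simp [h1, h2', hδ1, sqc_mul_self hd0]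
  · have h := hspn a a⁻¹
    rw [mul_inv_cancel] at h
    change spn (⇑Qb) (1 : GL ι F) = _ at h
    rw [(spn_one hQ).2] at h
    rw [inv_mem_iff, ha, show spn (⇑Qb) (a⁻¹).1.1 = (spn (⇑Qb) a.1.1)⁻¹ from eq_inv_of_mul_eq_one_right h.symm,
      inv_eq_one]
  · have h : spn (⇑Qb) (r.1 * s.1) = sqc (Qb u) * sqc (Qb v) := by
      rw [(spn_mul hQ (iso_le_reflGroup hQ hex r.2) s.2).1, (refl_spn hQ r.2 hr hu).2, (refl_spn hQ s.2 hs hv).2]
    show _ ↔ spn (⇑Qb) (r.1 * s.1) = 1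
    rw [h]
    by_cases hc : sqc (Qb u) = sqc (Qb v)
    · exact iff_of_true ((hgen r s u v hu hv hr hs).1 hc) (by rw [hc, sqc_mul_self hv])
    · refine iff_of_false (fun h' => hZn (((hgen r s u v hu hv hr hs).2 hc).1 h')) fun h' => hc ?_
      rw [← mul_left_inj (sqc (Qb v)), h', sqc_mul_self hv]

end CfsgLib.Orth
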