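import Cfsg.Agent.Lib.Orth.Gen
import Cfsg.Agent.Lib.Perm.Trans.QuadB
import Cfsg.Prelude.Def_SporadicB

/-!
# The transvections of an orthogonal group over the field with two elements form a class of 3-transpositions
-/

set_option autoImplicit false
set_option linter.all false

namespace CfsgLib.Orth.TransvThree

open scoped Matrix
open Matrix Cfsg.Geo CfsgLib.Perm.Asch CfsgLib.Perm.Trans CfsgLib.Perm.Trans.Quad

variable {ι : Type} [Fintype ι] [DecidableEq ι] {Q : (ι → ZMod 2) → ZMod 2}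

local notation "pol" => QuadraticMap.polar

theorem zmod_cases : ∀ a : ZMod 2, a = 0 ∨ a = 1 := by decide

theorem refl_apply {p : ι → ZMod 2} {g : GL ι (ZMod 2)} (hp : Q p = 1) (hg : IsRefl Q p g) (x : ι → ZMod 2) :
    (g : Matrix ι ι (ZMod 2)) *ᵥ x = x + pol Q x p • p := by
  rw [hg, hp, inv_one, one_mul, sub_eq_add_neg, ← neg_smul, ZModModule.neg_eq_self]

variable (hQ : IsNondegenerateQuadraticForm Q)
include hQ

theorem ne_zero_of_norm {p : ι → ZMod 2} (hp : Q p = 1) : p ≠ 0 := fun e => by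
  rw [e, qzero hQ] at hp
  exact zero_ne_one hp

theorem refl_sq {p : ι → ZMod 2} {g : GL ι (ZMod 2)} (hp : Q p = 1) (hg : IsRefl Q p g) : g * g = 1 :=
  refl_mul_self hQ hg (by rw [hp]; exact one_ne_zero)

theorem refl_inv {p : ι → ZMod 2} {g : GL ι (ZMod 2)} (hp : Q p = 1) (hg : IsRefl Q p g) : g⁻¹ = g :=
  inv_eq_of_mul_eq_one_right (refl_sq hQ hp hg)

theorem refl_ne_one {p : ι → ZMod 2} {g : GL ι (ZMod 2)} (hp : Q p = 1) (hg : IsRefl Q p g) : g ≠ 1 := fun e => by
  obtain ⟨x, hx⟩ := (hQ.nondegenerate p (ne_zero_of_norm hQ hp)).1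
  have h1 := refl_apply hp hg x
  rw [e, Units.val_one, one_mulVec, left_eq_add, smul_eq_zero] at h1
  refine h1.elim (fun h => hx ?_) (ne_zero_of_norm hQ hp)
  exact h

variable {p r : ι → ZMod 2} {g k : GL ι (ZMod 2)} (hp : Q p = 1) (hr : Q r = 1) (hg : IsRefl Q p g)
  (hk : IsRefl Q r k) (hgQ : g ∈ Cfsg.isometryGroup (ZMod 2) Q) (hkQ : k ∈ Cfsg.isometryGroup (ZMod 2) Q)
include hp hr hg hk hgQ

theorem commute (h : pol Q p r = 0) : g * k = k * g := by
  have h1 := hk.conj hgQ
  rw [refl_apply hp hg, pcomm r p, h, zero_smul, add_zero] at h1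
  exact mul_inv_eq_iff_eq_mul.1 (h1.unique hk)

include hkQ

theorem braid (h : pol Q p r = 1) : g * k * g = k * g * k := by
  have h1 := hk.conj hgQ
  have h2 := hg.conj hkQ
  rw [refl_inv hQ hp hg, refl_apply hp hg, pcomm r p, h, one_smul, add_comm] at h1
  rw [refl_inv hQ hr hk, refl_apply hr hk, h, one_smul] at h2
  exact h1.unique h2

omit hp hr hg hk hgQ hkQ

/-- Two vectors of norm one have a common non-orthogonal vector of norm one. -/
theorem exists_link (hn : 6 ≤ Fintype.card ι) {p r : ι → ZMod 2} (hp : Q p = 1) (hr : Q r = 1) :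
    ∃ z, Q z = 1 ∧ pol Q z p = 1 ∧ pol Q z r = 1 := by
  obtain ⟨w, hwp, hwr⟩ : ∃ w, pol Q w p = 1 ∧ pol Q w r = 1 := by
    obtain ⟨a, ha⟩ := (hQ.nondegenerate p (ne_zero_of_norm hQ hp)).1
    obtain ⟨b, hb⟩ := (hQ.nondegenerate r (ne_zero_of_norm hQ hr)).1
    have ha' := (zmod_cases _).resolve_left ha
    have hb' := (zmod_cases _).resolve_left hb
    rcases zmod_cases (pol Q a r) with h1 | h1
    · rcases zmod_cases (pol Q b p) with h2 | h2
      · exact ⟨a + b, by rw [padd_left hQ, ha', h2, add_zero], by rw [padd_left hQ, h1, hb', zero_add]⟩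
      · exact ⟨b, h2, hb'⟩
    · exact ⟨a, ha', h1⟩
  rcases zmod_cases (Q w) with hw | hw
  · obtain ⟨K, hKdef⟩ : ∃ K, K = qperp hQ (Submodule.span (ZMod 2) {p, r}) := ⟨_, rfl⟩
    by_cases hu : ∃ u ∈ K, Q u + pol Q w u = 1
    · obtain ⟨u, hu, hu1⟩ := hu
      rw [hKdef, mem_qperp_span] at hu
      refine ⟨w + u, ?_, ?_, ?_⟩
      · rw [qadd hQ, hw, zero_add, hu1]
      · rw [padd_left hQ, hwp, hu p (Or.inl rfl), add_zero]
      · rw [padd_left hQ, hwr, hu r (Or.inr rfl), add_zero]
    · push Not at hu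
      exfalso
      have hval : ∀ u ∈ K, Q u = pol Q w u := fun u h => by
        have h0 := (zmod_cases _).resolve_right (hu u h)
        rwa [← ZModModule.sub_eq_add, sub_eq_zero] at h0
      have hiso : K ≤ qperp hQ K := fun x hx y hy => by
        have h1 := hval (x + y) (K.add_mem hx hy)
        rw [qadd hQ, padd_right hQ, hval x hx, hval y hy] at h1
        exact add_eq_left.1 h1
      have h2 : Module.finrank (ZMod 2) (Submodule.span (ZMod 2) ({p, r} : Set (ι → ZMod 2))) ≤ 2 := by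
        have h := finrank_span_finset_le_card (R := ZMod 2) ({p, r} : Finset (ι → ZMod 2))
        rw [Finset.coe_pair] at h
        exact h.trans Finset.card_le_two
      have h3 : Fintype.card ι ≤ Module.finrank (ZMod 2) K + 2 := by
        have := finrank_qperp hQ (Submodule.span (ZMod 2) ({p, r} : Set (ι → ZMod 2)))
        rw [← hKdef] at this
        omega
      have h4 := Submodule.finrank_mono hiso
      have h5 : Module.finrank (ZMod 2) (qperp hQ K) + Module.finrank (ZMod 2) K ≤ Fintype.card ι := by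
        let T : (ι → ZMod 2) →ₗ[ZMod 2] (K →ₗ[ZMod 2] ZMod 2) :=
          { toFun := fun v => (pfl hQ v).comp K.subtype
            map_add' := fun a b => LinearMap.ext fun x => padd_right hQ (x : ι → ZMod 2) a b
            map_smul' := fun c a => LinearMap.ext fun x => psmul_right hQ c (x : ι → ZMod 2) a }
        have hker : qperp hQ K ≤ LinearMap.ker T := fun v hv => LinearMap.ext fun x => by
          show pol Q (x : ι → ZMod 2) v = 0
          rw [pcomm]; exact hv x.1 x.2
        have hsurj : LinearMap.range T = ⊤ := LinearMap.range_eq_top.2 fun φ => by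
          obtain ⟨ψ, hψ⟩ := LinearMap.exists_extend φ
          obtain ⟨v, hv⟩ := exists_prep hQ (fvec ψ)
          refine ⟨v, LinearMap.ext fun x => ?_⟩
          show pol Q (x : ι → ZMod 2) v = φ x
          rw [hv, fvec_dot, ← hψ]; rfl
        have h6 := LinearMap.finrank_range_add_finrank_ker T
        rw [Module.finrank_fintype_fun_eq_card, hsurj, finrank_top] at h6
        have h7 : Module.finrank (ZMod 2) (K →ₗ[ZMod 2] ZMod 2) = Module.finrank (ZMod 2) K := Subspace.dual_finrank_eq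
        have h8 := Submodule.finrank_mono hker
        omega
      omega
  · exact ⟨w, hw, hwp, hwr⟩

/-- The rank one isometries are the transvections at vectors of norm one. -/
theorem rank_one_iff (g : ↥(Cfsg.isometryGroup (ZMod 2) Q)) :
    ((g.1 : Matrix ι ι (ZMod 2)) - 1).rank = 1 ↔ ∃ p, Q p = 1 ∧ IsRefl Q p g.1 := by
  constructor
  · intro hg
    have hg' := hg
    rw [Matrix.rank, finrank_eq_one_iff'] at hg'
    obtain ⟨⟨p, hpr⟩, hp0, hall⟩ := hg'
    have hp : p ≠ 0 := fun e => hp0 (Subtype.ext e)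
    have hc : ∀ x, ∃ c : ZMod 2, (g.1 : Matrix ι ι (ZMod 2)) *ᵥ x = x + c • p := fun x => by
      obtain ⟨c, hc⟩ := hall ⟨((g.1 : Matrix ι ι (ZMod 2)) - 1).mulVecLin x, LinearMap.mem_range_self _ x⟩
      refine ⟨c, ?_⟩
      have h1 := congrArg Subtype.val hc
      simp only [SetLike.val_smul, Matrix.mulVecLin_apply, Matrix.sub_mulVec, Matrix.one_mulVec] at h1
      rw [h1]; abel
    choose c hc using hc
    have hadd : ∀ x y, c (x + y) = c x + c y := fun x y => by
      refine smul_left_injective (ZMod 2) hp ?_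
      have h1 := hc (x + y)
      rw [mulVec_add, hc x, hc y] at h1
      show c (x + y) • p = (c x + c y) • p
      rw [add_smul]
      exact add_left_cancel (a := x + y) (by rw [← h1]; abel)
    have hiso : ∀ x, c x = 1 → pol Q x p = Q p := fun x h => by
      have h1 := mem_iso.1 g.2 x
      rw [hc, h, one_smul, qadd hQ, add_assoc, add_eq_left, add_eq_zero_iff_eq_neg,
        ZModModule.neg_eq_self] at h1
      exact h1.symm
    obtain ⟨x0, hx0⟩ : ∃ x0, c x0 = 1 := by
      by_contra hno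
      push Not at hno
      have h1 : (g.1 : Matrix ι ι (ZMod 2)) = 1 := Matrix.ext_iff_mulVec.2 fun x => by
        rw [hc, (zmod_cases _).resolve_right (hno x), zero_smul, add_zero, one_mulVec]
      rw [h1, sub_self, Matrix.rank_zero] at hg
      exact zero_ne_one hg
    have hkey : ∀ x, pol Q x p = Q p * c x := fun x => by
      rcases zmod_cases (c x) with h | h
      · have h1 := hiso (x + x0) (by rw [hadd, h, hx0, zero_add])
        rw [padd_left hQ, hiso x0 hx0, add_eq_right] at h1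
        rw [h1, h, mul_zero]
      · rw [hiso x h, h, mul_one]
    have hQp : Q p = 1 := (zmod_cases _).resolve_left fun h => by
      obtain ⟨x, hx⟩ := (hQ.nondegenerate p hp).1
      exact hx (by rw [hkey, h, zero_mul])
    refine ⟨p, hQp, fun x => ?_⟩
    rw [hc, hkey, hQp, inv_one, one_mul, one_mul, sub_eq_add_neg, ← neg_smul, ZModModule.neg_eq_self]
  · rintro ⟨p, hp, hg⟩
    have e : (g.1 : Matrix ι ι (ZMod 2)) - 1 = vecMulVec p (pv hQ p) := Matrix.ext_iff_mulVec.2 fun x => by
      rw [sub_mulVec, refl_apply hp hg, one_mulVec, add_sub_cancel_left, vecMulVec_mulVec, op_smul_eq_smul, pv_dot]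
    refine le_antisymm (e ▸ Matrix.rank_vecMulVec_le _ _) (Nat.one_le_iff_ne_zero.2 fun h0 => ?_)
    rw [Matrix.rank, Submodule.finrank_eq_zero, LinearMap.range_eq_bot] at h0
    refine refl_ne_one hQ hp hg (gl_ext_vec fun x => ?_)
    have h1 := LinearMap.congr_fun h0 x
    rw [Matrix.mulVecLin_apply, sub_mulVec, one_mulVec, LinearMap.zero_apply, sub_eq_zero] at h1
    rw [h1, Units.val_one, one_mulVec]

theorem isThreeTranspositionClass (hn : 6 ≤ Fintype.card ι) :
    Cfsg.IsThreeTranspositionClass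
      {g : ↥(Cfsg.isometryGroup (ZMod 2) Q) | ((g.1 : Matrix ι ι (ZMod 2)) - 1).rank = 1} := by
  classical
  set D := {g : ↥(Cfsg.isometryGroup (ZMod 2) Q) | ((g.1 : Matrix ι ι (ZMod 2)) - 1).rank = 1} with hD
  have hmem : ∀ g, g ∈ D ↔ ∃ p, Q p = 1 ∧ IsRefl Q p g.1 := rank_one_iff hQ
  have step : ∀ {p r : ι → ZMod 2} {g k : ↥(Cfsg.isometryGroup (ZMod 2) Q)}, Q p = 1 → Q r = 1 →
      IsRefl Q p g.1 → IsRefl Q r k.1 → pol Q p r = 1 → IsConj g k := by
    intro p r g k hp hr hg hk h
    refine isConj_iff.2 ⟨g * k, ?_⟩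
    have hb : g * k * g = k * g * k := Subtype.ext (braid hQ hp hr hg hk g.2 k.2 h)
    rw [_root_.mul_inv_rev, ← mul_assoc, hb]
    group
  have hconj : ∀ d ∈ D, ∀ e ∈ D, IsConj d e := by
    intro d hd e he
    obtain ⟨p, hp, hd'⟩ := (hmem d).1 hd
    obtain ⟨r, hr, he'⟩ := (hmem e).1 he
    obtain ⟨z, hz, hzp, hzr⟩ := exists_link hQ hn hp hr
    obtain ⟨t, ht, ht'⟩ := exists_refl hQ (v := z) (by rw [hz]; exact one_ne_zero)
    exact (step hp hz hd' (k := ⟨t, ht⟩) ht' (by rw [pcomm]; exact hzp)).trans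
      (step hz hr (g := ⟨t, ht⟩) ht' he' hzr)
  have hgen : Subgroup.closure D = ⊤ := by
    refine eq_top_iff.2 fun g _ => ?_
    have h1 := iso_le_reflGroup hQ (Or.inr (by omega)) g.2
    have h2 : reflGroup Q ≤ (Subgroup.closure D).map (Cfsg.isometryGroup (ZMod 2) Q).subtype := by
      rw [reflGroup, Subgroup.closure_le]
      rintro t ⟨ht, v, hv, htv⟩
      exact ⟨⟨t, ht⟩, Subgroup.subset_closure ((hmem _).2 ⟨v, (zmod_cases _).resolve_left hv, htv⟩), rfl⟩
    obtain ⟨g', hg', e⟩ := h2 h1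
    rwa [← Subtype.ext (a1 := g') e]
  refine ⟨⟨fun d hd => ?_, fun d hd e he => ?_⟩, ?_, hgen⟩
  · obtain ⟨p, hp, hd'⟩ := (hmem d).1 hd
    exact orderOf_eq_prime (by rw [pow_two]; exact Subtype.ext (refl_sq hQ hp hd'))
      fun e => refl_ne_one hQ hp hd' (congrArg Subtype.val e)
  · obtain ⟨p, hp, hd'⟩ := (hmem d).1 hd
    obtain ⟨r, hr, he'⟩ := (hmem e).1 he
    have hdd : d * d = 1 := Subtype.ext (refl_sq hQ hp hd')
    have hee : e * e = 1 := Subtype.ext (refl_sq hQ hr he')
    rcases zmod_cases (pol Q p r) with h | h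
    · left
      have hc : Commute d e := Subtype.ext (commute hQ hp hr hd' he' d.2 h)
      rw [hc.mul_pow, pow_two, pow_two, hdd, hee, one_mul]
    · right
      have hb : d * e * d = e * d * e := Subtype.ext (braid hQ hp hr hd' he' d.2 e.2 h)
      calc (d * e) ^ 3 = d * e * d * (e * d * e) := by simp only [pow_succ, pow_zero, one_mul, mul_assoc]
        _ = d * e * d * (d * e * d) := by rw [hb]
        _ = d * (e * (d * d) * e) * d := by simp only [mul_assoc]
        _ = 1 := by rw [hdd, mul_one, hee, mul_one, hdd]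
  · haveI : Nonempty ι := Fintype.card_pos_iff.1 (by omega)
    obtain ⟨p, -, hp⟩ := exists_nonsingular hQ (ndOn_top hQ) top_ne_bot
    obtain ⟨t, ht, ht'⟩ := exists_refl hQ hp
    have hdD : (⟨t, ht⟩ : ↥(Cfsg.isometryGroup (ZMod 2) Q)) ∈ D :=
      (hmem _).2 ⟨p, (zmod_cases _).resolve_left hp, ht'⟩
    refine ⟨_, hdD, Set.ext fun e => ⟨fun he => hconj _ hdD e he, fun he => ?_⟩⟩
    obtain ⟨A, rfl⟩ := isConj_iff.1 (show IsConj _ e from he)
    exact (hmem _).2 ⟨(A.1 : Matrix ι ι (ZMod 2)) *ᵥ p,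
      (mem_iso.1 A.2 p).trans ((zmod_cases _).resolve_left hp), ht'.conj A.2⟩

end CfsgLib.Orth.TransvThree
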