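import Cfsg.Agent.Lib.Perm.Trans.QuadB
import Mathlib.LinearAlgebra.Matrix.Determinant.Basic
import Mathlib.GroupTheory.QuotientGroup.Basic

/-!
# The Wall form of an isometry: spinor norm and parity

For an isometry `g` with displacement `D x = x - g x` the pairing `(x, y) ↦ pol Q x (D y)` is non-degenerate modulo the
fixed space.  The square class of its determinant is the spinor norm and the rank of `D` gives the Dickson invariant.
-/

set_option autoImplicit false
set_option linter.all false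

namespace CfsgLib.Orth

open scoped Matrix
open Matrix Cfsg.Geo CfsgLib.Perm.Asch CfsgLib.Perm.Trans CfsgLib.Perm.Trans.Quad

variable {ι : Type} [Fintype ι] [DecidableEq ι] {F : Type*} [Field F]
variable {Q : (ι → F) → F}

local notation "pol" => QuadraticMap.polar

/-- the displacement `x ↦ x - g x` -/
def disp (g : GL ι F) : (ι → F) →ₗ[F] (ι → F) :=
  LinearMap.id - Matrix.mulVecLin (g : Matrix ι ι F)

theorem disp_apply (g : GL ι F) (x : ι → F) : disp g x = x - (g : Matrix ι ι F) *ᵥ x := rfl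

/-- the moved space `range (1 - g)` -/
abbrev moved (g : GL ι F) : Submodule F (ι → F) := LinearMap.range (disp g)

/-- the fixed space -/
abbrev fixd (g : GL ι F) : Submodule F (ι → F) := LinearMap.ker (disp g)

/-- the rank of `1 - g` -/
noncomputable def wrk (g : GL ι F) : ℕ := Module.finrank F (moved g)

/-- the group of square classes -/
def SqClass (F : Type*) [Field F] : Type _ := Fˣ ⧸ (powMonoidHom 2 : Fˣ →* Fˣ).range

noncomputable instance (F : Type*) [Field F] : CommGroup (SqClass F) :=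
  inferInstanceAs (CommGroup (Fˣ ⧸ (powMonoidHom 2 : Fˣ →* Fˣ).range))

/-- the projection onto square classes -/
def sqMk (F : Type*) [Field F] : Fˣ →* SqClass F := QuotientGroup.mk' _

theorem sqMk_eq_one_iff {F : Type*} [Field F] {u : Fˣ} :
    sqMk F u = 1 ↔ u ∈ (powMonoidHom 2 : Fˣ →* Fˣ).range :=
  QuotientGroup.eq_one_iff u

open scoped _root_.Classical in
/-- the square class of a field element (trivial at zero) -/
noncomputable def sqc (a : F) : SqClass F := if h : a = 0 then 1 else sqMk F (Units.mk0 a h)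

theorem sqc_mul {a b : F} (ha : a ≠ 0) (hb : b ≠ 0) : sqc (a * b) = sqc a * sqc b := by
  unfold sqc
  rw [dif_neg ha, dif_neg hb, dif_neg (mul_ne_zero ha hb), ← map_mul]
  congr 1
  exact Units.ext rfl

theorem sqc_one : sqc (1 : F) = 1 := by
  unfold sqc
  rw [dif_neg one_ne_zero, Units.mk0_one, map_one]

theorem sqc_eq_one_iff {a : F} (ha : a ≠ 0) : sqc a = 1 ↔ IsSquare a := by
  unfold sqc
  rw [dif_neg ha, sqMk_eq_one_iff]
  constructor
  · rintro ⟨u, hu⟩
    refine ⟨(u : F), ?_⟩
    have h := congrArg Units.val hu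
    simp only [powMonoidHom_apply, Units.val_pow_eq_pow_val, Units.val_mk0] at h
    rw [← h, sq]
  · rintro ⟨r, hr⟩
    refine ⟨Units.mk0 r (fun h => ha (by rw [hr, h, mul_zero])), Units.ext ?_⟩
    simp [hr, sq]

theorem sqc_mul_self {a : F} (ha : a ≠ 0) : sqc a * sqc a = 1 := by
  rw [← sqc_mul ha ha, sqc_eq_one_iff (mul_ne_zero ha ha)]
  exact ⟨a, rfl⟩

theorem sqc_sq_mul {a b : F} (ha : a ≠ 0) (hb : b ≠ 0) : sqc (a * b * a) = sqc b := by
  rw [sqc_mul (mul_ne_zero ha hb) ha, sqc_mul ha hb, mul_comm (sqc a), mul_assoc, sqc_mul_self ha, mul_one]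

theorem sqc_self_mul_cancel {a : F} (ha : a ≠ 0) (x : SqClass F) : sqc a * (sqc a * x) = x := by
  rw [← mul_assoc, sqc_mul_self ha, one_mul]

/-- the Gram matrix of the Wall form on a family -/
def wallMat (Q : (ι → F) → F) (g : GL ι F) {κ : Type*} (w : κ → ι → F) : Matrix κ κ F :=
  Matrix.of fun i j => pol Q (w i) (disp g (w j))

variable (hQ : IsNondegenerateQuadraticForm Q)
include hQ

/-- `x ↦ pol Q u x` -/
def pfr (u : ι → F) : (ι → F) →ₗ[F] F where
  toFun x := pol Q u x
  map_add' x y := padd_right hQ u x y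
  map_smul' c x := psmul_right hQ c u x

theorem pol_sum_left {κ : Type*} [Fintype κ] (c : κ → F) (w : κ → ι → F) (z : ι → F) :
    pol Q (∑ i, c i • w i) z = ∑ i, c i * pol Q (w i) z := by
  show pfl hQ z (∑ i, c i • w i) = _
  rw [map_sum]
  exact Finset.sum_congr rfl fun i _ => by rw [map_smul]; rfl

theorem pol_sum_right {κ : Type*} [Fintype κ] (c : κ → F) (w : κ → ι → F) (z : ι → F) :
    pol Q z (∑ i, c i • w i) = ∑ i, c i * pol Q z (w i) := by
  show pfr hQ z (∑ i, c i • w i) = _
  rw [map_sum]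
  exact Finset.sum_congr rfl fun i _ => by rw [map_smul]; rfl

variable {g : GL ι F} (hg : g ∈ Cfsg.isometryGroup F Q)
include hg

theorem pol_fix_disp {k : ι → F} (hk : k ∈ fixd g) (y : ι → F) : pol Q k (disp g y) = 0 := by
  have h : (g : Matrix ι ι F) *ᵥ k = k := (sub_eq_zero.1 (LinearMap.mem_ker.1 hk)).symm
  rw [disp_apply, psub_right hQ]
  conv_lhs => arg 2; rw [← h]
  rw [iso_pol hg, sub_self]

theorem mem_moved_iff [Fintype F] {u : ι → F} : u ∈ moved g ↔ ∀ k ∈ fixd g, pol Q k u = 0 := by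
  have hle : moved g ≤ qperp hQ (fixd g) := by
    rintro _ ⟨y, rfl⟩ k hk
    rw [pcomm]
    exact pol_fix_disp hQ hg hk y
  have heq : moved g = qperp hQ (fixd g) := by
    refine Submodule.eq_of_le_of_finrank_le hle ?_
    have h1 : Module.finrank F ↥(moved g) + Module.finrank F ↥(fixd g) = Module.finrank F (ι → F) :=
      LinearMap.finrank_range_add_finrank_ker (disp g)
    rw [Module.finrank_fintype_fun_eq_card] at h1
    have h2 : Module.finrank F ↥(qperp hQ (fixd g)) + Module.finrank F (fixd g) ≤ Fintype.card ι := by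
      let T : (ι → F) →ₗ[F] (↥(fixd g) →ₗ[F] F) :=
        { toFun := fun v => (pfl hQ v).comp (fixd g).subtype
          map_add' := fun a b => LinearMap.ext fun x => padd_right hQ (x : ι → F) a b
          map_smul' := fun c a => LinearMap.ext fun x => psmul_right hQ c (x : ι → F) a }
      have hsurj : Function.Surjective T := fun φ => by
        obtain ⟨ψ, hψ⟩ := LinearMap.exists_extend φ
        obtain ⟨p, hp⟩ := exists_prep hQ (fvec ψ)
        refine ⟨p, LinearMap.ext fun x => ?_⟩
        show pol Q (x : ι → F) p = φ x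
        rw [hp, fvec_dot, ← hψ]
        rfl
      have hk : qperp hQ (fixd g) ≤ LinearMap.ker T := fun v hv => LinearMap.mem_ker.2 (LinearMap.ext fun x => by
        show pol Q (x : ι → F) v = 0
        rw [pcomm]; exact hv x x.2)
      have h3 := LinearMap.finrank_range_add_finrank_ker T
      rw [LinearMap.range_eq_top.2 hsurj, finrank_top, Module.finrank_fintype_fun_eq_card] at h3
      have h4 : Module.finrank F (↥(fixd g) →ₗ[F] F) = Module.finrank F (fixd g) := Subspace.dual_finrank_eq
      have h5 := Submodule.finrank_mono hk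
      omega
    omega
  rw [heq]
  exact ⟨fun h k hk => by rw [pcomm]; exact h k hk, fun h k hk => by rw [pcomm]; exact h k hk⟩

theorem wall_congr {x x' y : ι → F} (h : disp g x = disp g x') : pol Q x (disp g y) = pol Q x' (disp g y) := by
  rw [← sub_eq_zero, ← psub_left hQ]
  exact pol_fix_disp hQ hg (LinearMap.mem_ker.2 (by rw [map_sub, h, sub_self])) y

theorem wallMat_det_ne {κ : Type*} [Fintype κ] [DecidableEq κ] {w : κ → ι → F}
    (hli : LinearIndependent F fun i => disp g (w i)) (hsp : moved g ≤ Submodule.span F (Set.range fun i => disp g (w i))) :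
    (wallMat Q g w).det ≠ 0 := by
  intro h0
  obtain ⟨c, hc, hc0⟩ := Matrix.exists_mulVec_eq_zero_iff.2 h0
  refine hc (funext fun i => Fintype.linearIndependent_iff.1 hli c ?_ i)
  by_contra hne
  obtain ⟨⟨z, hz⟩, -⟩ := hQ.nondegenerate _ hne
  obtain ⟨a, ha⟩ := (Submodule.mem_span_range_iff_exists_fun F).1 (hsp ⟨z, rfl⟩)
  have e1 : ∑ i, c i • disp g (w i) = disp g (∑ i, c i • w i) := by simp only [map_sum, map_smul]
  have e2 : disp g z = disp g (∑ i, a i • w i) := by simp only [map_sum, map_smul]; exact ha.symm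
  apply hz
  rw [e1, wall_congr hQ hg e2, ← e1, pol_sum_left hQ]
  refine Finset.sum_eq_zero fun j _ => ?_
  rw [pol_sum_right hQ]
  have hj : (wallMat Q g w *ᵥ c) j = 0 := by rw [hc0]; rfl
  simp only [Matrix.mulVec, dotProduct, wallMat, Matrix.of_apply] at hj
  rw [show (∑ i, c i * pol Q (w j) (disp g (w i))) = ∑ i, pol Q (w j) (disp g (w i)) * c i from
    Finset.sum_congr rfl fun i _ => mul_comm _ _, hj, mul_zero]

omit hQ hg in
/-- a lifted basis of the moved space -/
theorem exists_frame (g : GL ι F) : ∃ w : Fin (wrk g) → ι → F,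
    LinearIndependent F (fun i => disp g (w i)) ∧ moved g ≤ Submodule.span F (Set.range fun i => disp g (w i)) := by
  let b : Module.Basis (Fin (wrk g)) F (moved g) := Module.finBasis F (moved g)
  have hb : ∀ i, ∃ x, disp g x = (b i : ι → F) := fun i => (b i).2
  choose w hw using hb
  refine ⟨w, ?_, ?_⟩
  · rw [show (fun i => disp g (w i)) = (moved g).subtype ∘ (b : Fin (wrk g) → moved g) from funext hw]
    exact b.linearIndependent.map' (moved g).subtype (Submodule.ker_subtype _)
  · intro u hu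
    refine (Submodule.mem_span_range_iff_exists_fun F).2 ⟨fun i => b.repr ⟨u, hu⟩ i, ?_⟩
    refine (Finset.sum_congr rfl fun i _ => by rw [hw]; rfl).trans
      ((map_sum (moved g).subtype (fun i => b.repr ⟨u, hu⟩ i • b i) Finset.univ).symm.trans
        (congrArg (moved g).subtype (b.sum_repr ⟨u, hu⟩)))

omit hg in
/-- the spinor norm -/
noncomputable def spn (Q : (ι → F) → F) (g : GL ι F) : SqClass F :=
  sqc (wallMat Q g (exists_frame g).choose).det

/-- any lifted basis computes rank and spinor norm -/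
theorem spn_eq_det {k : ℕ} {w : Fin k → ι → F} (hli : LinearIndependent F fun i => disp g (w i))
    (hsp : moved g ≤ Submodule.span F (Set.range fun i => disp g (w i))) :
    wrk g = k ∧ spn Q g = sqc (wallMat Q g w).det := by
  obtain ⟨hli', hsp'⟩ := (exists_frame g).choose_spec
  have hmv : moved g = Submodule.span F (Set.range fun i => disp g (w i)) :=
    le_antisymm hsp (Submodule.span_le.2 (Set.range_subset_iff.2 fun i => ⟨w i, rfl⟩))
  have hk : wrk g = k := by
    unfold wrk
    rw [hmv, finrank_span_eq_card hli, Fintype.card_fin]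
  refine ⟨hk, ?_⟩
  generalize hw' : (exists_frame g).choose = w' at hli' hsp'
  have hC : ∀ j, ∃ a : Fin k → F, ∑ i, a i • disp g (w i) = disp g (w' j) := fun j =>
    (Submodule.mem_span_range_iff_exists_fun F).1 (hsp ⟨w' j, rfl⟩)
  choose C hC using hC
  obtain ⟨P, hP⟩ : ∃ P : Matrix (Fin k) (Fin k) F, P = Matrix.of fun i j => C (Fin.cast hk.symm j) i := ⟨_, rfl⟩
  have hsub : (wallMat Q g w').submatrix (Fin.cast hk.symm) (Fin.cast hk.symm) = Pᵀ * wallMat Q g w * P := by
    ext a b
    have e1 : disp g (w' (Fin.cast hk.symm a)) = disp g (∑ i, P i a • w i) := by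
      simp only [map_sum, map_smul, hP, Matrix.of_apply]; exact (hC _).symm
    have e2 : disp g (w' (Fin.cast hk.symm b)) = ∑ j, P j b • disp g (w j) := by
      simp only [hP, Matrix.of_apply]; exact (hC _).symm
    simp only [Matrix.submatrix_apply, wallMat, Matrix.of_apply, Matrix.mul_apply, Matrix.transpose_apply]
    rw [wall_congr hQ hg e1, e2, pol_sum_left hQ]
    simp only [pol_sum_right hQ, Finset.mul_sum, Finset.sum_mul]
    rw [Finset.sum_comm]
    exact Finset.sum_congr rfl fun j _ => Finset.sum_congr rfl fun i _ => by ring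
  have hdet : (wallMat Q g w').det = P.det * (wallMat Q g w).det * P.det := by
    have h := congrArg Matrix.det hsub
    rw [Matrix.det_mul, Matrix.det_mul, Matrix.det_transpose] at h
    rw [← h]
    exact (Matrix.det_submatrix_equiv_self (finCongr hk.symm) _).symm
  have hw0 := wallMat_det_ne hQ hg hli hsp
  have hP0 : P.det ≠ 0 := by
    intro h0
    exact wallMat_det_ne hQ hg hli' hsp' (by rw [hdet, h0, mul_zero])
  rw [spn, hw', hdet, sqc_sq_mul hP0 hw0]

/-- the basic step: multiplying by the reflection of a moved vector drops the rank by one -/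
theorem wall_step [Fintype F] {r : GL ι F} (hr : r ∈ Cfsg.isometryGroup F Q) {v : ι → F} (hrv : IsRefl Q v r)
    (hv : Q v ≠ 0) (hvm : v ∈ moved g) :
    wrk g = wrk (r * g) + 1 ∧ spn Q g = sqc (Q v) * spn Q (r * g) ∧ moved (r * g) ≤ moved g := by
  have hh : r * g ∈ Cfsg.isometryGroup F Q := mul_mem hr hg
  obtain ⟨w0, hw0⟩ := hvm
  obtain ⟨c, hc⟩ : ∃ c : (ι → F) → F, c = fun x => (Q v)⁻¹ * pol Q ((g : Matrix ι ι F) *ᵥ x) v := ⟨_, rfl⟩
  have hD : ∀ x, disp (r * g) x = disp g x + c x • v := fun x => by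
    rw [disp_apply, disp_apply, gl_mul_mulVec, hrv, hc]; abel
  have hgw : (g : Matrix ι ι F) *ᵥ w0 = w0 - v := by rw [← hw0, disp_apply]; abel
  have hwv : pol Q w0 v = Q v := by
    have h := mem_iso.1 hg w0
    rw [hgw, qsub hQ] at h
    linear_combination -h
  have hgwv : pol Q ((g : Matrix ι ι F) *ᵥ w0) v = -Q v := by
    rw [hgw, psub_left hQ, hwv, pself hQ]; ring
  have hfix : w0 ∈ fixd (r * g) := by
    rw [LinearMap.mem_ker, hD, hc, hw0]
    simp only [hgwv]
    rw [show (Q v)⁻¹ * -Q v = -1 by field_simp, neg_one_smul, add_neg_cancel]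
  have hkey : ∀ x, pol Q w0 (disp g x) = -(c x * Q v) := fun x => by
    have e : pol Q w0 x = pol Q ((g : Matrix ι ι F) *ᵥ w0) ((g : Matrix ι ι F) *ᵥ x) := (iso_pol hg _ _).symm
    rw [disp_apply, psub_right hQ, e, ← psub_left hQ, hgw, show w0 - v - w0 = -v by abel, pneg_left hQ, pcomm v,
      hc]
    field_simp
  have hsub : moved (r * g) ≤ moved g := by
    rintro _ ⟨x, rfl⟩
    rw [hD, ← hw0, ← map_smul, ← map_add]
    exact ⟨_, rfl⟩
  have hvn : v ∉ moved (r * g) := fun h => hv (by rw [← hwv]; exact (mem_moved_iff hQ hh).1 h w0 hfix)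
  obtain ⟨w, hli, hsp⟩ := exists_frame (r * g)
  obtain ⟨-, hspn⟩ := spn_eq_det hQ hh hli hsp
  obtain ⟨w1, hw1⟩ : ∃ w1 : Fin (wrk (r * g) + 1) → ι → F, w1 = Fin.cons w0 w := ⟨_, rfl⟩
  have hspan : Submodule.span F (Set.range fun i => disp (r * g) (w i)) ≤ moved (r * g) :=
    Submodule.span_le.2 (Set.range_subset_iff.2 fun i => ⟨w i, rfl⟩)
  have hdg : ∀ x, disp g x = disp (r * g) x - c x • v := fun x => by rw [hD, add_sub_cancel_right]
  have hli1 : LinearIndependent F fun i => disp g (w1 i) := by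
    rw [Fintype.linearIndependent_iff]
    intro a ha
    rw [Fin.sum_univ_succ] at ha
    simp only [hw1, Fin.cons_zero, Fin.cons_succ, hw0, hdg, smul_sub, Finset.sum_sub_distrib, smul_smul] at ha
    have hmem : ∑ i, a (Fin.succ i) • disp (r * g) (w i) ∈ moved (r * g) :=
      Submodule.sum_mem _ fun i _ => Submodule.smul_mem _ _ ⟨w i, rfl⟩
    rw [← Finset.sum_smul] at ha
    obtain ⟨s, hs⟩ : ∃ s, s = a 0 - ∑ i, a (Fin.succ i) * c (w i) := ⟨_, rfl⟩
    have h2 : ∑ i, a (Fin.succ i) • disp (r * g) (w i) = -s • v := by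
      rw [hs, neg_smul, sub_smul]
      linear_combination (norm := module) ha
    have hs0 : s = 0 := by
      by_contra hs0
      refine hvn ?_
      rw [h2] at hmem
      have := Submodule.smul_mem _ (-s)⁻¹ hmem
      rwa [smul_smul, inv_mul_cancel₀ (neg_ne_zero.2 hs0), one_smul] at this
    rw [hs0, neg_zero, zero_smul] at h2
    have hz := Fintype.linearIndependent_iff.1 hli _ h2
    refine Fin.cases ?_ hz
    rw [hs] at hs0
    simpa [hz] using hs0
  have hsp1 : moved g ≤ Submodule.span F (Set.range fun i => disp g (w1 i)) := by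
    have hv1 : v ∈ Submodule.span F (Set.range fun i => disp g (w1 i)) :=
      Submodule.subset_span ⟨0, by simp [hw1, hw0]⟩
    rintro _ ⟨x, rfl⟩
    rw [hdg]
    refine Submodule.sub_mem _ ?_ (Submodule.smul_mem _ _ hv1)
    refine (Submodule.span_le.2 ?_) (hsp ⟨x, rfl⟩)
    rintro _ ⟨i, rfl⟩
    show disp (r * g) (w i) ∈ Submodule.span F (Set.range fun j => disp g (w1 j))
    rw [hD]
    exact Submodule.add_mem _ (Submodule.subset_span ⟨i.succ, by simp [hw1]⟩) (Submodule.smul_mem _ _ hv1)
  obtain ⟨hk, hs⟩ := spn_eq_det hQ hg hli1 hsp1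
  refine ⟨hk, ?_, hsub⟩
  have hdet : (wallMat Q g w1).det = Q v * (wallMat Q (r * g) w).det := by
    obtain ⟨T, hT⟩ : ∃ T : Matrix (Fin (wrk (r * g) + 1)) (Fin (wrk (r * g) + 1)) F,
        T = Matrix.of fun i => Fin.cons (pol Q (w1 i) v) fun j => pol Q (w1 i) (disp (r * g) (w j)) := ⟨_, rfl⟩
    obtain ⟨E, hE⟩ : ∃ E : Matrix (Fin (wrk (r * g) + 1)) (Fin (wrk (r * g) + 1)) F,
        E = Matrix.of (Fin.cons (Fin.cons 1 fun j => -c (w j))
          fun i => Fin.cons 0 fun j => if i = j then 1 else 0) := ⟨_, rfl⟩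
    have hTE : wallMat Q g w1 = T * E := by
      ext i j
      rw [Matrix.mul_apply, Fin.sum_univ_succ]
      refine Fin.cases ?_ (fun j' => ?_) j
      · simp [wallMat, hT, hE, hw1, hw0]
      · simp only [hT, hE, wallMat, Matrix.of_apply, Fin.cons_zero, Fin.cons_succ]
        rw [show w1 j'.succ = w j' by simp [hw1], hdg, psub_right hQ, psmul_right hQ]
        simp only [mul_ite, mul_one, mul_zero, Finset.sum_ite_eq', Finset.mem_univ, if_true]
        ring
    have hEdet : E.det = 1 := by
      rw [Matrix.det_succ_column_zero, Fin.sum_univ_succ]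
      have hsubm : E.submatrix (Fin.succAbove 0) Fin.succ = 1 := by
        ext i j
        simp [hE, Matrix.one_apply]
      rw [hsubm]
      simp [hE]
    have hTdet : T.det = Q v * (wallMat Q (r * g) w).det := by
      rw [Matrix.det_succ_row_zero, Fin.sum_univ_succ]
      have hz : ∀ j, T 0 (Fin.succ j) = 0 := fun j => by
        simp only [hT, hw1, Matrix.of_apply, Fin.cons_zero, Fin.cons_succ]
        rw [hD, padd_right hQ, psmul_right hQ, hkey, hwv]
        ring
      have hsubm : T.submatrix Fin.succ (Fin.succAbove 0) = wallMat Q (r * g) w := by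
        ext i j
        simp [hT, hw1, wallMat]
      rw [hsubm, Finset.sum_eq_zero fun j _ => by rw [hz]; ring]
      simp [hT, hw1, hwv]
    rw [hTE, Matrix.det_mul, hEdet, hTdet, mul_one]
  rw [hs, hdet, hspn, sqc_mul hv (wallMat_det_ne hQ hh hli hsp)]

/-- multiplication by any reflection -/
theorem refl_step [Fintype F] {r : GL ι F} (hr : r ∈ Cfsg.isometryGroup F Q) {v : ι → F} (hrv : IsRefl Q v r)
    (hv : Q v ≠ 0) :
    (wrk (r * g) + 1 = wrk g ∨ wrk g + 1 = wrk (r * g)) ∧ spn Q (r * g) = sqc (Q v) * spn Q g := by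
  by_cases hvm : v ∈ moved g
  · obtain ⟨h1, h2, -⟩ := wall_step hQ hg hr hrv hv hvm
    exact ⟨Or.inl h1.symm, by rw [h2, sqc_self_mul_cancel hv]⟩
  · have hh : r * g ∈ Cfsg.isometryGroup F Q := mul_mem hr hg
    have hrr : r * r = 1 := gl_ext_vec fun x => by
      rw [gl_mul_mulVec, hrv, hrv, Units.val_one, one_mulVec]
      simp only [psub_left hQ, psmul_left hQ, pself hQ v]
      match_scalars
      · ring
      · field_simp; ring
    have hvh : v ∈ moved (r * g) := by
      obtain ⟨k, hk, hkv⟩ : ∃ k ∈ fixd g, pol Q k v ≠ 0 := by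
        by_contra hcon
        push Not at hcon
        exact hvm ((mem_moved_iff hQ hg).2 hcon)
      have hgk : (g : Matrix ι ι F) *ᵥ k = k := (sub_eq_zero.1 (LinearMap.mem_ker.1 hk)).symm
      refine ⟨((Q v)⁻¹ * pol Q k v)⁻¹ • k, ?_⟩
      rw [map_smul, disp_apply, gl_mul_mulVec, hgk, hrv, sub_sub_cancel, smul_smul,
        inv_mul_cancel₀ (mul_ne_zero (inv_ne_zero hv) hkv), one_smul]
    obtain ⟨h1, h2, -⟩ := wall_step hQ hh hr hrv hv hvh
    rw [← mul_assoc, hrr, one_mul] at h1 h2
    exact ⟨Or.inr h1.symm, h2⟩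

omit hg in
theorem spn_one : wrk (1 : GL ι F) = 0 ∧ spn Q (1 : GL ι F) = 1 := by
  obtain ⟨h1, h2⟩ := spn_eq_det hQ (one_mem _) (g := 1) (k := 0) (w := Fin.elim0) linearIndependent_empty_type (by
    rintro _ ⟨x, rfl⟩
    rw [disp_apply, Units.val_one, one_mulVec, sub_self]
    exact Submodule.zero_mem _)
  exact ⟨h1, by rw [h2, Matrix.det_fin_zero, sqc_one]⟩

omit hg in
theorem refl_spn [Fintype F] {r : GL ι F} (hr : r ∈ Cfsg.isometryGroup F Q) {v : ι → F} (hrv : IsRefl Q v r)
    (hv : Q v ≠ 0) : wrk r = 1 ∧ spn Q r = sqc (Q v) := by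
  obtain ⟨h1, h2⟩ := refl_step hQ (one_mem (Cfsg.isometryGroup F Q)) hr hrv hv
  obtain ⟨e1, e2⟩ := spn_one hQ (ι := ι)
  rw [mul_one] at h1 h2
  exact ⟨by omega, by rw [h2, e2, mul_one]⟩

theorem eq_one_of_wrk_zero (h : wrk g = 0) : g = 1 := by
  have hbot : moved g = ⊥ := Submodule.finrank_eq_zero.1 h
  refine gl_ext_vec fun x => ?_
  have hx : disp g x = 0 := by
    have : disp g x ∈ moved g := ⟨x, rfl⟩
    rwa [hbot, Submodule.mem_bot] at this
  rw [Units.val_one, one_mulVec]
  exact (sub_eq_zero.1 hx).symm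

end CfsgLib.Orth
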